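import Cfsg.Agent.Lib.Classical.TensorWreath.Induct

set_option autoImplicit false
set_option linter.unusedSectionVars false

/-!
The stabiliser in `SL` of a decomposition into equal tensor factors is maximal.
-/

namespace CfsgLib.Classical.TensorWreath

open Matrix
open scoped MatrixGroups Kronecker

variable {F : Type*} [Field F] {m t : ℕ}

theorem mem_standard_iff [NeZero m] {g : GL (Ix (Fin t) m) F} :
    g ∈ Cfsg.Geo.tensorWreathStandard m t F ↔ Mono g.1 := by
  constructor
  · intro h
    suffices hle : Cfsg.Geo.tensorWreathStandard m t F ≤ monoGroup F (Fin t) m from hle h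
    refine (Subgroup.closure_le _).2 ?_
    rintro w (⟨gs, hw⟩ | ⟨σ, hw⟩)
    · show Mono w.1
      rw [show w.1 = pureM (fun i => (gs i).1) from Matrix.ext fun x y => hw x y]
      exact mono_pure _
    · show Mono w.1
      rw [show w.1 = permM F m σ from Matrix.ext fun x y => hw x y]
      exact mono_perm _
  · rintro ⟨h, σ, hv⟩
    have hd : (pureM h).det ≠ 0 := fun h0 => by
      have := ((Matrix.isUnit_iff_isUnit_det _).1 g.isUnit).ne_zero
      rw [hv, Matrix.det_mul, h0, zero_mul] at this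
      exact this rfl
    have e : g = Matrix.GeneralLinearGroup.mkOfDetNeZero (pureM h) hd * permU F m σ :=
      Units.ext (by rw [Units.val_mul]; exact hv)
    rw [e]
    refine Subgroup.mul_mem _ (Subgroup.subset_closure (Or.inl ?_)) (Subgroup.subset_closure (Or.inr ⟨σ, fun x y => rfl⟩))
    exact ⟨fun i => Matrix.GeneralLinearGroup.mkOfDetNeZero (h i) (det_ne_zero_of_pureM hd i), fun x y => rfl⟩

/-- A transvection which is not monomial. -/
theorem exists_not_mono {τ : Type} [Fintype τ] [DecidableEq τ] (hm : 2 ≤ m) (ht : 2 ≤ Fintype.card τ) :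
    ∃ g : GL (Ix τ m) F, g.1.det = 1 ∧ ¬ Mono g.1 := by
  classical
  haveI : Nonempty τ := Fintype.card_pos_iff.1 (by omega)
  let a : Fin m := ⟨0, by omega⟩
  let b : Fin m := ⟨1, by omega⟩
  have hab : a ≠ b := by simp [a, b, Fin.ext_iff]
  let x0 : Ix τ m := fun _ => a
  let y0 : Ix τ m := fun _ => b
  let l : τ := Classical.arbitrary τ
  have hne : x0 ≠ y0 := fun h => hab (congrFun h l)
  refine ⟨Matrix.SpecialLinearGroup.toGL (SpecialLinearGroup.transvection hne 1),
    (SpecialLinearGroup.transvection hne (1 : F)).2, ?_⟩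
  rintro ⟨h, σ, hv⟩
  have hent : ∀ x z, (1 + Matrix.single x0 y0 (1 : F) : Matrix (Ix τ m) (Ix τ m) F) x z = ∏ j, h j (x j) (z (σ.symm j)) :=
    fun x z => by
    have := congrFun₂ hv x z
    rw [show (Matrix.SpecialLinearGroup.toGL (SpecialLinearGroup.transvection hne (1 : F))).1 =
      1 + Matrix.single x0 y0 (1 : F) from SpecialLinearGroup.transvection_coe hne 1, mul_permM_apply] at this
    exact this
  have h1 := hent x0 x0
  have h2 := hent x0 y0
  rw [Matrix.add_apply, Matrix.one_apply_eq, Matrix.single_apply, if_neg (fun h => hne h.2.symm), add_zero] at h1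
  rw [Matrix.add_apply, Matrix.one_apply_ne hne, Matrix.single_apply_same, zero_add] at h2
  obtain ⟨o, ho⟩ := Fintype.exists_ne_of_one_lt_card (show 1 < Fintype.card τ by omega) l
  set z : Ix τ m := Function.update x0 l b with hz
  have z1 : x0 ≠ z := fun e => hab (by simpa [hz, x0] using congrFun e l)
  have z2 : y0 ≠ z := fun e => hab (by simpa [hz, x0, y0, ho] using (congrFun e o).symm)
  have h3 := hent x0 z
  rw [Matrix.add_apply, Matrix.one_apply_ne z1, Matrix.single_apply, if_neg (fun h => z2 h.2), add_zero, eq_comm,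
    Finset.prod_eq_zero_iff] at h3
  obtain ⟨j, -, hj⟩ := h3
  by_cases hjl : σ.symm j = l
  · rw [hjl, hz, Function.update_self] at hj
    rw [Finset.prod_eq_zero (Finset.mem_univ j) (show h j (x0 j) (y0 (σ.symm j)) = 0 from hj)] at h2
    exact one_ne_zero h2
  · rw [hz, Function.update_of_ne hjl] at hj
    rw [Finset.prod_eq_zero (Finset.mem_univ j) hj] at h1
    exact one_ne_zero h1

variable [Fintype F]

/-- Maximality. -/
theorem isMaximalIn {n : ℕ} (hm : 3 ≤ m) (ht : 2 ≤ t) (e : Fin n ≃ (Fin t → Fin m)) (P : GL (Fin n) F) :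
    Cfsg.Geo.IsMaximalIn (Cfsg.Geo.specialLinear (Fin n) F)
      (Cfsg.Geo.tensorWreathSubgroup m t e P ⊓ Cfsg.Geo.specialLinear (Fin n) F) := by
  classical
  haveI : NeZero m := ⟨by omega⟩
  set φ : GL (Ix (Fin t) m) F ≃* GL (Fin n) F :=
    (Cfsg.Geo.glReindex (F := F) e.symm).trans (MulAut.conj P) with hφ
  have hdet : ∀ g, (φ g).1.det = g.1.det := fun g => by
    show (P.1 * Matrix.reindexAlgEquiv F F e.symm g.1 * (P⁻¹).1).det = _
    rw [Matrix.det_mul, Matrix.det_mul, Matrix.det_reindexAlgEquiv, mul_comm P.1.det, mul_assoc,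
      ← Matrix.det_mul, P.mul_inv, Matrix.det_one, mul_one]
  have hsl : ∀ g, φ g ∈ Cfsg.Geo.specialLinear (Fin n) F ↔ g.1.det = 1 := fun g => by
    rw [← hdet g]
    show Matrix.GeneralLinearGroup.det (φ g) = 1 ↔ _
    rw [Units.ext_iff]
    rfl
  have hkr : ∀ g, φ g ∈ Cfsg.Geo.tensorWreathSubgroup m t e P ↔ Mono g.1 := by
    intro g
    constructor
    · rintro ⟨_, ⟨x, hx, rfl⟩, hx'⟩
      have : x = g := φ.injective hx'
      exact this ▸ mem_standard_iff.1 hx
    · intro h
      exact ⟨_, ⟨g, mem_standard_iff.2 h, rfl⟩, rfl⟩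
  obtain ⟨x, hx1, hx2⟩ := exists_not_mono (F := F) (τ := Fin t) (m := m) (by omega) (by simpa using ht)
  refine ⟨lt_of_le_of_ne inf_le_right fun hh => hx2 ((hkr x).1 ?_), fun K hK hK' => ?_⟩
  · have := (hsl x).2 hx1
    rw [← hh] at this
    exact this.1
  set M : Subgroup (GL (Ix (Fin t) m) F) := K.comap φ.toMonoidHom with hM
  have H : Hyp M :=
    { det_one := fun g hg => (hsl g).1 (hK' hg)
      mono := fun g hd hg => hK ⟨(hkr g).2 hg, (hsl g).2 hd⟩ }
  by_cases hall : ∀ g ∈ M, Mono g.1
  · refine Or.inl (le_antisymm (fun y hy => ?_) hK)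
    obtain ⟨g, rfl⟩ := φ.surjective y
    exact ⟨(hkr g).2 (hall g hy), hK' hy⟩
  · push Not at hall
    obtain ⟨g, hg, hgm⟩ := hall
    refine Or.inr (le_antisymm hK' fun y hy => ?_)
    obtain ⟨z, rfl⟩ := φ.surjective y
    exact top_of_not_mono hm (by simpa using ht) H hg hgm z ((hsl z).1 hy)

end CfsgLib.Classical.TensorWreath
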