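import Mathlib
import Cfsg.Prelude.Def_GeometricClasses

set_option autoImplicit false
set_option linter.unusedSectionVars false

/-!
Tensor powers: matrices indexed by functions `τ → Fin m`, pure tensors, permutations of the factors,
and the calculus at one factor.
-/

namespace CfsgLib.Classical.TensorWreath

open Matrix
open scoped MatrixGroups Kronecker

variable {F : Type*} [Field F] {τ : Type} [Fintype τ] [DecidableEq τ] {m : ℕ}

/-- The index set of a tensor power. -/
abbrev Ix (τ : Type) (m : ℕ) := τ → Fin m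

/-- The other factors. -/
abbrev Rest (i : τ) := {j : τ // j ≠ i}

/-- The tensor product of the `g i`. -/
def pureM (g : τ → Matrix (Fin m) (Fin m) F) : Matrix (Ix τ m) (Ix τ m) F :=
  Matrix.of fun x y => ∏ i, g i (x i) (y i)

/-- The permutation of the factors. -/
def permM (F : Type*) [Field F] (m : ℕ) (σ : Equiv.Perm τ) : Matrix (Ix τ m) (Ix τ m) F :=
  Matrix.of fun x y => if y = x ∘ σ then 1 else 0

theorem pureM_apply (g : τ → Matrix (Fin m) (Fin m) F) (x y : Ix τ m) :
    pureM g x y = ∏ i, g i (x i) (y i) := rfl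

theorem pureM_mul (g h : τ → Matrix (Fin m) (Fin m) F) : pureM g * pureM h = pureM (g * h) := by
  ext x z
  rw [Matrix.mul_apply]
  simp only [pureM_apply, Pi.mul_apply, Matrix.mul_apply, Fintype.prod_sum, ← Finset.prod_mul_distrib]

theorem pureM_one : pureM (1 : τ → Matrix (Fin m) (Fin m) F) = 1 := by
  ext x y
  rw [pureM_apply]
  by_cases h : x = y
  · subst h; simp
  · obtain ⟨i, hi⟩ := Function.ne_iff.1 h
    rw [Matrix.one_apply_ne h]
    exact Finset.prod_eq_zero (Finset.mem_univ i) (by simp [Matrix.one_apply_ne hi])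

theorem permM_mul_apply (σ : Equiv.Perm τ) (M : Matrix (Ix τ m) (Ix τ m) F) (x z : Ix τ m) :
    (permM F m σ * M) x z = M (x ∘ σ) z := by
  simp [permM, Matrix.mul_apply, ite_mul]

theorem mul_permM_apply (σ : Equiv.Perm τ) (M : Matrix (Ix τ m) (Ix τ m) F) (x z : Ix τ m) :
    (M * permM F m σ) x z = M x (z ∘ σ.symm) := by
  rw [Matrix.mul_apply, Fintype.sum_eq_single (z ∘ σ.symm)]
  · simp [permM, Function.comp_assoc]
  · intro y hy
    have : ¬ z = y ∘ σ := fun e => hy (by rw [e, Function.comp_assoc]; simp)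
    simp [permM, this]

theorem permM_one : permM F m (1 : Equiv.Perm τ) = 1 := by
  ext x y
  simp [permM, Matrix.one_apply, eq_comm]

theorem permM_mul (σ σ' : Equiv.Perm τ) : permM F m σ * permM F m σ' = permM F m (σ * σ') := by
  ext x z
  rw [permM_mul_apply]
  simp only [permM, Matrix.of_apply, Function.comp_assoc, Equiv.Perm.coe_mul]
  congr

theorem permM_mul_pureM (σ : Equiv.Perm τ) (g : τ → Matrix (Fin m) (Fin m) F) :
    permM F m σ * pureM g = pureM (fun j => g (σ.symm j)) * permM F m σ := by
  ext x z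
  rw [permM_mul_apply, mul_permM_apply, pureM_apply, pureM_apply, ← Equiv.prod_comp σ.symm]
  simp

/-- Monomial with respect to the tensor decomposition. -/
def Mono (g : Matrix (Ix τ m) (Ix τ m) F) : Prop :=
  ∃ (gs : τ → Matrix (Fin m) (Fin m) F) (σ : Equiv.Perm τ), g = pureM gs * permM F m σ

theorem mono_pure (g : τ → Matrix (Fin m) (Fin m) F) : Mono (pureM g) :=
  ⟨g, 1, by rw [permM_one, mul_one]⟩

theorem mono_perm (σ : Equiv.Perm τ) : Mono (permM F m σ) :=
  ⟨1, σ, by rw [pureM_one, one_mul]⟩

theorem Mono.mul {g h : Matrix (Ix τ m) (Ix τ m) F} (hg : Mono g) (hh : Mono h) : Mono (g * h) := by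
  obtain ⟨a, σ, rfl⟩ := hg
  obtain ⟨b, ρ, rfl⟩ := hh
  refine ⟨a * fun j => b (σ.symm j), σ * ρ, ?_⟩
  rw [← pureM_mul, ← permM_mul, mul_assoc (pureM a), ← mul_assoc (permM F m σ), permM_mul_pureM]
  simp only [mul_assoc]

/-- One matrix at the factor `i`. -/
def embM (i : τ) (b : Matrix (Fin m) (Fin m) F) : Matrix (Ix τ m) (Ix τ m) F :=
  pureM (Function.update 1 i b)

theorem embM_mul (i : τ) (b c : Matrix (Fin m) (Fin m) F) : embM i b * embM i c = embM i (b * c) := by
  rw [embM, embM, embM, pureM_mul, ← Function.update_mul, one_mul]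

theorem embM_one (i : τ) : embM i (1 : Matrix (Fin m) (Fin m) F) = 1 := by
  rw [embM, show Function.update (1 : τ → Matrix (Fin m) (Fin m) F) i 1 = 1 from Function.update_eq_self i 1,
    pureM_one]

theorem embM_apply (i : τ) (b : Matrix (Fin m) (Fin m) F) (x y : Ix τ m) :
    embM i b x y = if ∀ j, j ≠ i → x j = y j then b (x i) (y i) else 0 := by
  rw [embM, pureM_apply, ← Finset.mul_prod_erase _ _ (Finset.mem_univ i), Function.update_self]
  split_ifs with h
  · rw [Finset.prod_eq_one fun j hj => ?_, mul_one]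
    rw [Function.update_of_ne (Finset.ne_of_mem_erase hj), Pi.one_apply, h j (Finset.ne_of_mem_erase hj),
      Matrix.one_apply_eq]
  · push Not at h
    obtain ⟨j, hj, hne⟩ := h
    rw [Finset.prod_eq_zero (Finset.mem_erase.2 ⟨hj, Finset.mem_univ _⟩) ?_, mul_zero]
    rw [Function.update_of_ne hj, Pi.one_apply, Matrix.one_apply_ne hne]

theorem pureM_update (g : τ → Matrix (Fin m) (Fin m) F) (i : τ) :
    pureM g = pureM (Function.update g i 1) * embM i (g i) := by
  rw [embM, pureM_mul, ← Function.update_mul, one_mul, mul_one, Function.update_eq_self]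

theorem embM_comm {i j : τ} (h : i ≠ j) (b c : Matrix (Fin m) (Fin m) F) :
    embM i b * embM j c = embM j c * embM i b := by
  rw [embM, embM, pureM_mul, pureM_mul]
  congr 1
  funext l
  by_cases hi : l = i
  · subst hi; simp [Function.update_of_ne h]
  · simp [Function.update_of_ne hi]

theorem permM_conj_embM (σ : Equiv.Perm τ) (i : τ) (b : Matrix (Fin m) (Fin m) F) :
    permM F m σ * embM i b = embM (σ i) b * permM F m σ := by
  rw [embM, permM_mul_pureM, embM]
  congr 2
  funext j
  by_cases h : σ.symm j = i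
  · rw [h, ← h, Equiv.apply_symm_apply, Function.update_self, Function.update_self]
  · rw [Function.update_of_ne h, Function.update_of_ne fun e => h (by rw [e, Equiv.symm_apply_apply])]
    rfl

/-- The splitting of the index set at the factor `i`. -/
def spl (i : τ) : Ix τ m ≃ Ix (Rest i) m × Fin m :=
  (Equiv.funSplitAt i (Fin m)).trans (Equiv.prodComm _ _)

theorem spl_apply (i : τ) (x : Ix τ m) : spl i x = ((fun j : Rest i => x j), x i) := rfl

/-- The Kronecker product at the factor `i`. -/
def ins (i : τ) (A : Matrix (Ix (Rest i) m) (Ix (Rest i) m) F) (b : Matrix (Fin m) (Fin m) F) :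
    Matrix (Ix τ m) (Ix τ m) F :=
  (A ⊗ₖ b).submatrix (spl i) (spl i)

theorem ins_apply (i : τ) (A : Matrix (Ix (Rest i) m) (Ix (Rest i) m) F) (b : Matrix (Fin m) (Fin m) F)
    (x y : Ix τ m) : ins i A b x y = A (fun j => x j) (fun j => y j) * b (x i) (y i) := rfl

theorem ins_mul (i : τ) (A A' : Matrix (Ix (Rest i) m) (Ix (Rest i) m) F) (b b' : Matrix (Fin m) (Fin m) F) :
    ins i A b * ins i A' b' = ins i (A * A') (b * b') := by
  rw [ins, ins, Matrix.submatrix_mul_equiv, ← Matrix.mul_kronecker_mul]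
  rfl

theorem ins_add_left (i : τ) (A A' : Matrix (Ix (Rest i) m) (Ix (Rest i) m) F) (b : Matrix (Fin m) (Fin m) F) :
    ins i (A + A') b = ins i A b + ins i A' b := by
  rw [ins, Matrix.add_kronecker]; rfl

theorem ins_add_right (i : τ) (A : Matrix (Ix (Rest i) m) (Ix (Rest i) m) F) (b b' : Matrix (Fin m) (Fin m) F) :
    ins i A (b + b') = ins i A b + ins i A b' := by
  rw [ins, Matrix.kronecker_add]; rfl

theorem ins_sub_left (i : τ) (A A' : Matrix (Ix (Rest i) m) (Ix (Rest i) m) F) (b : Matrix (Fin m) (Fin m) F) :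
    ins i (A - A') b = ins i A b - ins i A' b :=
  eq_sub_of_add_eq (by rw [← ins_add_left, sub_add_cancel])

theorem ins_sub_right (i : τ) (A : Matrix (Ix (Rest i) m) (Ix (Rest i) m) F) (b b' : Matrix (Fin m) (Fin m) F) :
    ins i A (b - b') = ins i A b - ins i A b' :=
  eq_sub_of_add_eq (by rw [← ins_add_right, sub_add_cancel])

theorem ins_smul_left (i : τ) (c : F) (A : Matrix (Ix (Rest i) m) (Ix (Rest i) m) F)
    (b : Matrix (Fin m) (Fin m) F) : ins i (c • A) b = c • ins i A b := by
  rw [ins, Matrix.smul_kronecker]; rfl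

theorem ins_smul_right (i : τ) (c : F) (A : Matrix (Ix (Rest i) m) (Ix (Rest i) m) F)
    (b : Matrix (Fin m) (Fin m) F) : ins i A (c • b) = c • ins i A b := by
  rw [ins, Matrix.kronecker_smul]; rfl

theorem embM_eq_ins (i : τ) (b : Matrix (Fin m) (Fin m) F) : embM i b = ins i 1 b := by
  ext x y
  rw [embM_apply, ins_apply]
  by_cases h : (fun j : Rest i => x j) = (fun j : Rest i => y j)
  · rw [if_pos fun j hj => congrFun h ⟨j, hj⟩, h, Matrix.one_apply_eq, one_mul]
  · rw [if_neg fun h' => h (funext fun j => h' j j.2), Matrix.one_apply_ne h, zero_mul]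

theorem ins_one_one (i : τ) :
    ins i (1 : Matrix (Ix (Rest i) m) (Ix (Rest i) m) F) (1 : Matrix (Fin m) (Fin m) F) = 1 := by
  rw [← embM_eq_ins, embM_one]

theorem embM_add (i : τ) (b c : Matrix (Fin m) (Fin m) F) : embM i (b + c) = embM i b + embM i c := by
  simp only [embM_eq_ins, ins_add_right]

theorem embM_sub (i : τ) (b c : Matrix (Fin m) (Fin m) F) : embM i (b - c) = embM i b - embM i c := by
  simp only [embM_eq_ins, ins_sub_right]

theorem embM_smul (i : τ) (c : F) (b : Matrix (Fin m) (Fin m) F) : embM i (c • b) = c • embM i b := by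
  simp only [embM_eq_ins, ins_smul_right]

theorem embM_zero (i : τ) : embM i (0 : Matrix (Fin m) (Fin m) F) = 0 := by
  ext x y; simp [embM_apply]

/-- `embM i` is linear. -/
def embL (i : τ) : Matrix (Fin m) (Fin m) F →ₗ[F] Matrix (Ix τ m) (Ix τ m) F where
  toFun := embM i
  map_add' := embM_add i
  map_smul' := embM_smul i

theorem embM_sum {κ : Type*} (s : Finset κ) (i : τ) (f : κ → Matrix (Fin m) (Fin m) F) :
    embM i (∑ x ∈ s, f x) = ∑ x ∈ s, embM i (f x) :=
  map_sum (embL i) f s

theorem card_rest [NeZero m] (i : τ) : Fintype.card (Ix (Rest i) m) = m ^ (Fintype.card τ - 1) := by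
  rw [Fintype.card_fun, Fintype.card_fin, Fintype.card_subtype_compl, Fintype.card_subtype_eq]

theorem card_ix [NeZero m] (i : τ) : Fintype.card (Ix τ m) = m * Fintype.card (Ix (Rest i) m) := by
  rw [Fintype.card_congr (spl i), Fintype.card_prod, Fintype.card_fin, mul_comm]

theorem det_ins (i : τ) (A : Matrix (Ix (Rest i) m) (Ix (Rest i) m) F) (b : Matrix (Fin m) (Fin m) F) :
    (ins i A b).det = A.det ^ m * b.det ^ Fintype.card (Ix (Rest i) m) := by
  rw [ins, Matrix.det_submatrix_equiv_self, Matrix.det_kronecker, Fintype.card_fin]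

theorem det_embM (i : τ) (b : Matrix (Fin m) (Fin m) F) :
    (embM i b).det = b.det ^ Fintype.card (Ix (Rest i) m) := by
  rw [embM_eq_ins, det_ins, Matrix.det_one, one_pow, one_mul]

theorem det_pureM [NeZero m] {g : τ → Matrix (Fin m) (Fin m) F} (h : ∀ i, (g i).det = 1) : (pureM g).det = 1 := by
  suffices H : ∀ (s : Finset τ) (g : τ → Matrix (Fin m) (Fin m) F), (∀ i, (g i).det = 1) →
      (∀ i ∉ s, g i = 1) → (pureM g).det = 1 from H Finset.univ g h fun i hi => absurd (Finset.mem_univ i) hi
  intro s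
  induction s using Finset.induction with
  | empty =>
    intro g _ h1
    rw [show g = 1 from funext fun i => h1 i (Finset.notMem_empty i), pureM_one, Matrix.det_one]
  | insert a s _ IH =>
    intro g hg h1
    rw [pureM_update g a, Matrix.det_mul, det_embM, hg a, one_pow, mul_one]
    refine IH _ (fun i => ?_) fun i hi => ?_
    · rw [Function.update_apply]; split_ifs
      · exact Matrix.det_one
      · exact hg i
    · rw [Function.update_apply]; split_ifs with hia
      · rfl
      · exact h1 i (by simp [hia, hi])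

theorem det_ne_zero_of_pureM [NeZero m] {g : τ → Matrix (Fin m) (Fin m) F} (h : (pureM g).det ≠ 0) (i : τ) :
    (g i).det ≠ 0 := by
  rw [pureM_update g i, Matrix.det_mul, det_embM] at h
  intro h0
  rw [h0, zero_pow Fintype.card_ne_zero, mul_zero] at h
  exact h rfl

theorem det_permM_sq (σ : Equiv.Perm τ) (h : σ * σ = 1) : (permM F m σ).det * (permM F m σ).det = 1 := by
  rw [← Matrix.det_mul, permM_mul, h, permM_one, Matrix.det_one]

theorem permM_mul_inv (σ : Equiv.Perm τ) : permM F m σ * permM F m σ⁻¹ = 1 := by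
  rw [permM_mul, mul_inv_cancel, permM_one]

theorem permM_inv_mul (σ : Equiv.Perm τ) : permM F m σ⁻¹ * permM F m σ = 1 := by
  rw [permM_mul, inv_mul_cancel, permM_one]

theorem Mono.inv [NeZero m] {g g' : Matrix (Ix τ m) (Ix τ m) F} (hg : Mono g) (h : g * g' = 1) : Mono g' := by
  obtain ⟨a, σ, rfl⟩ := hg
  have hd : (pureM a).det ≠ 0 := fun h0 => by
    have := congrArg Matrix.det h
    rw [Matrix.det_mul, Matrix.det_mul, h0, zero_mul, zero_mul, Matrix.det_one] at this
    exact zero_ne_one this
  have e : pureM (fun i => (a i)⁻¹) * pureM a = 1 := by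
    rw [pureM_mul]
    convert pureM_one (τ := τ) (m := m) (F := F) using 2
    funext i
    exact Matrix.nonsing_inv_mul _ (det_ne_zero_of_pureM hd i).isUnit
  have e2 : (permM F m σ⁻¹ * pureM fun i => (a i)⁻¹) * (pureM a * permM F m σ) = 1 := by
    rw [mul_assoc, ← mul_assoc (pureM fun i => (a i)⁻¹), e, one_mul, permM_inv_mul]
  have : g' = permM F m σ⁻¹ * pureM fun i => (a i)⁻¹ := by
    calc g' = (permM F m σ⁻¹ * pureM fun i => (a i)⁻¹) * (pureM a * permM F m σ) * g' := by rw [e2, one_mul]
      _ = _ := by rw [mul_assoc, h, mul_one]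
  exact this ▸ (mono_perm _).mul (mono_pure _)

/-- Commutes with the factor `i`. -/
def Cen (i : τ) (Y : Matrix (Ix τ m) (Ix τ m) F) : Prop :=
  ∀ b : Matrix (Fin m) (Fin m) F, embM i b * Y = Y * embM i b

theorem Cen.one (i : τ) : Cen i (1 : Matrix (Ix τ m) (Ix τ m) F) := fun b => by rw [mul_one, one_mul]

theorem Cen.mul {i : τ} {Y Z : Matrix (Ix τ m) (Ix τ m) F} (hY : Cen i Y) (hZ : Cen i Z) : Cen i (Y * Z) := fun b => by
  rw [← mul_assoc, hY, mul_assoc, hZ, mul_assoc]

theorem Cen.add {i : τ} {Y Z : Matrix (Ix τ m) (Ix τ m) F} (hY : Cen i Y) (hZ : Cen i Z) : Cen i (Y + Z) := fun b => by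
  rw [mul_add, hY, hZ, add_mul]

theorem Cen.sub {i : τ} {Y Z : Matrix (Ix τ m) (Ix τ m) F} (hY : Cen i Y) (hZ : Cen i Z) : Cen i (Y - Z) := fun b => by
  rw [mul_sub, hY, hZ, sub_mul]

theorem Cen.smul {i : τ} {Y : Matrix (Ix τ m) (Ix τ m) F} (c : F) (hY : Cen i Y) : Cen i (c • Y) := fun b => by
  rw [mul_smul_comm, hY, smul_mul_assoc]

theorem Cen.sum {κ : Type*} {i : τ} (s : Finset κ) {f : κ → Matrix (Ix τ m) (Ix τ m) F} (h : ∀ x ∈ s, Cen i (f x)) :
    Cen i (∑ x ∈ s, f x) := fun b => by
  rw [Finset.mul_sum, Finset.sum_mul]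
  exact Finset.sum_congr rfl fun x hx => h x hx b

theorem cen_embM {i j : τ} (h : i ≠ j) (b : Matrix (Fin m) (Fin m) F) : Cen i (embM j b) :=
  fun c => embM_comm h c b

theorem cen_ins_one (i : τ) (A : Matrix (Ix (Rest i) m) (Ix (Rest i) m) F) : Cen i (ins i A 1) := fun b => by
  rw [embM_eq_ins, ins_mul, ins_mul, mul_one, one_mul, mul_one, one_mul]

/-- The matrix on the other factors. -/
def restM [NeZero m] (i : τ) (Y : Matrix (Ix τ m) (Ix τ m) F) : Matrix (Ix (Rest i) m) (Ix (Rest i) m) F :=
  Y.submatrix (fun p => (spl i).symm (p, 0)) (fun p => (spl i).symm (p, 0))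

theorem single_mul_eq {κ : Type} [Fintype κ] [DecidableEq κ] (M : Matrix κ κ F) (a b x y : κ) :
    (Matrix.single a b (1 : F) * M) x y = if x = a then M b y else 0 := by
  split_ifs with h
  · subst h; simp
  · simp [h]

theorem embM_single_mul_apply (i : τ) (a c : Fin m) (Y : Matrix (Ix τ m) (Ix τ m) F) (x y : Ix τ m) :
    (embM i (Matrix.single a c (1 : F)) * Y) x y = if x i = a then Y (Function.update x i c) y else 0 := by
  rw [Matrix.mul_apply, Fintype.sum_eq_single (Function.update x i c)]
  · rw [embM_apply, if_pos fun j hj => (Function.update_of_ne hj _ _).symm, Function.update_self]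
    by_cases h : x i = a
    · simp [h]
    · simp [h, Matrix.single_apply, Ne.symm h]
  · intro z hz
    rw [embM_apply]
    split_ifs with h
    · by_cases hzc : z i = c
      · refine absurd (funext fun j => ?_) hz
        by_cases hj : j = i
        · subst hj; rw [Function.update_self, hzc]
        · rw [Function.update_of_ne hj, h j hj]
      · simp [Matrix.single_apply, Ne.symm hzc]
    · rw [zero_mul]

theorem mul_embM_single_apply (i : τ) (a c : Fin m) (Y : Matrix (Ix τ m) (Ix τ m) F) (x y : Ix τ m) :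
    (Y * embM i (Matrix.single a c (1 : F))) x y = if y i = c then Y x (Function.update y i a) else 0 := by
  rw [Matrix.mul_apply, Fintype.sum_eq_single (Function.update y i a)]
  · rw [embM_apply, if_pos fun j hj => Function.update_of_ne hj _ _, Function.update_self]
    by_cases h : y i = c
    · simp [h]
    · simp [h, Matrix.single_apply, Ne.symm h]
  · intro z hz
    rw [embM_apply]
    split_ifs with h
    · by_cases hzc : z i = a
      · refine absurd (funext fun j => ?_) hz
        by_cases hj : j = i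
        · subst hj; rw [Function.update_self, hzc]
        · rw [Function.update_of_ne hj, h j hj]
      · simp [Matrix.single_apply, Ne.symm hzc]
    · rw [mul_zero]

theorem Cen.apply_eq_zero {i : τ} {Y : Matrix (Ix τ m) (Ix τ m) F} (hY : Cen i Y) {x y : Ix τ m} (h : x i ≠ y i) :
    Y x y = 0 := by
  have := congrFun₂ (hY (Matrix.single (x i) (x i) (1 : F))) x y
  rw [embM_single_mul_apply, mul_embM_single_apply, if_pos rfl, if_neg (Ne.symm h), Function.update_eq_self] at this
  exact this

theorem Cen.apply_update {i : τ} {Y : Matrix (Ix τ m) (Ix τ m) F} (hY : Cen i Y) {x y : Ix τ m} (h : x i = y i)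
    (c : Fin m) : Y (Function.update x i c) (Function.update y i c) = Y x y := by
  have := congrFun₂ (hY (Matrix.single (x i) c (1 : F))) x (Function.update y i c)
  rw [embM_single_mul_apply, mul_embM_single_apply, if_pos rfl, Function.update_self, if_pos rfl,
    Function.update_idem, h, Function.update_eq_self] at this
  exact this

theorem spl_symm_update [NeZero m] (i : τ) (x : Ix τ m) (c : Fin m) :
    (spl i).symm ((fun j : Rest i => x j), c) = Function.update x i c := by
  rw [Equiv.symm_apply_eq, spl_apply, Function.update_self]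
  exact Prod.ext (funext fun j => (Function.update_of_ne j.2 c x).symm) rfl

theorem Cen.eq_ins [NeZero m] {i : τ} {Y : Matrix (Ix τ m) (Ix τ m) F} (hY : Cen i Y) : Y = ins i (restM i Y) 1 := by
  ext x y
  rw [ins_apply, restM, Matrix.submatrix_apply, spl_symm_update, spl_symm_update]
  by_cases h : x i = y i
  · rw [hY.apply_update h, h, Matrix.one_apply_eq, mul_one]
  · rw [hY.apply_eq_zero h, Matrix.one_apply_ne h, mul_zero]

theorem ins_one_injective [NeZero m] (i : τ) :
    Function.Injective fun A : Matrix (Ix (Rest i) m) (Ix (Rest i) m) F => ins i A 1 := by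
  intro A B h
  ext p q
  have := congrFun₂ h ((spl i).symm (p, 0)) ((spl i).symm (q, 0))
  simpa [ins] using this

/-- Extend by `1` at `i`. -/
def extend (i : τ) (g : Rest i → Matrix (Fin m) (Fin m) F) : τ → Matrix (Fin m) (Fin m) F :=
  fun j => if h : j = i then 1 else g ⟨j, h⟩

theorem ins_pureM (i : τ) (g : Rest i → Matrix (Fin m) (Fin m) F) (b : Matrix (Fin m) (Fin m) F) :
    ins i (pureM g) b = pureM (Function.update (extend i g) i b) := by
  ext x y
  rw [ins_apply, pureM_apply, pureM_apply, ← Finset.mul_prod_erase _ _ (Finset.mem_univ i), Function.update_self,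
    mul_comm]
  congr 1
  rw [Finset.prod_subtype (p := fun j => j ≠ i) (Finset.univ.erase i) (by simp)]
  refine Finset.prod_congr rfl fun j _ => ?_
  rw [Function.update_of_ne j.2, extend, dif_neg j.2]

/-- The unit of a pure tensor. -/
noncomputable def glOf (X : Matrix (Ix τ m) (Ix τ m) F) (h : X.det = 1) : GL (Ix τ m) F :=
  Matrix.GeneralLinearGroup.mkOfDetNeZero X (by rw [h]; exact one_ne_zero)

theorem glOf_val (X : Matrix (Ix τ m) (Ix τ m) F) (h : X.det = 1) : (glOf X h).1 = X := rfl

end CfsgLib.Classical.TensorWreath
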