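import Cfsg.Agent.Lib.Classical.TensorWreath.Descend

set_option autoImplicit false
set_option linter.unusedSectionVars false

/-!
An element of a proper intermediate group which commutes with a singular matrix of one factor is monomial.
-/

namespace CfsgLib.Classical.TensorWreath

open Matrix
open scoped MatrixGroups Kronecker

variable {F : Type*} [Field F] {τ : Type} [Fintype τ] [DecidableEq τ] {m : ℕ}
variable {M M' : Subgroup (GL (Ix τ m) F)} {g : GL (Ix τ m) F} {i : τ}

theorem rank_conj (g : GL (Ix τ m) F) (X : Matrix (Ix τ m) (Ix τ m) F) :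
    (g.1 * X * (g⁻¹).1).rank = X.rank := by
  rw [Matrix.rank_mul_eq_left_of_isUnit_det _ _ ((Matrix.isUnit_iff_isUnit_det _).1 (g⁻¹).isUnit),
    Matrix.rank_mul_eq_right_of_isUnit_det _ _ ((Matrix.isUnit_iff_isUnit_det _).1 g.isUnit)]

theorem rootAt_of_conj_eq [NeZero m] {n : Matrix (Fin m) (Fin m) F} {X : Matrix (Ix τ m) (Ix τ m) F} {j : τ}
    (hX : RootAt i X) (h : g.1 * X * (g⁻¹).1 = embM j n) : RootAt j (g.1 * X * (g⁻¹).1) := by
  obtain ⟨u, v, hu, hv, h0, rfl⟩ := hX
  have hr : n.rank ≤ 1 := by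
    have h1 := le_rank_embM j n
    rw [← h, rank_conj] at h1
    have h2 := rank_embM_vecMulVec_le i u v
    have hc : Fintype.card (Ix (Rest i) m) = Fintype.card (Ix (Rest j) m) := by rw [card_rest, card_rest]
    have hpos : 0 < Fintype.card (Ix (Rest j) m) := Fintype.card_pos
    rw [hc] at h2
    exact Nat.le_of_mul_le_mul_left (by rw [mul_one]; exact h1.trans h2) hpos
  obtain ⟨a, b, rfl⟩ := exists_vecMulVec_of_rank_le_one hr
  have hne : embM i (Matrix.vecMulVec u v) ≠ (0 : Matrix (Ix τ m) (Ix τ m) F) := fun e => by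
    rw [← embM_zero (F := F) i] at e
    rcases Matrix.vecMulVec_eq_zero.1 (embM_injective i e) with e | e
    · exact hu e
    · exact hv e
  have hne' : embM j (Matrix.vecMulVec a b) ≠ (0 : Matrix (Ix τ m) (Ix τ m) F) := fun e =>
    hne (conj_inj g (Y := 0) (by rw [h, e, mul_zero, zero_mul]))
  have ha : a ≠ 0 := fun e => hne' (by rw [e, Matrix.zero_vecMulVec, embM_zero])
  have hb : b ≠ 0 := fun e => hne' (by rw [e, Matrix.vecMulVec_zero, embM_zero])
  refine ⟨a, b, ha, hb, ?_, h⟩
  have hz : embM i (Matrix.vecMulVec u v) * embM i (Matrix.vecMulVec u v) = (0 : Matrix (Ix τ m) (Ix τ m) F) := by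
    rw [embM_mul, Matrix.vecMulVec_mul_vecMulVec, h0]; simp [embM_zero]
  have hz' : embM j (Matrix.vecMulVec a b * Matrix.vecMulVec a b) = embM j (0 : Matrix (Fin m) (Fin m) F) := by
    rw [← embM_mul, ← h, mul_inv_cancel_mid, hz, mul_zero, zero_mul, embM_zero]
  have := embM_injective j hz'
  rw [Matrix.vecMulVec_mul_vecMulVec] at this
  rcases Matrix.vecMulVec_eq_zero.1 this with e | e
  · exact absurd e ha
  · exact (smul_eq_zero.1 e).resolve_right hb

/-- A conjugator preserving a coordinate subspace of one factor is monomial. -/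
theorem mono_of_block (hlow : Low F τ m) (H : Hyp M) (H' : Hyp M') (hm : 3 ≤ m) (ht : 2 ≤ Fintype.card τ)
    (hT : ¬ Top M) (hT' : ¬ Top M') (hR : Rel M M' g) {P : Finset (Fin m)} {p q : Fin m} (hp : p ∈ P) (hq : q ∉ P)
    (h1 : ∀ x ∈ P, ∀ y ∉ P, embM i (e y y) * g.1 * embM i (e x x) = 0)
    (h2 : ∀ x ∈ P, ∀ y ∉ P, embM i (e y y) * (g⁻¹).1 * embM i (e x x) = 0) : Mono g.1 := by
  haveI : NeZero m := ⟨by omega⟩
  have hpq : p ≠ q := fun e => hq (e ▸ hp)
  obtain ⟨n, hn⟩ := H'.exists_of_block (i := i) (P := P) (N := g.1 * embM i (e p q) * (g⁻¹).1) hm hT'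
    (fun y hy => by
      rw [← embM_e_mul i p p q, ← mul_assoc, ← mul_assoc, ← mul_assoc, h1 p hp y hy]
      simp)
    (fun x hx => by
      rw [← embM_e_mul i p q q, ← mul_assoc, mul_assoc _ (g⁻¹).1, mul_assoc _ (embM i (e q q)),
        ← mul_assoc (embM i (e q q)), h2 x hx q hq, mul_zero])
    (hR.inM (H.inM_e i hpq))
  exact mono_of_root hlow H H' hm ht hT hT' hR (rootAt_e i hpq) (rootAt_of_conj_eq (rootAt_e i hpq) hn)

/-- Coordinates adapted to a subspace. -/
theorem exists_coords (W : Submodule F (Fin m → F)) (hne : W ≠ ⊥) :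
    ∃ (S S' : Matrix (Fin m) (Fin m) F) (P : Finset (Fin m)), S.det = 1 ∧ S * S' = 1 ∧ P.card = Module.finrank F W ∧
      (∀ x ∈ P, S *ᵥ Pi.single x 1 ∈ W) ∧ ∀ w ∈ W, ∀ y ∉ P, (S' *ᵥ w) y = 0 := by
  classical
  obtain ⟨C, hC⟩ := W.exists_isCompl
  set k := Module.finrank F W
  set l := Module.finrank F C
  have hkl : k + l = m := by rw [Submodule.finrank_add_eq_of_isCompl hC, Module.finrank_pi, Fintype.card_fin]
  let σ : Fin k ⊕ Fin l ≃ Fin m := finSumFinEquiv.trans (finCongr hkl)
  let bb : Module.Basis (Fin m) F (Fin m → F) :=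
    (((Module.finBasisOfFinrankEq F W rfl).prod (Module.finBasisOfFinrankEq F C rfl)).map
      (Submodule.prodEquivOfIsCompl W C hC)).reindex σ
  have hW : ∀ a : Fin k, bb (σ (Sum.inl a)) ∈ W := fun a => by simp [bb]
  have hrepr : ∀ w ∈ W, ∀ c : Fin l, bb.repr w (σ (Sum.inr c)) = 0 := fun w hw c => by
    have : (Submodule.prodEquivOfIsCompl W C hC).symm w = (⟨w, hw⟩, 0) := by
      rw [LinearEquiv.symm_apply_eq, Submodule.coe_prodEquivOfIsCompl']; simp
    simp [bb, this]
  let P : Finset (Fin m) := Finset.univ.image fun a => σ (Sum.inl a)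
  have hk : 0 < k := Nat.pos_of_ne_zero fun h0 => hne (Submodule.finrank_eq_zero.1 h0)
  let x0 : Fin m := σ (Sum.inl ⟨0, hk⟩)
  let S0 : Matrix (Fin m) (Fin m) F := Matrix.of fun r c => bb c r
  let S0' : Matrix (Fin m) (Fin m) F := Matrix.of fun r c => bb.repr (Pi.single c 1) r
  have hS0 : ∀ c, S0 *ᵥ Pi.single c 1 = bb c := fun c => by
    rw [Matrix.mulVec_single_one]; rfl
  have hS0' : ∀ w, S0' *ᵥ w = bb.repr w := fun w => by
    have : S0'.mulVecLin = (Finsupp.linearEquivFunOnFinite F F (Fin m)).toLinearMap.comp bb.repr.toLinearMap := by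
      refine (Pi.basisFun F (Fin m)).ext fun c => ?_
      rw [Matrix.mulVecLin_apply, Pi.basisFun_apply, Matrix.mulVec_single_one]
      rfl
    exact LinearMap.congr_fun this w
  have i0 : S0' * S0 = 1 := Matrix.ext_of_mulVec_single fun c => by
    rw [← Matrix.mulVec_mulVec, hS0, hS0', Matrix.one_mulVec, bb.repr_self]
    ext r
    simp [Finsupp.single_apply, Pi.single_apply, eq_comm]
  have hd : S0.det ≠ 0 := fun h0 => by
    have := congrArg Matrix.det i0
    rw [Matrix.det_mul, h0, mul_zero, Matrix.det_one] at this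
    exact zero_ne_one this
  let d : Fin m → F := Function.update 1 x0 S0.det⁻¹
  let d' : Fin m → F := Function.update 1 x0 S0.det
  have hdd : ∀ x, d x * d' x = 1 := fun x => by
    simp only [d, d', Function.update_apply]; split_ifs
    · exact inv_mul_cancel₀ hd
    · exact mul_one 1
  refine ⟨S0 * Matrix.diagonal d, Matrix.diagonal d' * S0', P, ?_, ?_, ?_, ?_, ?_⟩
  · rw [Matrix.det_mul, Matrix.det_diagonal, Finset.prod_update_of_mem (Finset.mem_univ x0),
      Finset.prod_congr rfl (fun x _ => Pi.one_apply x), Finset.prod_const_one, mul_one, mul_inv_cancel₀ hd]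
  · rw [mul_assoc, ← mul_assoc (Matrix.diagonal d), Matrix.diagonal_mul_diagonal,
      show (fun x => d x * d' x) = fun _ => (1 : F) from funext hdd, Matrix.diagonal_one, one_mul]
    exact mul_eq_one_comm.1 i0
  · simp only [P]
    rw [Finset.card_image_of_injective _ (fun a a' h => Sum.inl_injective (σ.injective h)), Finset.card_univ, Fintype.card_fin]
  · intro x hx
    obtain ⟨a, -, rfl⟩ := Finset.mem_image.1 hx
    rw [← Matrix.mulVec_mulVec, Matrix.diagonal_mulVec_single, mul_one,
      show Pi.single (σ (Sum.inl a)) (d (σ (Sum.inl a))) = d (σ (Sum.inl a)) • Pi.single (σ (Sum.inl a)) (1 : F) from by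
        rw [← Pi.single_smul, smul_eq_mul, mul_one], Matrix.mulVec_smul, hS0]
    exact W.smul_mem _ (hW a)
  · intro w hw y hy
    rw [← Matrix.mulVec_mulVec, Matrix.mulVec_diagonal, hS0']
    obtain ⟨s, rfl⟩ := σ.surjective y
    rcases s with a | c
    · exact absurd (Finset.mem_image.2 ⟨a, Finset.mem_univ _, rfl⟩) hy
    · rw [hrepr w hw c, mul_zero]

/-- An element of a proper intermediate group commuting with a singular matrix of one factor. -/
theorem mono_of_commute_embM (hlow : Low F τ m) (H : Hyp M) (hm : 3 ≤ m) (ht : 2 ≤ Fintype.card τ)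
    (hT : ¬ Top M) (hg : g ∈ M) {c : Matrix (Fin m) (Fin m) F} (hc : c ≠ 0) (hd : c.det = 0)
    (hcomm : g.1 * embM i c = embM i c * g.1) : Mono g.1 := by
  haveI : NeZero m := ⟨by omega⟩
  have hne : LinearMap.range c.mulVecLin ≠ ⊥ := fun h0 => hc (Matrix.ext_of_mulVec_single fun x => by
    have := LinearMap.mem_range_self c.mulVecLin (Pi.single x 1)
    rw [h0, Submodule.mem_bot] at this
    rw [Matrix.zero_mulVec]; exact this)
  obtain ⟨S, S', P, hS, hSS, hP, hP1, hP2⟩ := exists_coords _ hne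
  have hlt : P.card < m := by
    rw [hP]
    obtain ⟨v, hv, hv'⟩ := Matrix.exists_mulVec_eq_zero_iff.2 hd
    have h1 := LinearMap.finrank_range_add_finrank_ker c.mulVecLin
    have h2 : 0 < Module.finrank F (LinearMap.ker c.mulVecLin) :=
      Submodule.one_le_finrank_iff.2 fun e => hv ((Submodule.eq_bot_iff _).1 e v hv')
    rw [Module.finrank_pi, Fintype.card_fin] at h1
    omega
  obtain ⟨p, hp⟩ : P.Nonempty := Finset.card_pos.1 (by
    rw [hP]; exact Nat.pos_of_ne_zero fun h0 => hne (Submodule.finrank_eq_zero.1 h0))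
  obtain ⟨q, -, hq⟩ := Finset.exists_mem_notMem_of_card_lt_card (t := (Finset.univ : Finset (Fin m))) (s := P)
    (by rw [Finset.card_univ, Fintype.card_fin]; exact hlt)
  have hS'S : S' * S = 1 := mul_eq_one_comm.1 hSS
  set c' := S' * c * S with hc'
  have hrow : ∀ y ∉ P, ∀ x, c' y x = 0 := fun y hy x => by
    have := hP2 (c *ᵥ (S *ᵥ Pi.single x 1)) (LinearMap.mem_range_self c.mulVecLin _) y hy
    rwa [Matrix.mulVec_mulVec, Matrix.mulVec_mulVec, ← hc', Matrix.mulVec_single_one] at this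
  have himg : ∀ x ∈ P, ∃ w : Fin m → F, c' * Matrix.vecMulVec w (Pi.single x 1) = e x x := fun x hx => by
    obtain ⟨w, hw⟩ := hP1 x hx
    refine ⟨S' *ᵥ w, ?_⟩
    rw [Matrix.mul_vecMulVec, Matrix.mulVec_mulVec, hc', mul_assoc (S' * c), hSS, mul_one, ← Matrix.mulVec_mulVec,
      show c *ᵥ w = S *ᵥ Pi.single x 1 from hw, Matrix.mulVec_mulVec, hS'S, Matrix.one_mulVec, e,
      Matrix.single_eq_single_vecMulVec_single]
  set Q := embU i S hS with hQ
  set g1 := Q⁻¹ * g * Q with hg1
  have hg1M : g1 ∈ M := M.mul_mem (M.mul_mem (M.inv_mem (H.embU_mem i S hS)) hg) (H.embU_mem i S hS)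
  have hcomm1 : g1.1 * embM i c' = embM i c' * g1.1 := by
    rw [hg1, Units.val_mul, Units.val_mul, hQ, embU_inv i hS hSS, embU_val]
    calc embM i S' * g.1 * embM i S * embM i c' = embM i S' * (g.1 * embM i c) * embM i S := by
          rw [mul_assoc _ (embM i S) (embM i c'), embM_mul, hc', ← mul_assoc, ← mul_assoc, hSS, one_mul, ← embM_mul]
          simp only [mul_assoc]
      _ = embM i c' * (embM i S' * g.1 * embM i S) := by
          rw [hcomm]
          simp only [← mul_assoc, embM_mul, hc']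
          rw [mul_assoc (S' * c) S S', hSS, mul_one]
  have blockP : ∀ u : GL (Ix τ m) F, u.1 * embM i c' = embM i c' * u.1 →
      ∀ x ∈ P, ∀ y ∉ P, embM i (e y y) * u.1 * embM i (e x x) = 0 := by
    intro u hu x hx y hy
    obtain ⟨w, hw⟩ := himg x hx
    have hz : (e y y : Matrix (Fin m) (Fin m) F) * c' = 0 := by
      ext r s
      rw [single_mul_eq]
      simp [hrow y hy]
    rw [← hw, ← embM_mul, ← mul_assoc, mul_assoc _ u.1, hu, ← mul_assoc, embM_mul, hz, embM_zero]
    simp
  have key := mono_of_block hlow H H hm ht hT hT (Rel.refl hg1M) hp hq (blockP g1 hcomm1)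
    (blockP _ (commute_inv g1 hcomm1))
  have e1 : g = Q * g1 * Q⁻¹ := by rw [hg1]; simp [mul_assoc]
  rw [e1, Units.val_mul, Units.val_mul]
  exact ((mono_embU i S hS).mul key).mul (mono_inv (mono_embU i S hS))

end CfsgLib.Classical.TensorWreath
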