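import Cfsg.Agent.Lib.Classical.TensorWreath.Pairs

set_option autoImplicit false
set_option linter.unusedSectionVars false

/-!
Characteristic two: involutions of intermediate groups and the roots commuting with them.
-/

namespace CfsgLib.Classical.TensorWreath

open Matrix
open scoped MatrixGroups Kronecker

variable {F : Type*} [Field F] {τ : Type} [Fintype τ] [DecidableEq τ] {m : ℕ}

theorem embM_eq_scalar [NeZero m] {i l : τ} (h : i ≠ l) {n c : Matrix (Fin m) (Fin m) F}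
    (heq : (embM i n : Matrix (Ix τ m) (Ix τ m) F) = embM l c) : ∃ x : F, n = x • 1 := by
  have hall : ∀ a b : Fin m, Commute (e a b : Matrix (Fin m) (Fin m) F) n := fun a b => by
    refine embM_injective i (?_ : embM i (e a b * n) = (embM i (n * e a b) : Matrix (Ix τ m) (Ix τ m) F))
    rw [← embM_mul, ← embM_mul, heq, embM_comm h]
  obtain ⟨x, hx⟩ := Matrix.mem_range_scalar_iff_commute_single'.2 hall
  exact ⟨x, by rw [← hx, Matrix.scalar_apply, Matrix.smul_one_eq_diagonal]⟩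

theorem fix_of_commute_embM [NeZero m] {h : τ → Matrix (Fin m) (Fin m) F} {σ : Equiv.Perm τ} {i : τ}
    {n : Matrix (Fin m) (Fin m) F} (hd : (pureM h * permM F m σ).det ≠ 0) (hn : ∀ x : F, n ≠ x • 1)
    (hc : pureM h * permM F m σ * embM i n = embM i n * (pureM h * permM F m σ)) : σ i = i := by
  have hd' : (pureM h).det ≠ 0 := fun h0 => hd (by rw [Matrix.det_mul, h0, zero_mul])
  by_contra hne
  rw [mono_mul_embM (g' := fun j => (h j)⁻¹) σ i (nonsing_inv_of_pureM hd' _)] at hc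
  have hu : IsUnit (pureM h * permM F m σ) := (Matrix.isUnit_iff_isUnit_det _).2 hd.isUnit
  obtain ⟨x, hx⟩ := embM_eq_scalar (Ne.symm hne) (hu.mul_right_cancel hc).symm
  exact hn x hx

theorem ne_scalar_of_sq_zero [NeZero m] {n : Matrix (Fin m) (Fin m) F} (h0 : n ≠ 0) (hn : n * n = 0) (x : F) :
    n ≠ x • 1 := by
  intro h
  rw [h, smul_mul_smul_comm, mul_one, smul_eq_zero] at hn
  rcases hn with hn | hn
  · exact h0 (by rw [h, mul_self_eq_zero.1 hn, zero_smul])
  · exact one_ne_zero hn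

variable {g : GL (Ix τ m) F} {i : τ}

/-- Monomial elements map roots to roots. -/
theorem RootAt.mono_conj [NeZero m] {X : Matrix (Ix τ m) (Ix τ m) F} (hX : RootAt i X)
    {h : τ → Matrix (Fin m) (Fin m) F} {σ : Equiv.Perm τ} (hg : g.1 = pureM h * permM F m σ) :
    RootAt (σ i) (g.1 * X * (g⁻¹).1) := by
  have hd : (pureM h).det ≠ 0 := fun h0 => by
    have := ((Matrix.isUnit_iff_isUnit_det _).1 g.isUnit).ne_zero
    rw [hg, Matrix.det_mul, h0, zero_mul] at this
    exact this rfl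
  obtain ⟨u, v, hu, hv, h0, rfl⟩ := hX
  have e1 : g.1 * embM i (Matrix.vecMulVec u v) * (g⁻¹).1 =
      embM (σ i) (h (σ i)) * embM (σ i) (Matrix.vecMulVec u v) * embM (σ i) (h (σ i))⁻¹ := by
    rw [hg, mono_mul_embM (g' := fun j => (h j)⁻¹) σ i (nonsing_inv_of_pureM hd _), mul_assoc, ← hg, g.mul_inv,
      mul_one, embM_mul, embM_mul]
  rw [e1]
  exact RootAt.conj ⟨u, v, hu, hv, h0, rfl⟩ (nonsing_inv_of_pureM hd _)

variable [Finite F] {M : Subgroup (GL (Ix τ m) F)}

/-- A monomial conjugate of a root is a root. -/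
theorem Ctx.rootAt_of_mono_conj (C : Ctx M) (hg : g ∈ M) {X : Matrix (Ix τ m) (Ix τ m) F} (hX : RootAt i X)
    (h : Mono (1 + g.1 * X * (g⁻¹).1)) : ∃ j, RootAt j (g.1 * X * (g⁻¹).1) := by
  haveI : NeZero m := ⟨by have := C.three; omega⟩
  obtain ⟨hs, σ, hgv⟩ := C.mono_of_conj_root hg hX h
  exact ⟨σ i, hX.mono_conj hgv⟩

/-- A monomial involution fixing a factor commutes with a root of it. -/
theorem exists_root_commute (hm : 3 ≤ m) (h2 : (2 : F) = 0) {h : τ → Matrix (Fin m) (Fin m) F} {σ : Equiv.Perm τ}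
    (hz : pureM h * permM F m σ * (pureM h * permM F m σ) = 1) (hσ : σ i = i) :
    ∃ R, RootAt i R ∧ pureM h * permM F m σ * R = R * (pureM h * permM F m σ) := by
  haveI : NeZero m := ⟨by omega⟩
  have hd : (pureM h).det ≠ 0 := fun h0 => by
    have := congrArg Matrix.det hz
    rw [Matrix.det_mul, Matrix.det_mul, h0, zero_mul, zero_mul, Matrix.det_one] at this
    exact zero_ne_one this
  rw [mono_mul_self] at hz
  obtain ⟨c, hc⟩ := (eq_one_of_pure_perm hm hz).2 i
  rw [Pi.mul_apply, show σ.symm i = i by rw [Equiv.symm_apply_eq, hσ]] at hc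
  obtain ⟨d, hdd⟩ := exists_sq h2 c
  have hd0 : d ≠ 0 := fun h0 => by
    haveI : Nonempty (Fin m) := ⟨0⟩
    rw [← hdd, h0, mul_zero, zero_smul] at hc
    have := congrArg Matrix.det hc
    rw [Matrix.det_mul, Matrix.det_zero] at this
    exact det_ne_zero_of_pureM hd i (mul_self_eq_zero.1 this)
  set n := d⁻¹ • h i - 1 with hn
  have hn2 : n * n = 0 := by
    rw [hn, sq_of_char_two h2, smul_mul_smul_comm, hc, smul_smul, ← hdd, ← mul_inv,
      inv_mul_cancel₀ (mul_ne_zero hd0 hd0), one_smul, sub_self]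
  have hhi : d • (1 + n) = h i := by rw [hn, add_sub_cancel, smul_smul, mul_inv_cancel₀ hd0, one_smul]
  obtain ⟨N, hN, hNc⟩ : ∃ N : Matrix (Fin m) (Fin m) F, (∃ u v : Fin m → F, u ≠ 0 ∧ v ≠ 0 ∧ v ⬝ᵥ u = 0 ∧
      N = Matrix.vecMulVec u v) ∧ n * N = N * n := by
    by_cases hn0 : n = 0
    · let a : Fin m := ⟨0, by omega⟩
      let b : Fin m := ⟨1, by omega⟩
      have hab : a ≠ b := by simp [a, b, Fin.ext_iff]
      exact ⟨_, ⟨Pi.single a 1, Pi.single b 1, by simp, by simp, by simp [Pi.single_eq_of_ne hab], rfl⟩,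
        by rw [hn0, zero_mul, mul_zero]⟩
    · obtain ⟨y, hy⟩ : ∃ y, n *ᵥ Pi.single y 1 ≠ 0 := by
        by_contra hall
        push Not at hall
        exact hn0 (Matrix.ext_of_mulVec_single fun y => by rw [hall, Matrix.zero_mulVec])
      obtain ⟨x, hx⟩ : ∃ x, Pi.single x 1 ᵥ* n ≠ 0 := by
        by_contra hall
        push Not at hall
        refine hn0 (Matrix.ext fun u v => ?_)
        have := congrFun (hall u) v
        simpa using this
      refine ⟨_, ⟨_, _, hy, hx, ?_, rfl⟩, ?_⟩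
      · rw [← Matrix.dotProduct_mulVec, Matrix.mulVec_mulVec, hn2, Matrix.zero_mulVec, dotProduct_zero]
      · rw [Matrix.mul_vecMulVec, Matrix.vecMulVec_mul, Matrix.mulVec_mulVec, Matrix.vecMul_vecMul, hn2,
          Matrix.zero_mulVec, Matrix.vecMul_zero, Matrix.zero_vecMulVec, Matrix.vecMulVec_zero]
  obtain ⟨u, v, hu, hv, h0, rfl⟩ := hN
  refine ⟨_, ⟨u, v, hu, hv, h0, rfl⟩, ?_⟩
  rw [mono_mul_embM (g' := fun j => (h j)⁻¹) σ i (nonsing_inv_of_pureM hd _), hσ]
  congr 2
  have : h i * Matrix.vecMulVec u v = Matrix.vecMulVec u v * h i := by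
    rw [← hhi, smul_mul_assoc, mul_smul_comm, add_mul, mul_add, hNc, one_mul, mul_one]
  rw [this, mul_assoc, nonsing_inv_of_pureM hd, mul_one]

theorem Ctx.invol_sq {y : GL (Ix τ m) F} {Y : Matrix (Ix τ m) (Ix τ m) F} (h2 : (2 : F) = 0) (hy : y.1 = 1 + Y)
    (hY : Y * Y = 0) : y * y = 1 := Units.ext (by
  rw [Units.val_mul, hy, Units.val_one, mul_add, mul_one, add_mul, one_mul, hY, add_zero, add_assoc,
    ← two_smul F, h2, zero_smul, add_zero])

theorem conj_val {y : GL (Ix τ m) F} {Y : Matrix (Ix τ m) (Ix τ m) F} (c : GL (Ix τ m) F) (hy : y.1 = 1 + Y) :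
    (c * y * c⁻¹).1 = 1 + c.1 * Y * (c⁻¹).1 := by
  rw [Units.val_mul, Units.val_mul, hy, mul_add, mul_one, add_mul, c.mul_inv]

theorem closure_pair_le {x y : GL (Ix τ m) F} (hx : x ∈ M) (hy : y ∈ M) :
    Subgroup.closure ({x, y} : Set (GL (Ix τ m) F)) ≤ M := by
  refine (Subgroup.closure_le M).2 ?_
  rintro u (rfl | rfl)
  · exact hx
  · exact hy

theorem commute_val_iff {x y : GL (Ix τ m) F} {Y : Matrix (Ix τ m) (Ix τ m) F} (hy : y.1 = 1 + Y) :
    x * y = y * x ↔ x.1 * Y = Y * x.1 := by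
  rw [Units.ext_iff, Units.val_mul, Units.val_mul, hy, mul_add, mul_one, add_mul, one_mul, add_right_inj]

end CfsgLib.Classical.TensorWreath
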