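import Cfsg.Agent.Lib.Classical.TensorWreath.Quad

set_option autoImplicit false
set_option linter.unusedSectionVars false

/-!
Classification of the quadratic monomial elements with the rank of a root.
-/

namespace CfsgLib.Classical.TensorWreath

open Matrix
open scoped MatrixGroups Kronecker

variable {F : Type*} [Field F] {τ : Type} [Fintype τ] [DecidableEq τ] {m : ℕ}

/-- The value at the pair `u`. -/
abbrev pr {s : ℕ} (v : Fin (2 * s) → Fin m) (u : Fin s) : Fin m × Fin m :=
  (v ⟨2 * u, by omega⟩, v ⟨2 * u + 1, by omega⟩)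

theorem pairs_bound (hm : 3 ≤ m) {g : τ → Matrix (Fin m) (Fin m) F} {σ : Equiv.Perm τ}
    (h2 : pureM g * permM F m σ * (pureM g * permM F m σ) = 1) {s : ℕ} (ι : Fin (2 * s) → τ)
    (hι : Function.Injective ι) (hσ : ∀ u : Fin s, σ (ι ⟨2 * u, by omega⟩) = ι ⟨2 * u + 1, by omega⟩) :
    (Finset.univ.filter fun v : Fin (2 * s) → Fin m => Lex (pr v)).card * Fintype.card (Ix τ m) ≤
      (pureM g * permM F m σ - 1).rank * m ^ (2 * s) := by
  have h := le_rank_of_pairs hm h2 (fun u : Fin s => ι ⟨2 * u, by omega⟩) (fun u v hh => by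
    simp only [hσ] at hh
    have := congrArg Fin.val (hι hh)
    simp only at this
    omega)
  rw [← card_filter_comp (m := m) ι hι (fun v => Lex (pr v))]
  refine Nat.mul_le_mul_right _ (le_trans (le_of_eq ?_) h)
  refine congrArg Finset.card (Finset.filter_congr fun f _ => ?_)
  simp only [hσ]
  rfl

theorem lex_one_card (hm : 4 ≤ m) :
    m < (Finset.univ.filter fun v : Fin (2 * 1) → Fin m => Lex (pr v)).card := by
  let z : Fin m := ⟨0, by omega⟩
  let o : Fin m := ⟨1, by omega⟩
  set A : Finset (Fin (2 * 1) → Fin m) := Fintype.piFinset ![{z}, {z}ᶜ]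
  set B : Finset (Fin (2 * 1) → Fin m) := Fintype.piFinset ![{o}, {z, o}ᶜ]
  have hsub : A ∪ B ⊆ Finset.univ.filter fun v : Fin (2 * 1) → Fin m => Lex (pr v) := by
    intro v hv
    rw [Finset.mem_filter]
    refine ⟨Finset.mem_univ _, 0, fun w hw => absurd hw (by omega), ?_⟩
    simp only [A, B, Finset.mem_union, Fintype.mem_piFinset] at hv
    rcases hv with hv | hv
    · have h0 := hv 0
      have h1 := hv 1
      simp [z, Fin.ext_iff] at h0 h1
      show v 0 < v 1
      rw [Fin.lt_def]
      omega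
    · have h0 := hv 0
      have h1 := hv 1
      simp [z, o, Fin.ext_iff] at h0 h1
      show v 0 < v 1
      rw [Fin.lt_def]
      omega
  refine lt_of_lt_of_le ?_ (Finset.card_le_card hsub)
  rw [Finset.card_union_of_disjoint]
  · have hA : A.card = m - 1 := by
      simp [A, Finset.card_compl]
    have hB : B.card = m - 2 := by
      rw [Fintype.card_piFinset, Fin.prod_univ_two]
      show ({o} : Finset (Fin m)).card * ({z, o}ᶜ : Finset (Fin m)).card = m - 2
      rw [Finset.card_singleton, Finset.card_compl, Finset.card_pair (show z ≠ o by simp [z, o, Fin.ext_iff]),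
        Fintype.card_fin, one_mul]
    omega
  · rw [Finset.disjoint_left]
    intro v hv hv'
    have h0 := Fintype.mem_piFinset.1 hv 0
    have h1 := Fintype.mem_piFinset.1 hv' 0
    simp at h0 h1
    rw [h0] at h1
    simp [z, o, Fin.ext_iff] at h1

variable [Finite F]

/-- Classification. -/
theorem classify (hm : 3 ≤ m) {k : Matrix (Ix τ m) (Ix τ m) F} (hk : Mono k) (hne : k - 1 ≠ 0)
    (hq : (k - 1) * (k - 1) = 0) (hr : ∀ i : τ, (k - 1).rank ≤ Fintype.card (Ix (Rest i) m)) :
    (∃ i, RootAt i (k - 1)) ∨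
      ((2 : F) = 0 ∧ m = 3 ∧
        ∃ (g : τ → Matrix (Fin m) (Fin m) F) (a b : τ), a ≠ b ∧ k = pureM g * permM F m (Equiv.swap a b)) := by
  haveI : NeZero m := ⟨by omega⟩
  obtain ⟨g, σ, rfl⟩ := hk
  by_cases hσ : σ = 1
  · subst hσ
    rw [permM_one, mul_one] at hne hq hr ⊢
    exact Or.inl (rootAt_of_pure hm hne hq hr)
  obtain ⟨i, hi⟩ : ∃ i, σ i ≠ i := by
    by_contra hh
    push Not at hh
    exact hσ (Equiv.ext hh)
  obtain ⟨p, hp, hcp⟩ := ringChar_prime (F := F)
  haveI := Fact.mk hp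
  haveI := hcp
  haveI : Nonempty (Ix τ m) := ⟨fun _ => 0⟩
  obtain ⟨hkp, hσp⟩ := perm_pow_char (p := p) hm hq
  by_cases h2 : (2 : F) = 0
  swap
  · exfalso
    have hp2 : p ≠ 2 := fun h => h2 (by
      subst h
      exact_mod_cast CharP.cast_eq_zero F 2)
    have h3 : σ (σ i) ≠ i := by
      intro h
      obtain ⟨q, hq'⟩ := (hp.eq_two_or_odd'.resolve_left hp2)
      have h4 : ∀ q : ℕ, (σ ^ (2 * q)) i = i := fun q => by
        induction q with
        | zero => rfl
        | succ q IH => rw [Nat.mul_succ, pow_add, Equiv.Perm.mul_apply, pow_two, Equiv.Perm.mul_apply, h, IH]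
      have h5 := Equiv.congr_fun hσp i
      rw [hq', pow_succ, Equiv.Perm.mul_apply, Equiv.Perm.one_apply] at h5
      exact hi ((σ ^ (2 * q)).injective (by rw [h5, h4]))
    have hd : (pureM g).det ≠ 0 := fun h0 => by
      have := congrArg Matrix.det hkp
      rw [Matrix.det_pow, Matrix.det_mul, h0, zero_mul, zero_pow hp.ne_zero, Matrix.det_one] at this
      exact zero_ne_one this
    exact absurd (le_rank_of_three hm hd hi h3) (not_lt.2 (hr i))
  have hp2 : p = 2 := by
    have : ((2 : ℕ) : F) = 0 := by exact_mod_cast h2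
    exact (Nat.prime_dvd_prime_iff_eq hp Nat.prime_two).1 ((CharP.cast_eq_zero_iff F p 2).1 this)
  subst hp2
  rw [pow_two] at hkp
  have hσσ : ∀ j, σ (σ j) = j := fun j => by
    have := Equiv.congr_fun hσp j
    rwa [pow_two, Equiv.Perm.mul_apply] at this
  have hcard := card_ix (m := m) i
  have hpos : 0 < Fintype.card (Ix (Rest i) m) := Fintype.card_pos
  have hb1 := pairs_bound hm hkp (s := 1) ![i, σ i]
    (by intro a b; fin_cases a <;> fin_cases b <;> simp [hi, Ne.symm hi])
    (fun u => by fin_cases u; rfl)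
  by_cases hm4 : 4 ≤ m
  · exfalso
    have h3 := lt_of_lt_of_le (Nat.mul_lt_mul_of_pos_right (lex_one_card hm4) (Fintype.card_pos (α := Ix τ m)))
      (hb1.trans (Nat.mul_le_mul_right _ (hr i)))
    rw [hcard] at h3
    ring_nf at h3
    omega
  have hm3 : m = 3 := by omega
  subst hm3
  refine Or.inr ⟨h2, rfl, g, i, σ i, Ne.symm hi, ?_⟩
  congr 2
  refine Equiv.ext fun j => ?_
  by_cases h1 : j = i
  · subst h1; rw [Equiv.swap_apply_left]
  by_cases h3 : j = σ i
  · subst h3; rw [Equiv.swap_apply_right, hσσ]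
  rw [Equiv.swap_apply_of_ne_of_ne h1 h3]
  by_contra h4
  have h5 : σ j ≠ i := fun h => h3 (by rw [← h, hσσ])
  have h6 : σ j ≠ σ i := fun h => h1 (σ.injective h)
  have hb2 := pairs_bound hm hkp (s := 2) ![i, σ i, j, σ j]
    (by
      intro a b
      fin_cases a <;> fin_cases b <;>
        simp [hi, Ne.symm hi, h1, Ne.symm h1, h3, Ne.symm h3, h4, Ne.symm h4, h5, Ne.symm h5, h6, Ne.symm h6])
    (fun u => by fin_cases u <;> rfl)
  have h7 : (Finset.univ.filter fun v : Fin (2 * 2) → Fin 3 => Lex (pr v)).card = 36 := lex_card_three_two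
  rw [h7, hcard] at hb2
  have := hb2.trans (Nat.mul_le_mul_right _ (hr i))
  omega

end CfsgLib.Classical.TensorWreath
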