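import Cfsg.Agent.Lib.Classical.TensorWreath.CharTwo

set_option autoImplicit false
set_option linter.unusedSectionVars false

/-!
There are more square zero matrices of rank at least two than of rank one.
-/

namespace CfsgLib.Classical.TensorWreath

open Matrix
open scoped MatrixGroups Kronecker

variable {F : Type*} [Field F] [Fintype F] {m : ℕ}

/-- The nonzero square zero matrices of rank one. -/
def RootMat (N : Matrix (Fin m) (Fin m) F) : Prop :=
  ∃ u v : Fin m → F, u ≠ 0 ∧ v ≠ 0 ∧ v ⬝ᵥ u = 0 ∧ N = Matrix.vecMulVec u v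

/-- The square zero matrices of rank at least two. -/
def BigMat (N : Matrix (Fin m) (Fin m) F) : Prop := N * N = 0 ∧ 2 ≤ N.rank

theorem card_orth [DecidableEq F] {u : Fin m → F} (hu : u ≠ 0) :
    (Finset.univ.filter fun v : Fin m → F => v ⬝ᵥ u = 0).card = Fintype.card F ^ (m - 1) := by
  classical
  let L : (Fin m → F) →ₗ[F] F :=
    { toFun := fun v => v ⬝ᵥ u
      map_add' := fun a b => add_dotProduct a b u
      map_smul' := fun c a => smul_dotProduct c a u }
  obtain ⟨x, hx⟩ := Function.ne_iff.1 hu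
  have hsurj : Function.Surjective L := fun c => ⟨Pi.single x (c / u x), by
    show Pi.single x (c / u x) ⬝ᵥ u = c
    rw [single_dotProduct, div_mul_cancel₀ c hx]⟩
  have h1 := LinearMap.finrank_range_add_finrank_ker L
  rw [LinearMap.range_eq_top.2 hsurj, finrank_top, Module.finrank_self, Module.finrank_pi, Fintype.card_fin] at h1
  have h2 := Module.card_eq_pow_finrank (K := F) (V := LinearMap.ker L)
  rw [show Module.finrank F (LinearMap.ker L) = m - 1 by omega] at h2
  rw [← h2, ← Fintype.card_coe]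
  refine Fintype.card_congr (Equiv.subtypeEquivRight fun v => ?_)
  simp [L]

theorem card_rootMat_le [DecidableEq F] [DecidablePred (RootMat (F := F) (m := m))] :
    (Finset.univ.filter (RootMat (F := F) (m := m))).card * (Fintype.card F - 1) ≤
      (Fintype.card F ^ m - 1) * (Fintype.card F ^ (m - 1) - 1) := by
  classical
  let A : Finset ((Fin m → F) × (Fin m → F)) :=
    (Finset.univ.filter fun p => p.1 ≠ 0 ∧ p.2 ≠ 0 ∧ p.2 ⬝ᵥ p.1 = 0)
  have hA : A.card = (Fintype.card F ^ m - 1) * (Fintype.card F ^ (m - 1) - 1) := by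
    have : A = (Finset.univ.erase (0 : Fin m → F)).biUnion fun u =>
        (((Finset.univ.filter fun v : Fin m → F => v ⬝ᵥ u = 0).erase 0).image fun v => (u, v)) := by
      ext ⟨u, v⟩
      simp [A, and_comm, and_left_comm, and_assoc]
    rw [this, Finset.card_biUnion]
    · rw [Finset.sum_const_nat (m := Fintype.card F ^ (m - 1) - 1) fun u hu => ?_]
      · rw [Finset.card_erase_of_mem (Finset.mem_univ _), Finset.card_univ, Fintype.card_fun, Fintype.card_fin]
      · rw [Finset.card_image_of_injective _ (fun a b h => congrArg Prod.snd h), Finset.card_erase_of_mem (by simp),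
          card_orth (Finset.ne_of_mem_erase hu)]
    · intro u _ u' _ hne
      show Disjoint _ _
      rw [Finset.disjoint_left]
      intro p hp hp'
      obtain ⟨v, -, rfl⟩ := Finset.mem_image.1 hp
      obtain ⟨v', -, h⟩ := Finset.mem_image.1 hp'
      exact hne (congrArg Prod.fst h).symm
  rw [← hA]
  have hmap : ∀ p ∈ A, Matrix.vecMulVec p.1 p.2 ∈ Finset.univ.filter (RootMat (F := F) (m := m)) := fun p hp => by
    simp only [A, Finset.mem_filter, Finset.mem_univ, true_and] at hp ⊢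
    exact ⟨p.1, p.2, hp.1, hp.2.1, hp.2.2, rfl⟩
  rw [mul_comm, Finset.card_eq_sum_card_fiberwise hmap, mul_comm, ← smul_eq_mul, ← Finset.sum_const]
  refine Finset.sum_le_sum fun N hN => ?_
  obtain ⟨u, v, hu, hv, h0, rfl⟩ := (Finset.mem_filter.1 hN).2
  have hc : Fintype.card F - 1 = ((Finset.univ : Finset F).erase 0).card := by
    rw [Finset.card_erase_of_mem (Finset.mem_univ _), Finset.card_univ]
  rw [hc]
  refine Finset.card_le_card_of_injOn (fun c => (c • u, c⁻¹ • v)) (fun c hc => ?_) fun c _ c' _ h => ?_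
  · rw [Finset.mem_coe, Finset.mem_erase] at hc
    simp [A, hc.1, hu, hv, h0, Matrix.smul_vecMulVec, Matrix.vecMulVec_smul, smul_smul, dotProduct_smul]
  · obtain ⟨x, hx⟩ := Function.ne_iff.1 hu
    have := congrFun (congrArg Prod.fst h) x
    exact mul_right_cancel₀ hx this

/-- Block square zero matrices. -/
def chartM {k : ℕ} (σ : Fin 2 ⊕ Fin k ≃ Fin m) (L : Matrix (Fin k) (Fin 2) F) (U : Matrix (Fin 2) (Fin k) F) :
    Matrix (Fin m) (Fin m) F :=
  ((Matrix.fromRows (1 : Matrix (Fin 2) (Fin 2) F) L) * U *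
    (Matrix.fromCols (-L) (1 : Matrix (Fin k) (Fin k) F))).submatrix σ.symm σ.symm

theorem chartM_big {k : ℕ} (σ : Fin 2 ⊕ Fin k ≃ Fin m) (L : Matrix (Fin k) (Fin 2) F) {U : Matrix (Fin 2) (Fin k) F}
    (hU : LinearIndependent F U.row) : BigMat (chartM σ L U) := by
  refine ⟨?_, ?_⟩
  · rw [chartM, Matrix.submatrix_mul_equiv]
    have : Matrix.fromCols (-L) (1 : Matrix (Fin k) (Fin k) F) *
        Matrix.fromRows (1 : Matrix (Fin 2) (Fin 2) F) L = 0 := by
      rw [Matrix.fromCols_mul_fromRows]; simp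
    simp only [← Matrix.mul_assoc]
    rw [Matrix.mul_assoc (Matrix.fromRows (1 : Matrix (Fin 2) (Fin 2) F) L * U) _ (Matrix.fromRows 1 L), this]
    simp
  · rw [chartM, Matrix.rank_submatrix]
    have hr : U.rank = 2 := by rw [hU.rank_matrix, Fintype.card_fin]
    obtain ⟨L', R', h⟩ := exists_sandwich U
    have key := le_rank_of_sandwich
      (L := L' * Matrix.fromCols (1 : Matrix (Fin 2) (Fin 2) F) (0 : Matrix (Fin 2) (Fin k) F))
      (X := Matrix.fromRows (1 : Matrix (Fin 2) (Fin 2) F) L * U * Matrix.fromCols (-L) (1 : Matrix (Fin k) (Fin k) F))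
      (R := Matrix.fromRows (0 : Matrix (Fin 2) (Fin k) F) (1 : Matrix (Fin k) (Fin k) F) * R') (by
        have e1 : Matrix.fromCols (1 : Matrix (Fin 2) (Fin 2) F) (0 : Matrix (Fin 2) (Fin k) F) *
            Matrix.fromRows (1 : Matrix (Fin 2) (Fin 2) F) L = 1 := by
          rw [Matrix.fromCols_mul_fromRows]; simp
        have e2 : Matrix.fromCols (-L) (1 : Matrix (Fin k) (Fin k) F) *
            Matrix.fromRows (0 : Matrix (Fin 2) (Fin k) F) (1 : Matrix (Fin k) (Fin k) F) = 1 := by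
          rw [Matrix.fromCols_mul_fromRows]; simp
        simp only [Matrix.mul_assoc]
        rw [← Matrix.mul_assoc (Matrix.fromCols (1 : Matrix (Fin 2) (Fin 2) F) 0), e1, Matrix.one_mul,
          ← Matrix.mul_assoc (Matrix.fromCols (-L) 1), e2, Matrix.one_mul, ← Matrix.mul_assoc, h])
    rw [Fintype.card_fin] at key
    omega

theorem chartM_apply_inl_inr {k : ℕ} (σ : Fin 2 ⊕ Fin k ≃ Fin m) (L : Matrix (Fin k) (Fin 2) F)
    (U : Matrix (Fin 2) (Fin k) F) (a : Fin 2) (b : Fin k) :
    chartM σ L U (σ (Sum.inl a)) (σ (Sum.inr b)) = U a b := by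
  rw [chartM, Matrix.submatrix_apply, Equiv.symm_apply_apply, Equiv.symm_apply_apply, Matrix.fromRows_mul,
    Matrix.fromRows_mul, Matrix.fromRows_apply_inl, Matrix.one_mul, Matrix.mul_fromCols, Matrix.fromCols_apply_inr,
    Matrix.mul_one]

theorem chartM_apply_inr_inr {k : ℕ} (σ : Fin 2 ⊕ Fin k ≃ Fin m) (L : Matrix (Fin k) (Fin 2) F)
    (U : Matrix (Fin 2) (Fin k) F) (a b : Fin k) :
    chartM σ L U (σ (Sum.inr a)) (σ (Sum.inr b)) = (L * U) a b := by
  rw [chartM, Matrix.submatrix_apply, Equiv.symm_apply_apply, Equiv.symm_apply_apply, Matrix.fromRows_mul,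
    Matrix.fromRows_mul, Matrix.fromRows_apply_inr, Matrix.mul_fromCols, Matrix.fromCols_apply_inr, Matrix.mul_one]

theorem chartM_zero_inl {k : ℕ} (σ : Fin 2 ⊕ Fin k ≃ Fin m) (U : Matrix (Fin 2) (Fin k) F) (a : Fin k)
    (x : Fin m) : chartM σ (0 : Matrix (Fin k) (Fin 2) F) U (σ (Sum.inr a)) x = 0 := by
  rw [chartM, Matrix.submatrix_apply, Equiv.symm_apply_apply, Matrix.fromRows_mul, Matrix.fromRows_mul,
    Matrix.fromRows_apply_inr]
  simp

theorem card_li {k : ℕ} (hk : 2 ≤ k) [DecidableEq F] :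
    Nat.card {U : Matrix (Fin 2) (Fin k) F // LinearIndependent F U.row} =
      (Fintype.card F ^ k - 1) * (Fintype.card F ^ k - Fintype.card F) := by
  classical
  have h := card_linearIndependent (K := F) (V := Fin k → F) (k := 2) (by simpa using hk)
  rw [Fin.prod_univ_two, Module.finrank_fin_fun] at h
  simp only [Fin.val_zero, Fin.val_one, pow_zero, pow_one] at h
  exact h

theorem count_arith {q a R : ℕ} (hq : 2 ≤ q) (ha : q * q ≤ a)
    (h : R * (q - 1) ≤ (q * q * a - 1) * (a * q - 1)) : R < (a ^ 2 + 2) * ((a - 1) * (a - q)) := by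
  have hqq : q ≤ q * q := Nat.le_mul_self q
  obtain ⟨c1, hc1⟩ : ∃ c, a = c + 1 := ⟨a - 1, by omega⟩
  obtain ⟨c2, hc2⟩ : ∃ c, a = c + q := ⟨a - q, by omega⟩
  rw [show a - 1 = c1 by omega, show a - q = c2 by omega]
  by_contra hle
  push Not at hle
  obtain ⟨p, rfl⟩ : ∃ p, q = p + 1 := ⟨q - 1, by omega⟩
  rw [Nat.add_sub_cancel] at h
  have h1 : (a ^ 2 + 2) * (c1 * c2) * p ≤ ((p + 1) * (p + 1) * a - 1) * (a * (p + 1) - 1) :=
    (Nat.mul_le_mul_right p hle).trans h
  rcases (show p = 1 ∨ 2 ≤ p by omega) with rfl | hp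
  · rcases (show a = 4 ∨ 5 ≤ a by omega) with rfl | ha5
    · obtain rfl : c1 = 3 := by omega
      obtain rfl : c2 = 2 := by omega
      omega
    · have h2 : 12 ≤ c1 * c2 := le_trans (by norm_num) (Nat.mul_le_mul (show 4 ≤ c1 by omega) (show 3 ≤ c2 by omega))
      have h3 := h1.trans (Nat.mul_le_mul (Nat.sub_le _ _) (Nat.sub_le _ _))
      have h4 := Nat.mul_le_mul_left (a ^ 2 + 2) h2
      nlinarith
  · have h2 : (p + 1) * (p + 1) * (p + 1) ≤ c1 * c2 * p := by
      have e1 : (p + 1) * (p + 1) ≤ c1 + 1 := by omega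
      have e2 : p + 1 ≤ c2 := by nlinarith
      have e3 : (p + 1) * (p + 1) ≤ 2 * c1 := by nlinarith
      calc (p + 1) * (p + 1) * (p + 1) ≤ 2 * c1 * c2 := Nat.mul_le_mul e3 e2
        _ = c1 * c2 * 2 := by ring
        _ ≤ _ := Nat.mul_le_mul_left _ hp
    have h3 := h1.trans (Nat.mul_le_mul (Nat.sub_le _ _) (Nat.sub_le _ _))
    have h4 := Nat.mul_le_mul_left (a ^ 2 + 2) h2
    nlinarith

/-- More square zero matrices of rank at least two than roots. -/
theorem card_rootMat_lt (hm : 4 ≤ m) :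
    Nat.card {N : Matrix (Fin m) (Fin m) F // RootMat N} < Nat.card {N : Matrix (Fin m) (Fin m) F // BigMat N} := by
  classical
  obtain ⟨k, rfl⟩ : ∃ k, m = 2 + k := ⟨m - 2, by omega⟩
  have hk : 2 ≤ k := by omega
  let k0 : Fin k := ⟨0, by omega⟩
  let k1 : Fin k := ⟨1, by omega⟩
  have hk01 : k0 ≠ k1 := by simp [k0, k1, Fin.ext_iff]
  let σ : Fin 2 ⊕ Fin k ≃ Fin (2 + k) := finSumFinEquiv
  let π1 : Equiv.Perm (Fin (2 + k)) :=
    Equiv.swap (σ (Sum.inl 0)) (σ (Sum.inr k0)) * Equiv.swap (σ (Sum.inl 1)) (σ (Sum.inr k1))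
  let π2 : Equiv.Perm (Fin (2 + k)) := Equiv.swap (σ (Sum.inl 1)) (σ (Sum.inr k0))
  let LI := {U : Matrix (Fin 2) (Fin k) F // LinearIndependent F U.row}
  let Φ : (Matrix (Fin k) (Fin 2) F × LI) ⊕ (LI ⊕ LI) → {N : Matrix (Fin (2 + k)) (Fin (2 + k)) F // BigMat N} :=
    fun s => match s with
    | Sum.inl (L, U) => ⟨chartM σ L U.1, chartM_big σ L U.2⟩
    | Sum.inr (Sum.inl U) => ⟨(chartM σ 0 U.1).submatrix π1 π1, by
        obtain ⟨h1, h2⟩ := chartM_big σ 0 U.2
        exact ⟨by rw [Matrix.submatrix_mul_equiv, h1]; simp, by rw [Matrix.rank_submatrix]; exact h2⟩⟩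
    | Sum.inr (Sum.inr U) => ⟨(chartM σ 0 U.1).submatrix π2 π2, by
        obtain ⟨h1, h2⟩ := chartM_big σ 0 U.2
        exact ⟨by rw [Matrix.submatrix_mul_equiv, h1]; simp, by rw [Matrix.rank_submatrix]; exact h2⟩⟩
  have hsne : ∀ (a : Fin 2) (b : Fin k), σ (Sum.inl a) ≠ σ (Sum.inr b) := fun a b h => by simp at h
  have π1l0 : π1 (σ (Sum.inl 0)) = σ (Sum.inr k0) := by
    simp [π1, Equiv.swap_apply_of_ne_of_ne (show σ (Sum.inl 0) ≠ σ (Sum.inl 1) by simp) (hsne 0 k1)]
  have π1l1 : π1 (σ (Sum.inl 1)) = σ (Sum.inr k1) := by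
    simp [π1, Equiv.swap_apply_of_ne_of_ne (hsne 0 k1).symm (show σ (Sum.inr k1) ≠ σ (Sum.inr k0) by simp [hk01.symm])]
  have π2l0 : π2 (σ (Sum.inl 0)) = σ (Sum.inl 0) :=
    Equiv.swap_apply_of_ne_of_ne (by simp) (hsne 0 k0)
  have π2l1 : π2 (σ (Sum.inl 1)) = σ (Sum.inr k0) := Equiv.swap_apply_left _ _
  have hrow1 : ∀ (U : LI), ∀ a : Fin 2, U.1 a ≠ 0 := fun U a => U.2.ne_zero a
  have hΦ : Function.Injective Φ := by
    intro s s' h
    have h' := congrArg Subtype.val h
    rcases s with ⟨L, U⟩ | U | U <;> rcases s' with ⟨L', U'⟩ | U' | U' <;> simp only [Φ] at h'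
    · have hU : U = U' := Subtype.ext (Matrix.ext fun a b => by
        rw [← chartM_apply_inl_inr σ L U.1, h', chartM_apply_inl_inr])
      subst hU
      have hLU : L * U.1 = L' * U.1 := Matrix.ext fun a b => by
        rw [← chartM_apply_inr_inr σ L U.1, h', chartM_apply_inr_inr]
      have hL : L = L' := by
        refine Matrix.ext fun a => congrFun ?_
        have h3 : Matrix.vecMul (L a) U.1 = Matrix.vecMul (L' a) U.1 :=
          funext fun b => congrFun₂ hLU a b
        exact Matrix.vecMul_injective_iff.2 U.2 h3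
      rw [hL]
    · refine absurd (funext fun b => ?_) (hrow1 U 0)
      rw [← chartM_apply_inl_inr σ L U.1, h', Matrix.submatrix_apply, π1l0, chartM_zero_inl]; rfl
    · refine absurd (funext fun b => ?_) (hrow1 U 1)
      rw [← chartM_apply_inl_inr σ L U.1, h', Matrix.submatrix_apply, π2l1, chartM_zero_inl]; rfl
    · refine absurd (funext fun b => ?_) (hrow1 U' 0)
      rw [← chartM_apply_inl_inr σ L' U'.1, ← h', Matrix.submatrix_apply, π1l0, chartM_zero_inl]; rfl
    · have hh : chartM σ (0 : Matrix (Fin k) (Fin 2) F) U.1 = chartM σ (0 : Matrix (Fin k) (Fin 2) F) U'.1 :=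
        Matrix.ext fun a b => by
          have := congrFun₂ h' (π1.symm a) (π1.symm b)
          simpa using this
      exact congrArg _ (congrArg _ (Subtype.ext (Matrix.ext fun a b => by
        rw [← chartM_apply_inl_inr σ 0 U.1, hh, chartM_apply_inl_inr])))
    · refine absurd (funext fun b => ?_) (hrow1 U' 0)
      have := congrFun₂ h' (σ (Sum.inl 0)) (π2.symm (σ (Sum.inr b)))
      rw [Matrix.submatrix_apply, Matrix.submatrix_apply, π1l0, π2l0, Equiv.apply_symm_apply, chartM_zero_inl,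
        chartM_apply_inl_inr] at this
      exact this.symm
    · refine absurd (funext fun b => ?_) (hrow1 U' 1)
      rw [← chartM_apply_inl_inr σ L' U'.1, ← h', Matrix.submatrix_apply, π2l1, chartM_zero_inl]; rfl
    · refine absurd (funext fun b => ?_) (hrow1 U 0)
      have := congrFun₂ h' (σ (Sum.inl 0)) (π2.symm (σ (Sum.inr b)))
      rw [Matrix.submatrix_apply, Matrix.submatrix_apply, π1l0, π2l0, Equiv.apply_symm_apply, chartM_zero_inl,
        chartM_apply_inl_inr] at this
      exact this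
    · have hh : chartM σ (0 : Matrix (Fin k) (Fin 2) F) U.1 = chartM σ (0 : Matrix (Fin k) (Fin 2) F) U'.1 :=
        Matrix.ext fun a b => by
          have := congrFun₂ h' (π2.symm a) (π2.symm b)
          simpa using this
      exact congrArg _ (congrArg _ (Subtype.ext (Matrix.ext fun a b => by
        rw [← chartM_apply_inl_inr σ 0 U.1, hh, chartM_apply_inl_inr])))
  refine lt_of_lt_of_le ?_ (Nat.card_le_card_of_injective Φ hΦ)
  rw [Nat.card_sum, Nat.card_sum, Nat.card_prod, card_li hk,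
    show Nat.card (Matrix (Fin k) (Fin 2) F) = (Fintype.card F ^ k) ^ 2 by
      show Nat.card (Fin k → Fin 2 → F) = _
      simp [Nat.card_fun, ← pow_mul, mul_comm k 2]]
  have hroot := card_rootMat_le (F := F) (m := 2 + k)
  rw [show Nat.card {N : Matrix (Fin (2 + k)) (Fin (2 + k)) F // RootMat N} =
    (Finset.univ.filter (RootMat (F := F) (m := 2 + k))).card by
      rw [Nat.card_eq_fintype_card, Fintype.card_subtype]]
  have hq2 : 2 ≤ Fintype.card F := Fintype.one_lt_card
  generalize (Finset.univ.filter (RootMat (F := F) (m := 2 + k))).card = R at hroot ⊢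
  generalize Fintype.card F = q at hroot hq2 ⊢
  rw [show q ^ (2 + k) = q * q * q ^ k by ring, show 2 + k - 1 = k + 1 by omega, pow_succ] at hroot
  have ha : q * q ≤ q ^ k := by rw [← pow_two]; exact Nat.pow_le_pow_right (by omega) hk
  generalize q ^ k = a at ha hroot ⊢
  exact lt_of_lt_of_le (count_arith hq2 ha hroot) (le_of_eq (by ring))

end CfsgLib.Classical.TensorWreath
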