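import Cfsg.Agent.Lib.Classical.TensorWreath.Split

set_option autoImplicit false
set_option linter.unusedSectionVars false

/-!
Descent to the other factors: a conjugator mapping a root to a root is monomial.
-/

namespace CfsgLib.Classical.TensorWreath

open Matrix
open scoped MatrixGroups Kronecker

variable {F : Type*} [Field F] {τ : Type} [Fintype τ] [DecidableEq τ] {m : ℕ}

/-- A proper intermediate group is monomial. -/
def AllMono (F : Type*) [Field F] (τ : Type) [Fintype τ] [DecidableEq τ] (m : ℕ) : Prop :=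
  ∀ M : Subgroup (GL (Ix τ m) F), Hyp M → ¬ Top M → ∀ g ∈ M, Mono g.1

/-- A conjugator with a monomial image of a root is monomial. -/
def MonoConj (F : Type*) [Field F] (τ : Type) [Fintype τ] [DecidableEq τ] (m : ℕ) : Prop :=
  ∀ (M M' : Subgroup (GL (Ix τ m) F)) (g : GL (Ix τ m) F), Hyp M → Hyp M' → ¬ Top M → ¬ Top M' → Rel M M' g →
    ∀ (i : τ) (X : Matrix (Ix τ m) (Ix τ m) F), RootAt i X → Mono (1 + g.1 * X * (g⁻¹).1) → Mono g.1

/-- The statements for the fewer factors. -/
def Low (F : Type*) [Field F] (τ : Type) [Fintype τ] [DecidableEq τ] (m : ℕ) : Prop :=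
  ∀ i : τ, 2 ≤ Fintype.card (Rest i) → AllMono F (Rest i) m ∧ MonoConj F (Rest i) m

/-- From the other factors to all. -/
def lift [NeZero m] (i : τ) : GL (Ix (Rest i) m) F →* GL (Ix τ m) F :=
  Units.map
    { toFun := fun A => ins i A 1
      map_one' := ins_one_one i
      map_mul' := fun A B => by rw [ins_mul, mul_one] }

theorem lift_val [NeZero m] (i : τ) (a : GL (Ix (Rest i) m) F) : (lift i a).1 = ins i a.1 1 := rfl

theorem ins_permM (i : τ) (σ : Equiv.Perm (Rest i)) :
    ins i (permM F m σ) 1 = permM F m (Equiv.Perm.ofSubtype σ) := by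
  ext x y
  rw [ins_apply]
  simp only [permM, Matrix.of_apply]
  by_cases h : y = x ∘ Equiv.Perm.ofSubtype σ
  · have h1 : (fun j : Rest i => y j) = (fun j : Rest i => x j) ∘ σ := funext fun j => by
      rw [h, Function.comp_apply, Function.comp_apply, Equiv.Perm.ofSubtype_apply_coe]
    have h2 : x i = y i := by
      rw [h, Function.comp_apply, Equiv.Perm.ofSubtype_apply_of_not_mem _ (by simp)]
    rw [if_pos h, if_pos h1, h2, Matrix.one_apply_eq, mul_one]
  · rw [if_neg h]
    by_cases h2 : x i = y i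
    · rw [if_neg, zero_mul]
      intro h1
      refine h (funext fun j => ?_)
      by_cases hj : j = i
      · subst hj
        rw [Function.comp_apply, Equiv.Perm.ofSubtype_apply_of_not_mem _ (by simp), h2]
      · have := congrFun h1 ⟨j, hj⟩
        rw [Function.comp_apply] at this
        rw [Function.comp_apply, ← Equiv.Perm.ofSubtype_apply_coe σ ⟨j, hj⟩] at *
        exact this
    · rw [Matrix.one_apply_ne h2, mul_zero]

theorem mono_ins (i : τ) {A : Matrix (Ix (Rest i) m) (Ix (Rest i) m) F} (h : Mono A) : Mono (ins i A 1) := by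
  obtain ⟨gs, σ, rfl⟩ := h
  rw [← mul_one (1 : Matrix (Fin m) (Fin m) F), ← ins_mul, ins_pureM, ins_permM]
  exact (mono_pure _).mul (mono_perm _)

theorem ins_embM (i : τ) (j : Rest i) (b : Matrix (Fin m) (Fin m) F) : ins i (embM j b) 1 = embM j.1 b := by
  rw [embM, ins_pureM, embM]
  congr 1
  funext l
  by_cases hl : l = i
  · subst hl
    rw [Function.update_self, Function.update_of_ne (Ne.symm j.2), Pi.one_apply]
  · rw [Function.update_of_ne hl, extend, dif_neg hl]
    by_cases hlj : l = j.1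
    · subst hlj; simp
    · rw [Function.update_of_ne hlj, Function.update_of_ne fun e => hlj (congrArg Subtype.val e)]
      rfl

theorem RootAt.lift [NeZero m] {i : τ} {j : Rest i} {X : Matrix (Ix (Rest i) m) (Ix (Rest i) m) F}
    (h : RootAt j X) : RootAt j.1 (ins i X 1) := by
  obtain ⟨u, v, hu, hv, h0, rfl⟩ := h
  exact ⟨u, v, hu, hv, h0, ins_embM i j _⟩

theorem mono_of_card_one (h : Fintype.card τ = 1) (X : Matrix (Ix τ m) (Ix τ m) F) : Mono X := by
  obtain ⟨i, hi⟩ := Fintype.card_eq_one_iff.1 h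
  haveI : Unique τ := ⟨⟨i⟩, hi⟩
  refine ⟨fun _ => X.submatrix (fun a _ => a) (fun a _ => a), 1, ?_⟩
  rw [permM_one, mul_one]
  ext x y
  rw [pureM_apply, Fintype.prod_unique, Matrix.submatrix_apply]
  congr 1 <;> funext l <;> rw [hi l, hi default]

variable {M M' : Subgroup (GL (Ix τ m) F)} {g : GL (Ix τ m) F} {i : τ}

/-- The part of `M` on the other factors. -/
def down [NeZero m] (i : τ) (M : Subgroup (GL (Ix τ m) F)) : Subgroup (GL (Ix (Rest i) m) F) :=
  M.comap (lift i) ⊓ (Matrix.GeneralLinearGroup.det).ker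

theorem mem_down [NeZero m] {a : GL (Ix (Rest i) m) F} : a ∈ down i M ↔ lift i a ∈ M ∧ a.1.det = 1 := by
  rw [down, Subgroup.mem_inf, Subgroup.mem_comap, MonoidHom.mem_ker, Units.ext_iff]
  rfl

theorem Hyp.down [NeZero m] (H : Hyp M) : Hyp (TensorWreath.down i M) where
  det_one a ha := (mem_down.1 ha).2
  mono a hd ha := mem_down.2 ⟨H.mono _ (by rw [lift_val, det_ins, hd, one_pow, Matrix.det_one, one_pow, mul_one])
    (mono_ins i ha), hd⟩

theorem Hyp.top_of_down [NeZero m] (H : Hyp M) (hm : 3 ≤ m) (h2 : 2 ≤ Fintype.card (Rest i))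
    (h : Top (TensorWreath.down i M)) : Top M := by
  let a : Fin m := ⟨0, by omega⟩
  let b : Fin m := ⟨1, by omega⟩
  have hab : a ≠ b := by simp [a, b, Fin.ext_iff]
  set P := (pt (Finset.univ : Finset (Rest i)) fun _ => (a, b) : Matrix (Ix (Rest i) m) (Ix (Rest i) m) F) with hP
  have hPd : (1 + P).det = 1 := by
    have hsingle : P = Matrix.single (fun _ => a) (fun _ => b) (1 : F) := by
      ext x y
      rw [hP, pt, pureM_apply, Matrix.single_apply]
      by_cases huv : (fun _ => a) = x ∧ (fun _ => b) = y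
      · obtain ⟨rfl, rfl⟩ := huv
        simp [pick]
      · rw [if_neg huv]
        obtain ⟨l, hl⟩ : ∃ l, ¬ (a = x l ∧ b = y l) := by
          by_contra hh
          push Not at hh
          exact huv ⟨funext fun l => (hh l).1, funext fun l => (hh l).2⟩
        exact Finset.prod_eq_zero (Finset.mem_univ l) (by simp [pick, Matrix.single_apply, hl])
    rw [hsingle, Matrix.single_eq_single_vecMulVec_single, TensorMax.det_one_add_vecMulVec, single_dotProduct,
      Pi.single_eq_of_ne, mul_zero, add_zero]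
    obtain ⟨l⟩ : Nonempty (Rest i) := Fintype.card_pos_iff.1 (by omega)
    exact fun e => hab.symm (congrFun e l)
  have h1 := (mem_down.1 (h (glOf (1 + P) hPd) hPd)).1
  have h3 : InM M (1 + pt (Finset.univ.erase i) fun _ => (a, b)) := by
    refine ⟨_, h1, ?_⟩
    rw [lift_val, glOf_val, ins_add_left, ins_one_one, hP, pt, ins_pureM, pt]
    congr 2
    funext l
    by_cases hl : l = i
    · subst hl; simp [pick]
    · simp [pick, extend, hl]
  refine H.top_of_pt hm _ rfl ?_ (fun _ _ => hab) h3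
  rw [Finset.card_erase_of_mem (Finset.mem_univ i), Finset.card_univ]
  rw [Fintype.card_subtype_compl, Fintype.card_subtype_eq] at h2
  omega

/-- A conjugator mapping a root to a root of the same factor is monomial. -/
theorem mono_of_root_same (hlow : Low F τ m) (H : Hyp M) (H' : Hyp M') (hm : 3 ≤ m) (ht : 2 ≤ Fintype.card τ)
    (hT : ¬ Top M) (hT' : ¬ Top M') (hR : Rel M M' g) {X : Matrix (Ix τ m) (Ix τ m) F} (hX : RootAt i X)
    (hgX : RootAt i (g.1 * X * (g⁻¹).1)) : Mono g.1 := by
  haveI : NeZero m := ⟨by omega⟩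
  obtain ⟨T, A, hA, hg⟩ := exists_split H H' hm hT' hR hX hgX
  suffices hA0 : Mono (restM i A) by
    rw [hg, hA.eq_ins]
    exact (mono_pure _).mul (mono_ins i hA0)
  have hcard : Fintype.card (Rest i) = Fintype.card τ - 1 := by
    rw [Fintype.card_subtype_compl, Fintype.card_subtype_eq]
  by_cases h2 : 2 ≤ Fintype.card (Rest i)
  swap
  · exact mono_of_card_one (by omega) _
  have hd : g.1.det ≠ 0 := ((Matrix.isUnit_iff_isUnit_det _).1 g.isUnit).ne_zero
  rw [hg, Matrix.det_mul, det_embM, hA.eq_ins, det_ins] at hd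
  have hA0 : (restM i A).det ≠ 0 := fun h0 => hd (by rw [h0, zero_pow (by omega), zero_mul, mul_zero])
  have hTd : T.det ≠ 0 := fun h0 => hd (by rw [h0, zero_pow Fintype.card_ne_zero, zero_mul])
  set A0 := Matrix.GeneralLinearGroup.mkOfDetNeZero (restM i A) hA0
  set Tu := Matrix.GeneralLinearGroup.mkOfDetNeZero T hTd
  let T2 : GL (Ix τ m) F := ⟨embM i T, embM i (Tu⁻¹).1,
    by rw [embM_mul, show T * (Tu⁻¹).1 = 1 from Tu.mul_inv, embM_one],
    by rw [embM_mul, show (Tu⁻¹).1 * T = 1 from Tu.inv_mul, embM_one]⟩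
  have hgT : g = T2 * lift i A0 := Units.ext (by
    rw [Units.val_mul, lift_val, hg]
    show embM i T * A = embM i T * ins i (restM i A) 1
    rw [← hA.eq_ins])
  have hcomm : ∀ a : GL (Ix (Rest i) m) F, T2 * lift i a = lift i a * T2 := fun a => Units.ext (by
    rw [Units.val_mul, Units.val_mul, lift_val]
    exact cen_ins_one i a.1 T)
  have hconj : ∀ a, g * lift i a * g⁻¹ = lift i (A0 * a * A0⁻¹) := fun a => by
    rw [map_mul, map_mul, map_inv, hgT, _root_.mul_inv_rev]
    calc T2 * lift i A0 * lift i a * ((lift i A0)⁻¹ * T2⁻¹)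
        = T2 * (lift i A0 * lift i a * lift i A0⁻¹) * T2⁻¹ := by rw [map_inv]; simp only [mul_assoc]
      _ = lift i A0 * lift i a * lift i A0⁻¹ * T2 * T2⁻¹ := by rw [← map_mul, ← map_mul, hcomm]
      _ = _ := by rw [map_inv, mul_inv_cancel_right]
  have hR0 : Rel (down i M) (down i M') A0 := fun a => by
    rw [mem_down, mem_down, ← hconj, ← hR, det_conj]
  obtain ⟨hAll, hConj⟩ := hlow i h2
  obtain ⟨j⟩ : Nonempty (Rest i) := Fintype.card_pos_iff.1 (by omega)
  let a : Fin m := ⟨0, by omega⟩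
  let b : Fin m := ⟨1, by omega⟩
  have hab : a ≠ b := by simp [a, b, Fin.ext_iff]
  have hTdM' : ¬ Top (down i M') := fun h => hT' (H'.top_of_down hm h2 h)
  obtain ⟨y, hy, hy'⟩ := hR0.inM (H.down.inM_e j hab)
  exact hConj _ _ A0 H.down H'.down (fun h => hT (H.top_of_down hm h2 h)) hTdM' hR0 j _ (rootAt_e j hab)
    (hy' ▸ hAll _ H'.down hTdM' y hy)

/-- A conjugator mapping a root to a root is monomial. -/
theorem mono_of_root (hlow : Low F τ m) (H : Hyp M) (H' : Hyp M') (hm : 3 ≤ m) (ht : 2 ≤ Fintype.card τ)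
    (hT : ¬ Top M) (hT' : ¬ Top M') (hR : Rel M M' g) {X : Matrix (Ix τ m) (Ix τ m) F} {j : τ} (hX : RootAt i X)
    (hgX : RootAt j (g.1 * X * (g⁻¹).1)) : Mono g.1 := by
  haveI : NeZero m := ⟨by omega⟩
  set u : GL (Ix τ m) F := permU F m (Equiv.swap j i) with hu
  have hum : Mono u.1 := mono_perm _
  have H'' : Hyp (M'.map (MulAut.conj u).toMonoidHom) := H'.of_rel hum (rel_map M' u)
  have hgX2 : RootAt i ((u * g).1 * X * ((u * g)⁻¹).1) := by
    obtain ⟨a, b, ha, hb, h0, hab⟩ := hgX
    refine ⟨a, b, ha, hb, h0, ?_⟩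
    calc (u * g).1 * X * ((u * g)⁻¹).1 = u.1 * (g.1 * X * (g⁻¹).1) * (u⁻¹).1 := by
          rw [_root_.mul_inv_rev, Units.val_mul, Units.val_mul]; simp only [mul_assoc]
      _ = _ := by rw [hab, hu, permU_conj_embM, Equiv.swap_apply_left]
  have key := mono_of_root_same hlow H H'' hm ht hT (fun h => hT' (Top.of_rel (rel_map M' u) h))
    (hR.trans (rel_map M' u)) hX hgX2
  have := (mono_inv hum).mul key
  rwa [Units.val_mul, ← mul_assoc, u.inv_mul, one_mul] at this

end CfsgLib.Classical.TensorWreath
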