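import Cfsg.Agent.Lib.Classical.TensorWreath.Gamma

set_option autoImplicit false
set_option linter.unusedSectionVars false

/-!
Characteristic two and factors of dimension at least four: the conclusion.
-/

namespace CfsgLib.Classical.TensorWreath

open Matrix
open scoped MatrixGroups Kronecker

variable {F : Type*} [Field F] [Fintype F] {m : ℕ} {τ : Type} [Fintype τ] [DecidableEq τ]
variable {M : Subgroup (GL (Ix τ m) F)} {g : GL (Ix τ m) F}

/-- The case of characteristic two and `m ≥ 4`. -/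
theorem Ctx.allMono_four (C : Ctx M) (h2 : (2 : F) = 0) (hm4 : 4 ≤ m) (hg : g ∈ M) : Mono g.1 := by
  classical
  haveI : NeZero m := ⟨by omega⟩
  haveI : Nonempty τ := Fintype.card_pos_iff.1 (by have := C.two; omega)
  let i : τ := Classical.arbitrary τ
  have hab : (⟨0, by omega⟩ : Fin m) ≠ ⟨1, by omega⟩ := by simp [Fin.ext_iff]
  have hX : RootAt i (embM i (e ⟨0, by omega⟩ ⟨1, by omega⟩) : Matrix (Ix τ m) (Ix τ m) F) := rootAt_e i hab
  obtain ⟨k, hkM, hkv⟩ := (Rel.refl hg).inM (C.hyp.inM_e i hab)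
  by_cases hkm : Mono k.1
  · exact C.mono_of_conj_root hg hX (hkv ▸ hkm)
  exfalso
  choose f nf hf1 hf2 hf3 using fun N : {N : Matrix (Fin m) (Fin m) F // BigMat N} =>
    C.partner h2 hm4 hg hX hkv hkm N.2
  have hlt := card_rootMat_lt (F := F) hm4
  obtain ⟨N0⟩ : Nonempty {N : Matrix (Fin m) (Fin m) F // BigMat N} :=
    Finite.card_pos_iff.1 (lt_of_le_of_lt (Nat.zero_le _) hlt)
  obtain ⟨-, hinj⟩ := C.gamma h2 hkM hkm i BigMat (fun N h => h.1)
    (fun N h h0 => by have := h.2; rw [h0, Matrix.rank_zero] at this; omega) (fun N h => bigMat_conj h) N0 f nf hf1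
    (fun N => by
      obtain ⟨u, v, -, -, h0, h⟩ := hf2 N
      rw [h, Matrix.vecMulVec_mul_vecMulVec, h0]; simp) hf3
  refine absurd (Nat.card_le_card_of_injective
    (fun N => (⟨nf N, hf2 N⟩ : {n : Matrix (Fin m) (Fin m) F // RootMat n})) fun N N' h => ?_) (not_le.2 hlt)
  exact hinj N N' (congrArg Subtype.val h)

end CfsgLib.Classical.TensorWreath
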