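import Cfsg.Agent.Lib.Classical.TensorWreath.Count

set_option autoImplicit false
set_option linter.unusedSectionVars false

/-!
Characteristic two and factors of dimension at least four.
-/

namespace CfsgLib.Classical.TensorWreath

open Matrix
open scoped MatrixGroups Kronecker commutatorElement

variable {F : Type*} [Field F] {m : ℕ}

theorem one_add_det_of_sq (h2 : (2 : F) = 0) {N : Matrix (Fin m) (Fin m) F} (hN : N * N = 0) : (1 + N).det = 1 := by
  have h := congrArg Matrix.det (two_mul_one_add_sq h2 hN)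
  rw [Matrix.det_mul, Matrix.det_one] at h
  have h' : ((1 + N).det - 1) * ((1 + N).det - 1) = 0 := by
    linear_combination h - ((1 + N).det - 1) * h2
  exact sub_eq_zero.1 (mul_self_eq_zero.1 h')

theorem eq_top_of_sup_center (hm : 3 ≤ m) (S : Subgroup (SpecialLinearGroup (Fin m) F))
    (h : S ⊔ Subgroup.center (SpecialLinearGroup (Fin m) F) = ⊤) : S = ⊤ := by
  haveI : Nontrivial (Fin m) := Fin.nontrivial_iff_two_le.2 (by omega)
  have hperf := commutator_SL_eq_top (F := F) (ι := Fin m) (Or.inl (by rw [Fintype.card_fin]; exact hm))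
  rw [← top_le_iff, ← hperf, _root_.commutator_def, Subgroup.commutator_le]
  intro x _ y _
  obtain ⟨s, hs, z, hz, rfl⟩ := Subgroup.mem_sup_of_normal_right.1 (show x ∈ S ⊔ _ by rw [h]; trivial)
  obtain ⟨s', hs', z', hz', rfl⟩ := Subgroup.mem_sup_of_normal_right.1 (show y ∈ S ⊔ _ by rw [h]; trivial)
  have c1 := Subgroup.mem_center_iff.1 hz
  have c2 := Subgroup.mem_center_iff.1 hz'
  have e : ⁅s * z, s' * z'⁆ = ⁅s, s'⁆ := by
    have a1 : ∀ w, (s * z) * w * (s * z)⁻¹ = s * w * s⁻¹ := fun w => by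
      rw [_root_.mul_inv_rev, mul_assoc s z w, ← c1 w]; group
    rw [commutatorElement_def, commutatorElement_def, a1, _root_.mul_inv_rev, ← mul_assoc s s' z', mul_assoc (s * s')]
    rw [show z' * s⁻¹ = s⁻¹ * z' from (c2 _).symm]; group
  rw [e, commutatorElement_def]
  exact S.mul_mem (S.mul_mem (S.mul_mem hs hs') (S.inv_mem hs)) (S.inv_mem hs')

variable [Fintype F]

theorem bigMat_ne_scalar [NeZero m] {N : Matrix (Fin m) (Fin m) F} (hN : BigMat N) (x : F) : N ≠ x • 1 :=
  ne_scalar_of_sq_zero (fun h => by have := hN.2; rw [h, Matrix.rank_zero] at this; omega) hN.1 x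

theorem bigMat_conj {N : Matrix (Fin m) (Fin m) F} (hN : BigMat N) (A : SpecialLinearGroup (Fin m) F) :
    BigMat (A.1 * N * (A⁻¹).1) := by
  have h1 : (A⁻¹).1 * A.1 = 1 := congrArg Subtype.val (inv_mul_cancel A)
  refine ⟨?_, le_trans hN.2 ?_⟩
  · rw [show A.1 * N * (A⁻¹).1 * (A.1 * N * (A⁻¹).1) = A.1 * N * ((A⁻¹).1 * A.1) * N * (A⁻¹).1 by
      simp only [mul_assoc], h1, mul_one, mul_assoc A.1, hN.1, mul_zero, zero_mul]
  · rw [Matrix.rank_mul_eq_left_of_isUnit_det _ _ (by rw [(A⁻¹).2]; exact isUnit_one),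
      Matrix.rank_mul_eq_right_of_isUnit_det _ _ (by rw [A.2]; exact isUnit_one)]

theorem center_eq_of_mul {N N' : Matrix (Fin m) (Fin m) F} (h2 : (2 : F) = 0) (hm : 1 ≤ m) (hN : N * N = 0)
    (hN' : N' * N' = 0) {r : F} (hr : (1 + N) * (1 + N') = r • (1 : Matrix (Fin m) (Fin m) F)) : N = N' := by
  haveI : Nonempty (Fin m) := ⟨⟨0, hm⟩⟩
  have h5 : (1 + N') = r • (1 + N) := by
    have := congrArg ((1 + N) * ·) hr
    simp only [← mul_assoc, two_mul_one_add_sq h2 hN, one_mul] at this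
    rw [this, mul_smul_comm, mul_one]
  have h6 : N' - r • N = (r - 1) • 1 := by
    rw [sub_smul, one_smul, sub_eq_sub_iff_add_eq_add, add_comm, h5, smul_add]
  have h7 : N * N' = N' * N := by
    rw [eq_add_of_sub_eq h6]
    simp only [mul_add, add_mul, mul_smul_comm, smul_mul_assoc, one_mul, mul_one]
  have h8 : ((r - 1) • (1 : Matrix (Fin m) (Fin m) F)) * ((r - 1) • 1) = 0 := by
    rw [← h6]
    simp only [sub_mul, mul_sub, smul_mul_assoc, mul_smul_comm, hN', hN, h7, smul_zero, sub_zero, zero_sub]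
    rw [show ∀ X : Matrix (Fin m) (Fin m) F, -X - X = -(X + X) by intro X; abel, ← two_smul F, h2, zero_smul,
      neg_zero]
  rw [smul_mul_smul_comm, mul_one, smul_eq_zero] at h8
  rcases h8 with h8 | h8
  · have hr1 : r = 1 := sub_eq_zero.1 (mul_self_eq_zero.1 h8)
    rw [hr1, one_smul] at h5
    exact (add_left_cancel h5).symm
  · exact absurd h8 one_ne_zero

variable {τ : Type} [Fintype τ] [DecidableEq τ] {M : Subgroup (GL (Ix τ m) F)} {g : GL (Ix τ m) F} {i : τ}

/-- An involution on one factor. -/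
theorem Ctx.mono_of_commute_single (C : Ctx M) (h2 : (2 : F) = 0) {z h : GL (Ix τ m) F} {j : τ}
    {b : Matrix (Fin m) (Fin m) F} (hz : z.1 = embM j b) (hzz : z * z = 1) (hz1 : z ≠ 1) (hh : h ∈ M)
    (hc : z * h = h * z) : Mono h.1 := by
  haveI : NeZero m := ⟨by have := C.three; omega⟩
  haveI : Nonempty (Fin m) := ⟨0⟩
  have hb : b * b = 1 := embM_injective j (by rw [← embM_mul, ← hz, ← Units.val_mul, hzz, Units.val_one, embM_one])
  have hn : (b - 1) * (b - 1) = 0 := by rw [sq_of_char_two h2, hb, sub_self]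
  refine C.mono_of_commute_embM' hh (i := j) (c := b - 1) ?_ ?_ ?_
  · intro h0
    exact hz1 (Units.ext (by rw [hz, sub_eq_zero.1 h0, embM_one, Units.val_one]))
  · have := congrArg Matrix.det hn
    rw [Matrix.det_mul, Matrix.det_zero] at this
    exact mul_self_eq_zero.1 this
  · rw [embM_sub, embM_one, mul_sub, sub_mul, mul_one, one_mul, ← hz, ← Units.val_mul, ← Units.val_mul, hc]

/-- The partner of a rank two involution. -/
theorem Ctx.partner (C : Ctx M) (h2 : (2 : F) = 0) (hm4 : 4 ≤ m) (hg : g ∈ M) {X : Matrix (Ix τ m) (Ix τ m) F}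
    (hX : RootAt i X) {k : GL (Ix τ m) F} (hk : k.1 = 1 + g.1 * X * (g⁻¹).1) (hkm : ¬ Mono k.1)
    {N : Matrix (Fin m) (Fin m) F} (hN : BigMat N) :
    ∃ (j : τ) (n : Matrix (Fin m) (Fin m) F), j ≠ i ∧ RootMat n ∧
      k.1 * (embM j (1 + n) * embM i (1 + N)) = embM j (1 + n) * embM i (1 + N) * k.1 := by
  have hm := C.three
  haveI : NeZero m := ⟨by omega⟩
  haveI : Nonempty (Fin m) := ⟨0⟩
  obtain ⟨x, hxM, hxv, hxm⟩ := C.exists_rootGL hX
  have hkx : k = g * x * g⁻¹ := Units.ext (by rw [conj_val g hxv, hk])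
  have hkM : k ∈ M := hkx ▸ M.mul_mem (M.mul_mem hg hxM) (M.inv_mem hg)
  have hgm : ¬ Mono g.1 := fun h => hkm (hkx ▸ by
    rw [Units.val_mul, Units.val_mul]; exact (h.mul hxm).mul (mono_inv h))
  have hx2 := Ctx.invol_sq h2 hxv (rootAt_sq hX)
  have hk2 : k * k = 1 := Ctx.invol_sq h2 hk (by rw [mul_inv_cancel_mid, rootAt_sq hX, mul_zero, zero_mul])
  set y := embU i (1 + N) (one_add_det_of_sq h2 hN.1) with hy
  have hyv : y.1 = 1 + embM i N := by rw [hy, embU_val, embM_add, embM_one]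
  have hyM : y ∈ M := C.hyp.embU_mem i _ _
  have hy2 : y * y = 1 := Ctx.invol_sq h2 hyv (by rw [embM_mul, hN.1, embM_zero])
  have hN0 : N ≠ 0 := fun h => by have := hN.2; rw [h, Matrix.rank_zero] at this; omega
  have hCy : ∀ h ∈ M, h * y = y * h → Mono h.1 := fun h hh hc => by
    refine C.mono_of_commute_embM' hh (i := i) (c := N) hN0 ?_ ((commute_val_iff hyv).1 hc)
    have := congrArg Matrix.det hN.1
    rw [Matrix.det_mul, Matrix.det_zero] at this
    exact mul_self_eq_zero.1 this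
  rcases dihedral_cases hk2 hy2 with ⟨c, -, hc⟩ | ⟨z, hz, hzz, hz1, hzk, hzy, hcases⟩
  · exfalso
    have e1 := congrArg Units.val hc
    rw [conj_val c hk, hyv] at e1
    have e2 := congrArg Matrix.rank (add_left_cancel e1)
    rw [rank_conj, rank_conj] at e2
    have h1 := le_rank_embM i N
    have h3 := rootAt_rank hX i
    have hpos : 0 < Fintype.card (Ix (Rest i) m) := Fintype.card_pos
    nlinarith [hN.2]
  have hcl := closure_pair_le hkM hyM
  have hzM : z ∈ M := hcl hz
  obtain ⟨hs, σ, hzv⟩ := hCy z hzM hzy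
  have hzd : (pureM hs * permM F m σ).det ≠ 0 := by
    rw [← hzv]; exact ((Matrix.isUnit_iff_isUnit_det _).1 z.isUnit).ne_zero
  have hσ : σ i = i := fix_of_commute_embM hzd (fun x => bigMat_ne_scalar hN x)
    (by rw [← hzv]; exact (commute_val_iff hyv).1 hzy)
  have single : ∀ (j : τ) (b : Matrix (Fin m) (Fin m) F), z.1 = embM j b → False := fun j b hb =>
    hkm (C.mono_of_commute_single h2 hb hzz hz1 hkM hzk)
  rcases hcases with ⟨⟨c, hc, hck⟩, ⟨c', hc', hcy⟩⟩ | ⟨-, ⟨c, hc, hck⟩⟩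
  · exfalso
    have hzyM : z * y ∈ M := M.mul_mem hzM hyM
    have hzyc : (z * y) * y = y * (z * y) := by rw [← mul_assoc, ← hzy]
    obtain ⟨h', σ', hzyv⟩ := hCy _ hzyM hzyc
    have hd' : (pureM h' * permM F m σ').det ≠ 0 := by
      rw [← hzyv]; exact ((Matrix.isUnit_iff_isUnit_det _).1 (z * y).isUnit).ne_zero
    have hσ' : σ' i = i := fix_of_commute_embM hd' (fun x => bigMat_ne_scalar hN x)
      (by rw [← hzyv]; exact (commute_val_iff hyv).1 hzyc)
    have hzy2 : (z * y) * (z * y) = 1 := by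
      rw [mul_assoc, ← mul_assoc y z, ← hzy, mul_assoc z y y, hy2, mul_one, hzz]
    obtain ⟨R, hR, hRc⟩ := exists_root_commute (i := i) hm h2
      (by rw [← hzyv, ← Units.val_mul, hzy2, Units.val_one]) hσ'
    rw [← hzyv] at hRc
    obtain ⟨w, hwM, hwv, -⟩ := C.exists_rootGL hR
    have hwc : (z * y) * w = w * (z * y) := (commute_val_iff hwv).2 hRc
    have hc'M : c' ∈ M := hcl hc'
    have hwy : (c'⁻¹ * w * c') * y = y * (c'⁻¹ * w * c') := by
      have h1 : c' * y * c'⁻¹ * w = w * (c' * y * c'⁻¹) := by rw [← hcy]; exact hwc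
      calc (c'⁻¹ * w * c') * y = c'⁻¹ * (w * (c' * y * c'⁻¹)) * c' := by group
        _ = c'⁻¹ * (c' * y * c'⁻¹ * w) * c' := by rw [h1]
        _ = _ := by group
    have hmw := hCy _ (M.mul_mem (M.mul_mem (M.inv_mem hc'M) hwM) hc'M) hwy
    have hc'inv : Mono (c'⁻¹).1 := C.mono_of_conj_root (M.inv_mem hc'M) hR (by
      rw [← conj_val c'⁻¹ hwv, inv_inv]; exact hmw)
    obtain ⟨f, π, hfv⟩ := (inv_inv c' ▸ mono_inv hc'inv : Mono c'.1)
    have hfd : (pureM f).det ≠ 0 := fun h0 => by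
      have := ((Matrix.isUnit_iff_isUnit_det _).1 c'.isUnit).ne_zero
      rw [hfv, Matrix.det_mul, h0, zero_mul] at this
      exact this rfl
    set N'' := f (π i) * N * (f (π i))⁻¹
    have hzyN : (z * y).1 = embM (π i) (1 + N'') := by
      rw [hcy, conj_val c' hyv, hfv, mono_mul_embM (g' := fun j => (f j)⁻¹) π i (nonsing_inv_of_pureM hfd _),
        mul_assoc, ← hfv, c'.mul_inv, mul_one, embM_add, embM_one]
    have hzsplit : z.1 = embM (π i) (1 + N'') * embM i (1 + N) := by
      have : z = (z * y) * y := by rw [mul_assoc, hy2, mul_one]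
      rw [this, Units.val_mul, hzyN, hy, embU_val]
    by_cases hji : π i = i
    · exact single i _ (by rw [hzsplit, hji, embM_mul])
    have hcM : c ∈ M := hcl hc
    set u := g⁻¹ * c * g
    have huM : u ∈ M := M.mul_mem (M.mul_mem (M.inv_mem hg) hcM) hg
    have hz' : g⁻¹ * z * g = (u * x * u⁻¹) * x := by
      have : z = (z * k) * k := by rw [mul_assoc, hk2, mul_one]
      rw [this, hck, hkx]
      simp only [u]
      group
    have hux : (u * x * u⁻¹) * x = x * (u * x * u⁻¹) := by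
      have h1 : (z * k) * k = k * (z * k) := by rw [← mul_assoc, ← hzk]
      rw [hck, hkx] at h1
      have h3 := congrArg (fun w => g⁻¹ * w * g) h1
      simp only [u]
      simp only [mul_assoc, inv_mul_cancel_left, mul_inv_cancel_left, _root_.mul_inv_rev, inv_inv, inv_mul_cancel,
        mul_one] at h3 ⊢
      exact h3
    have huxm : Mono (u * x * u⁻¹).1 :=
      C.mono_of_commute_root (M.mul_mem (M.mul_mem huM hxM) (M.inv_mem huM)) hX ((commute_val_iff hxv).1 hux)
    obtain ⟨j1, hj1⟩ := C.rootAt_of_mono_conj huM hX (conj_val u hxv ▸ huxm)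
    obtain ⟨n1, hn1, -, hn1s, hn10⟩ := hj1.det_one
    obtain ⟨n0, hn0, -, hn0s, hn00⟩ := hX.det_one
    have hz'v : (g⁻¹ * z * g).1 = embM j1 (1 + n1) * embM i (1 + n0) := by
      rw [hz', Units.val_mul, conj_val u hxv, hn1, hxv, hn0, embM_add, embM_one, embM_add, embM_one]
    by_cases hji1 : j1 = i
    · subst hji1
      rw [embM_mul] at hz'v
      obtain ⟨R', hR', hR'c⟩ := exists_root_commute (i := j1) hm h2
        (by rw [← hzv, ← Units.val_mul, hzz, Units.val_one]) hσ
      rw [← hzv] at hR'c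
      obtain ⟨w', hw'M, hw'v, -⟩ := C.exists_rootGL hR'
      have hw'c : z * w' = w' * z := (commute_val_iff hw'v).2 hR'c
      have hwm := C.mono_of_commute_single h2 hz'v
        (by
          calc g⁻¹ * z * g * (g⁻¹ * z * g) = g⁻¹ * (z * z) * g := by group
            _ = 1 := by rw [hzz]; group)
        (fun h => hz1 (by
          calc z = g * (g⁻¹ * z * g) * g⁻¹ := by group
            _ = 1 := by rw [h]; group))
        (M.mul_mem (M.mul_mem (M.inv_mem hg) hw'M) hg)
        (by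
          calc g⁻¹ * z * g * (g⁻¹ * w' * g) = g⁻¹ * (z * w') * g := by group
            _ = g⁻¹ * w' * g * (g⁻¹ * z * g) := by rw [hw'c]; group)
      have hgi : Mono (g⁻¹).1 := C.mono_of_conj_root (M.inv_mem hg) hR' (by
        rw [← conj_val g⁻¹ hw'v, inv_inv]; exact hwm)
      exact hgm (inv_inv g ▸ mono_inv hgi)
    have hA : Cen i (embM (π i) (1 + N'') : Matrix (Ix τ m) (Ix τ m) F) := cen_embM (Ne.symm hji) _
    have hz0 : z.1 = ins i (restM i (embM (π i) (1 + N''))) (1 + N) := by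
      rw [hzsplit, embM_eq_ins i (1 + N)]
      conv_lhs => rw [hA.eq_ins]
      rw [ins_mul, mul_one, one_mul]
    have hlow := le_rank_ins_sub_one (i := i) (A := restM i (embM (π i) (1 + N'') : Matrix (Ix τ m) (Ix τ m) F))
      (b := 1 + N)
    rw [← hz0, add_sub_cancel_left] at hlow
    have hN2 := two_mul_rank_le hN.1
    rw [Fintype.card_fin] at hN2
    have ha := Matrix.rank_le_card_width (restM i (embM (π i) (1 + N'') : Matrix (Ix τ m) (Ix τ m) F) - 1)
    have hre : (g⁻¹).1 * (z.1 - 1) * ((g⁻¹)⁻¹).1 = (g⁻¹ * z * g).1 - 1 := by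
      rw [inv_inv, Units.val_mul, Units.val_mul, mul_sub, mul_one, sub_mul, g.inv_mul]
    have hrk := rank_conj g⁻¹ (z.1 - 1)
    rw [hre, hz'v] at hrk
    have hX1 : (embM j1 n1 : Matrix (Ix τ m) (Ix τ m) F).rank ≤ Fintype.card (Ix (Rest i) m) := by
      rw [← hn1]; exact rootAt_rank hj1 i
    have hX0 : (embM i n0 : Matrix (Ix τ m) (Ix τ m) F).rank ≤ Fintype.card (Ix (Rest i) m) := by
      rw [← hn0]; exact rootAt_rank hX i
    have hup : (embM j1 (1 + n1) * embM i (1 + n0) - 1 : Matrix (Ix τ m) (Ix τ m) F).rank <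
        2 * Fintype.card (Ix (Rest i) m) := by
      set A1 := (embM j1 n1 : Matrix (Ix τ m) (Ix τ m) F) with hA1
      set A2 := (embM i n0 : Matrix (Ix τ m) (Ix τ m) F) with hA2
      have hW : LinearMap.range (embM j1 (1 + n1) * embM i (1 + n0) - 1 : Matrix (Ix τ m) (Ix τ m) F).mulVecLin ≤
          LinearMap.range A1.mulVecLin ⊔ LinearMap.range A2.mulVecLin := by
        rintro _ ⟨v, rfl⟩
        rw [Matrix.mulVecLin_apply, embM_add, embM_one, embM_add, embM_one,
          show (1 + A1) * (1 + A2) - 1 = A1 * (1 + A2) + A2 by noncomm_ring, Matrix.add_mulVec,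
          ← Matrix.mulVec_mulVec]
        exact Submodule.add_mem_sup ⟨_, rfl⟩ ⟨v, rfl⟩
      have hne : (A1 * A2) ≠ 0 := fun h0 => by
        have hc1 : Cen i A1 := cen_embM (Ne.symm hji1) _
        rw [hc1.eq_ins, hA2, embM_eq_ins, ins_mul, mul_one, one_mul] at h0
        rcases ins_eq_zero h0 with h0 | h0
        · have : A1 = 0 := by
            rw [hc1.eq_ins, h0]; ext p q; simp [ins_apply]
          exact hn10 (embM_injective j1 (by rw [embM_zero]; exact this))
        · exact hn00 h0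
      obtain ⟨v, hv⟩ : ∃ v, (A1 * A2) *ᵥ v ≠ 0 := by
        by_contra hall
        push Not at hall
        exact hne (Matrix.ext_of_mulVec_single fun q => by rw [hall, Matrix.zero_mulVec])
      have hinf : 0 < Module.finrank F ↥(LinearMap.range A1.mulVecLin ⊓ LinearMap.range A2.mulVecLin) := by
        refine Submodule.one_le_finrank_iff.2 fun h0 => hv ((Submodule.eq_bot_iff _).1 h0 _ ⟨⟨A2 *ᵥ v, ?_⟩, ⟨A1 *ᵥ v, ?_⟩⟩)
        · rw [Matrix.mulVecLin_apply, Matrix.mulVec_mulVec]
        · rw [Matrix.mulVecLin_apply, Matrix.mulVec_mulVec, hA1, hA2, embM_comm hji1]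
      have := Submodule.finrank_sup_add_finrank_inf_eq (LinearMap.range A1.mulVecLin) (LinearMap.range A2.mulVecLin)
      have := Submodule.finrank_mono hW
      simp only [Matrix.rank] at hX1 hX0 ⊢
      omega
    set r := Fintype.card (Ix (Rest i) m)
    set a := (restM i (embM (π i) (1 + N'') : Matrix (Ix τ m) (Ix τ m) F) - 1).rank
    obtain ⟨r', hr'⟩ : ∃ r', r = a + r' := ⟨r - a, by omega⟩
    obtain ⟨m', hm'⟩ : ∃ m', m = N.rank + m' := ⟨m - N.rank, by omega⟩
    rw [show r - a = r' by omega, show m - N.rank = m' by omega] at hlow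
    have h3 : N.rank ≤ m' := by omega
    have h4 := hN.2
    nlinarith
  · have hcM : c ∈ M := hcl hc
    have hu : (c * g) * x * (c * g)⁻¹ = z * y := by rw [hck, hkx]; group
    have hzyc : (z * y) * y = y * (z * y) := by rw [← mul_assoc, ← hzy]
    have hm1 : Mono ((c * g) * x * (c * g)⁻¹).1 := hu ▸ hCy _ (M.mul_mem hzM hyM) hzyc
    obtain ⟨j, hj⟩ := C.rootAt_of_mono_conj (M.mul_mem hcM hg) hX (conj_val (c * g) hxv ▸ hm1)
    obtain ⟨u, v, hu', hv, h0, hR⟩ := hj
    have hzyv : (z * y).1 = embM j (1 + Matrix.vecMulVec u v) := by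
      rw [← hu, conj_val (c * g) hxv, hR, embM_add, embM_one]
    have hzsplit : z.1 = embM j (1 + Matrix.vecMulVec u v) * embM i (1 + N) := by
      have : z = (z * y) * y := by rw [mul_assoc, hy2, mul_one]
      rw [this, Units.val_mul, hzyv, hy, embU_val]
    refine ⟨j, _, fun hji => ?_, ⟨u, v, hu', hv, h0, rfl⟩, ?_⟩
    · subst hji
      exact single j _ (by rw [hzsplit, embM_mul])
    · rw [← hzsplit, ← Units.val_mul, ← Units.val_mul, hzk]

end CfsgLib.Classical.TensorWreath
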