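import Cfsg.Agent.Lib.Classical.TensorWreath.FourUp

set_option autoImplicit false
set_option linter.unusedSectionVars false

/-!
The elements of one factor paired with roots of the other factors in the centraliser of an element.
-/

namespace CfsgLib.Classical.TensorWreath

open Matrix
open scoped MatrixGroups Kronecker commutatorElement

variable {F : Type*} [Field F] [Fintype F] {m : ℕ} {τ : Type} [Fintype τ] [DecidableEq τ]
variable {M : Subgroup (GL (Ix τ m) F)}

/-- The pairing uses one other factor, injectively. -/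
theorem Ctx.gamma (C : Ctx M) (h2 : (2 : F) = 0) {k : GL (Ix τ m) F} (hkM : k ∈ M) (hkm : ¬ Mono k.1) (i : τ)
    (P : Matrix (Fin m) (Fin m) F → Prop) (hsq : ∀ N, P N → N * N = 0) (hne : ∀ N, P N → N ≠ 0)
    (hconj : ∀ N, P N → ∀ A : SpecialLinearGroup (Fin m) F, P (A.1 * N * (A⁻¹).1)) (N0 : {N // P N})
    (f : {N // P N} → τ) (nf : {N // P N} → Matrix (Fin m) (Fin m) F) (hf1 : ∀ N, f N ≠ i)
    (hnsq : ∀ N, nf N * nf N = 0)
    (hf3 : ∀ N, k.1 * (embM (f N) (1 + nf N) * embM i (1 + N.1)) = embM (f N) (1 + nf N) * embM i (1 + N.1) * k.1) :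
    (∀ N N', f N = f N') ∧ ∀ N N', nf N = nf N' → N = N' := by
  classical
  have hm := C.three
  haveI : NeZero m := ⟨by omega⟩
  haveI : Nontrivial (Fin m) := Fin.nontrivial_iff_two_le.2 (by omega)
  let a : Fin m := ⟨0, by omega⟩
  let b : Fin m := ⟨1, by omega⟩
  have hab : a ≠ b := by simp [a, b, Fin.ext_iff]
  set G := SpecialLinearGroup (Fin m) F
  set Z := Subgroup.center G
  haveI : Z.Normal := inferInstance
  have hperf : commutator G = ⊤ := commutator_SL_eq_top (Or.inl (by rw [Fintype.card_fin]; exact hm))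
  have hnc : ∀ (N : Matrix (Fin m) (Fin m) F) (hN : N * N = 0), N ≠ 0 →
      (⟨1 + N, one_add_det_of_sq h2 hN⟩ : G) ∉ Z := by
    intro N hN h0 hZ
    obtain ⟨r, -, hr⟩ := Matrix.SpecialLinearGroup.mem_center_iff.1 hZ
    change Matrix.scalar (Fin m) r = 1 + N at hr
    refine ne_scalar_of_sq_zero h0 hN (r - 1) ?_
    rw [sub_smul, one_smul, Matrix.smul_one_eq_diagonal, ← Matrix.scalar_apply, hr, add_sub_cancel_left]
  have htop : ∀ H : Subgroup G, H.Normal → Z ≤ H → (∃ w ∈ H, w ∉ Z) → H = ⊤ := by
    intro H hH hZH ⟨w, hw, hwZ⟩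
    haveI := hH
    rcases AutPSL.LocalBal.commutator_le_or_le_center H hZH with h | h
    · exact absurd (h hw) hwZ
    · rw [← top_le_iff, ← hperf]; exact h
  let Yset := {N : Matrix (Fin m) (Fin m) F // P N}
  let el : Yset → G := fun N => ⟨1 + N.1, one_add_det_of_sq h2 (hsq N.1 N.2)⟩
  have hel : ∀ N : Yset, el N ∉ Z := fun N => hnc _ (hsq N.1 N.2) (hne N.1 N.2)
  have hgen : Subgroup.closure (Set.range el) ⊔ Z = ⊤ := by
    refine htop _ ?_ le_sup_right ⟨el N0, Subgroup.mem_sup_left (Subgroup.subset_closure ⟨N0, rfl⟩), hel N0⟩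
    haveI : (Subgroup.closure (Set.range el)).Normal := ⟨fun n hn A => by
      induction hn using Subgroup.closure_induction with
      | mem w hw =>
        obtain ⟨N, rfl⟩ := hw
        refine Subgroup.subset_closure ⟨⟨_, hconj N.1 N.2 A⟩, Subtype.ext ?_⟩
        have h1 : A.1 * (A⁻¹).1 = 1 := congrArg Subtype.val (mul_inv_cancel A)
        show 1 + A.1 * N.1 * (A⁻¹).1 = A.1 * (1 + N.1) * (A⁻¹).1
        rw [mul_add, mul_one, add_mul, h1]
      | one => simp
      | mul u w _ _ h1 h2 =>
        have := Subgroup.mul_mem _ h1 h2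
        simpa [mul_assoc] using this
      | inv u _ h1 =>
        have := Subgroup.inv_mem _ h1
        rwa [conj_inv] at this⟩
    exact Subgroup.sup_normal _ _
  let S : Subgroup G :=
    { carrier := {A | k.1 * embM i A.1 = embM i A.1 * k.1}
      mul_mem' := fun {A B} hA hB => by
        show k.1 * embM i (A.1 * B.1) = embM i (A.1 * B.1) * k.1
        rw [← embM_mul, ← mul_assoc, hA, mul_assoc, hB, mul_assoc]
      one_mem' := by
        show k.1 * embM i (1 : G).1 = embM i (1 : G).1 * k.1
        rw [Matrix.SpecialLinearGroup.coe_one, embM_one, mul_one, one_mul]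
      inv_mem' := fun {A} hA => by
        show k.1 * embM i (A⁻¹).1 = embM i (A⁻¹).1 * k.1
        have h1 : embM i A.1 * embM i (A⁻¹).1 = (1 : Matrix (Ix τ m) (Ix τ m) F) := by
          rw [embM_mul, show A.1 * (A⁻¹).1 = 1 from congrArg Subtype.val (mul_inv_cancel A), embM_one]
        have h1' : embM i (A⁻¹).1 * embM i A.1 = (1 : Matrix (Ix τ m) (Ix τ m) F) := mul_eq_one_comm.1 h1
        calc k.1 * embM i (A⁻¹).1 = embM i (A⁻¹).1 * (embM i A.1 * k.1) * embM i (A⁻¹).1 := by
              rw [← mul_assoc, h1', one_mul]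
          _ = _ := by rw [← hA, mul_assoc, mul_assoc k.1, h1, mul_one] }
  have hsqe : ∀ {N : Matrix (Fin m) (Fin m) F} (j : τ), N * N = 0 →
      embM j (1 + N) * embM j (1 + N) = (1 : Matrix (Ix τ m) (Ix τ m) F) := fun j hN => by
    rw [embM_mul, two_mul_one_add_sq h2 hN, embM_one]
  have hSnorm : ∀ N : Yset, ∀ A ∈ S, el N * A * (el N)⁻¹ ∈ S := by
    intro N A hA
    have hinv : (el N)⁻¹ = el N := inv_eq_of_mul_eq_one_right (Subtype.ext (two_mul_one_add_sq h2 (hsq N.1 N.2)))
    rw [hinv]
    show k.1 * embM i ((1 + N.1) * A.1 * (1 + N.1)) = embM i ((1 + N.1) * A.1 * (1 + N.1)) * k.1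
    set z := embM (f N) (1 + nf N) * embM i (1 + N.1) with hz
    have hc := hf3 N
    have e1 : (embM i ((1 + N.1) * A.1 * (1 + N.1)) : Matrix (Ix τ m) (Ix τ m) F) = z * embM i A.1 * z := by
      rw [hz, ← embM_mul, ← embM_mul]
      simp only [mul_assoc]
      rw [← mul_assoc (embM i A.1) (embM (f N) (1 + nf N)), embM_comm (hf1 N).symm,
        mul_assoc (embM (f N) (1 + nf N)) (embM i A.1), ← mul_assoc (embM i (1 + N.1)) (embM (f N) (1 + nf N)),
        embM_comm (hf1 N).symm, mul_assoc (embM (f N) (1 + nf N)) (embM i (1 + N.1)),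
        ← mul_assoc (embM (f N) (1 + nf N)) (embM (f N) (1 + nf N)), hsqe _ (hnsq N), one_mul]
    rw [e1]
    have c1 : Commute k.1 z := hc
    have c2 : Commute k.1 (embM i A.1) := hA
    exact ((c1.mul_right c2).mul_right c1).eq
  have hSZ : ∀ A ∈ S, A ∈ Z := by
    intro A hA
    by_contra hAZ
    have hn : (Subgroup.normalizer (S : Set G)) = ⊤ := by
      rw [← top_le_iff, ← hgen]
      refine sup_le ((Subgroup.closure_le _).2 ?_) ?_
      · rintro _ ⟨N, rfl⟩
        refine Subgroup.mem_normalizer_iff.2 fun w => ⟨fun hw => hSnorm N w hw, fun hw => ?_⟩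
        have hinv : (el N)⁻¹ = el N := inv_eq_of_mul_eq_one_right (Subtype.ext (two_mul_one_add_sq h2 (hsq N.1 N.2)))
        have h3 := hSnorm N _ hw
        rw [hinv] at h3
        have hee : el N * el N = 1 := Subtype.ext (two_mul_one_add_sq h2 (hsq N.1 N.2))
        simpa [mul_assoc, hee, ← mul_assoc (el N) (el N)] using h3
      · intro w hw
        refine Subgroup.mem_normalizer_iff.2 fun v => ?_
        rw [← Subgroup.mem_center_iff.1 hw v, mul_inv_cancel_right]
    have hSn : S.Normal := Subgroup.normalizer_eq_top_iff.1 hn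
    haveI := hSn
    have h1 : S ⊔ Z = ⊤ :=
      htop _ (Subgroup.sup_normal S Z) le_sup_right ⟨A, Subgroup.mem_sup_left hA, hAZ⟩
    have h2' := eq_top_of_sup_center hm S h1
    let gab : G := ⟨1 + e a b, det_one_add_single hab⟩
    have hu : gab ∈ S := by rw [h2']; exact Subgroup.mem_top _
    refine hkm (C.mono_of_commute_root hkM (rootAt_e i hab) ?_)
    have h3 : k.1 * embM i (1 + e a b) = embM i (1 + e a b) * k.1 := hu
    rwa [embM_add, embM_one, mul_add, mul_one, add_mul, one_mul, add_right_inj] at h3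
  have hdiff : ∀ N N' : Yset, f N ≠ f N' → el N * el N' * el N * el N' ∈ Z := by
    intro N N' hne
    refine hSZ _ ?_
    show k.1 * embM i ((1 + N.1) * (1 + N'.1) * (1 + N.1) * (1 + N'.1)) =
      embM i ((1 + N.1) * (1 + N'.1) * (1 + N.1) * (1 + N'.1)) * k.1
    have hA := cen_embM (F := F) (hf1 N).symm (1 + nf N)
    have hB := cen_embM (F := F) (hf1 N').symm (1 + nf N')
    have hAB := embM_comm (F := F) hne (1 + nf N) (1 + nf N')
    have hA2 := hsqe (f N) (hnsq N)
    have hB2 := hsqe (f N') (hnsq N')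
    set Aj := (embM (f N) (1 + nf N) : Matrix (Ix τ m) (Ix τ m) F)
    set Bj := (embM (f N') (1 + nf N') : Matrix (Ix τ m) (Ix τ m) F)
    have hc1 := hf3 N
    have hc2 := hf3 N'
    set P := (embM i (1 + N.1) : Matrix (Ix τ m) (Ix τ m) F)
    set Q := (embM i (1 + N'.1) : Matrix (Ix τ m) (Ix τ m) F)
    have e1 : (embM i ((1 + N.1) * (1 + N'.1) * (1 + N.1) * (1 + N'.1)) : Matrix (Ix τ m) (Ix τ m) F) =
        (Aj * P) * (Bj * Q) * (Aj * P) * (Bj * Q) := by
      rw [← embM_mul, ← embM_mul, ← embM_mul]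
      show P * Q * P * Q = _
      have cPB : P * Bj = Bj * P := hB _
      have cQA : Q * Aj = Aj * Q := hA _
      have cPA : P * Aj = Aj * P := hA _
      have cQB : Q * Bj = Bj * Q := hB _
      calc P * Q * P * Q = (Aj * Aj) * (Bj * Bj) * (P * Q * P * Q) := by rw [hA2, hB2, one_mul, one_mul]
        _ = _ := by
          simp only [mul_assoc]
          simp only [← mul_assoc P Bj, cPB, ← mul_assoc Q Aj, cQA, ← mul_assoc P Aj, cPA, ← mul_assoc Q Bj, cQB,
            mul_assoc, ← mul_assoc Bj Aj, ← hAB]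
    rw [e1]
    have c1 : Commute k.1 (Aj * P) := hc1
    have c2 : Commute k.1 (Bj * Q) := hc2
    exact (((c1.mul_right c2).mul_right c1).mul_right c2).eq
  have hconst : ∀ N N0 : Yset, f N = f N0 := by
    intro N N0
    by_contra hne
    set q := el N
    have hqq : q⁻¹ = q := inv_eq_of_mul_eq_one_right (Subtype.ext (two_mul_one_add_sq h2 (hsq N.1 N.2)))
    let π := QuotientGroup.mk' Z
    let Pset : Set G := {w | ∃ N' : Yset, f N' = f N0 ∧ el N' = w}
    set U := Subgroup.closure Pset ⊔ Z
    have hinv' : ∀ N' : Yset, (el N')⁻¹ = el N' := fun N' =>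
      inv_eq_of_mul_eq_one_right (Subtype.ext (two_mul_one_add_sq h2 (hsq N'.1 N'.2)))
    have hUn : U.Normal := by
      refine Subgroup.normalizer_eq_top_iff.1 ?_
      rw [← top_le_iff, ← hgen]
      refine sup_le ((Subgroup.closure_le _).2 ?_) ?_
      · rintro _ ⟨N', rfl⟩
        by_cases hN' : f N' = f N0
        · exact Subgroup.le_normalizer (Subgroup.mem_sup_left (Subgroup.subset_closure ⟨N', hN', rfl⟩))
        have key : ∀ w ∈ U, el N' * w * (el N')⁻¹ ∈ U := by
          intro w hw
          have hle : U ≤ U.comap (MulAut.conj (el N')).toMonoidHom := by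
            refine sup_le ((Subgroup.closure_le _).2 ?_) ?_
            · rintro _ ⟨N'', hN'', rfl⟩
              show el N' * el N'' * (el N')⁻¹ ∈ U
              have e : el N' * el N'' * (el N')⁻¹ = (el N' * el N'' * el N' * el N'') * el N'' := by
                rw [hinv' N', mul_assoc _ (el N'') (el N''),
                  show el N'' * el N'' = 1 from Subtype.ext (two_mul_one_add_sq h2 (hsq N''.1 N''.2)), mul_one]
              rw [e]
              exact U.mul_mem (Subgroup.mem_sup_right (hdiff N' N'' (fun h => hN' (h.trans hN''))))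
                (Subgroup.mem_sup_left (Subgroup.subset_closure ⟨N'', hN'', rfl⟩))
            · intro w hw
              show el N' * w * (el N')⁻¹ ∈ U
              rw [Subgroup.mem_center_iff.1 hw (el N'), mul_inv_cancel_right]
              exact Subgroup.mem_sup_right hw
          exact hle hw
        refine Subgroup.mem_normalizer_iff.2 fun w => ⟨fun hw => key w hw, fun hw => ?_⟩
        have h3 := key _ hw
        rw [hinv' N'] at h3
        have hee : el N' * el N' = 1 := Subtype.ext (two_mul_one_add_sq h2 (hsq N'.1 N'.2))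
        simpa [mul_assoc, hee, ← mul_assoc (el N') (el N')] using h3
      · exact le_trans le_sup_right Subgroup.le_normalizer
    have hU : U = ⊤ :=
      htop U hUn le_sup_right ⟨el N0, Subgroup.mem_sup_left (Subgroup.subset_closure ⟨N0, rfl, rfl⟩), hel N0⟩
    have hT : U ≤ (Subgroup.centralizer ({π q} : Set (G ⧸ Z))).comap π := by
      refine sup_le ((Subgroup.closure_le _).2 ?_) ?_
      · rintro _ ⟨N', hN', rfl⟩
        show π (el N') ∈ Subgroup.centralizer ({π q} : Set (G ⧸ Z))
        rw [Subgroup.mem_centralizer_singleton_iff]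
        have h1 : π (el N * el N' * el N * el N') = 1 :=
          (QuotientGroup.eq_one_iff _).2 (hdiff N N' (fun h => hne (h.trans hN')))
        rw [map_mul, map_mul, map_mul] at h1
        have a1 : π (el N) * π (el N) = 1 := by
          rw [← map_mul, show el N * el N = 1 from Subtype.ext (two_mul_one_add_sq h2 (hsq N.1 N.2)), map_one]
        have a2 : π (el N') * π (el N') = 1 := by
          rw [← map_mul, show el N' * el N' = 1 from Subtype.ext (two_mul_one_add_sq h2 (hsq N'.1 N'.2)), map_one]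
        calc π (el N') * π q = π (el N) * π (el N) * π (el N') * π (el N) * (π (el N') * π (el N')) := by
              rw [a1, a2, mul_one, one_mul]
          _ = π (el N) * (π (el N) * π (el N') * π (el N) * π (el N')) * π (el N') := by simp only [mul_assoc]
          _ = π q * π (el N') := by rw [h1, mul_one]
      · intro w hw
        rw [Subgroup.mem_comap, show π w = 1 from (QuotientGroup.eq_one_iff _).2 hw]
        exact Subgroup.one_mem _
    have hqc : π q ∈ Subgroup.center (G ⧸ Z) := Subgroup.mem_center_iff.2 fun w => by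
      obtain ⟨w', rfl⟩ := QuotientGroup.mk'_surjective Z w
      exact Subgroup.mem_centralizer_singleton_iff.1 (hT (hU ▸ Subgroup.mem_top w'))
    have hW : (Subgroup.center (G ⧸ Z)).comap π = ⊤ := htop _ inferInstance (fun w hw => by
      rw [Subgroup.mem_comap, show π w = 1 from (QuotientGroup.eq_one_iff _).2 hw]; exact Subgroup.one_mem _) ⟨q, hqc, hel N⟩
    have hcle : commutator G ≤ Z := by
      rw [_root_.commutator_def, Subgroup.commutator_le]
      intro u _ v _
      refine (QuotientGroup.eq_one_iff _).1 ?_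
      have hu : π u ∈ Subgroup.center (G ⧸ Z) := (hW ▸ Subgroup.mem_top u : u ∈ (Subgroup.center (G ⧸ Z)).comap π)
      show π ⁅u, v⁆ = 1
      rw [map_commutatorElement, commutatorElement_eq_one_iff_mul_comm]
      exact (Subgroup.mem_center_iff.1 hu _).symm
    exact hel N (hcle (hperf ▸ Subgroup.mem_top _))
  refine ⟨hconst, fun N N' hn => ?_⟩
  have hS : el N * el N' ∈ S := by
    show k.1 * embM i ((1 + N.1) * (1 + N'.1)) = embM i ((1 + N.1) * (1 + N'.1)) * k.1
    have c1 : Commute k.1 (embM (f N) (1 + nf N) * embM i (1 + N.1)) := hf3 N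
    have c2 : Commute k.1 (embM (f N') (1 + nf N') * embM i (1 + N'.1)) := hf3 N'
    have e1 : (embM (f N) (1 + nf N) * embM i (1 + N.1)) * (embM (f N') (1 + nf N') * embM i (1 + N'.1)) =
        (embM i ((1 + N.1) * (1 + N'.1)) : Matrix (Ix τ m) (Ix τ m) F) := by
      rw [hconst N' N, ← hn, mul_assoc, ← mul_assoc (embM i (1 + N.1)), embM_comm (hf1 N).symm,
        mul_assoc (embM (f N) (1 + nf N)), ← mul_assoc, hsqe _ (hnsq N), one_mul, embM_mul]
    rw [← e1]
    exact (c1.mul_right c2).eq
  obtain ⟨r, -, hr⟩ := Matrix.SpecialLinearGroup.mem_center_iff.1 (hSZ _ hS)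
  change Matrix.scalar (Fin m) r = (1 + N.1) * (1 + N'.1) at hr
  exact Subtype.ext (center_eq_of_mul h2 (by omega) (hsq N.1 N.2) (hsq N'.1 N'.2) (r := r)
    (by rw [← hr, Matrix.scalar_apply, Matrix.smul_one_eq_diagonal]))

end CfsgLib.Classical.TensorWreath
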