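import Cfsg.Agent.Lib.Classical.TensorWreath.Three

set_option autoImplicit false
set_option linter.unusedSectionVars false

/-!
Induction on the number of factors: a proper intermediate group is monomial.
-/

namespace CfsgLib.Classical.TensorWreath

open Matrix
open scoped MatrixGroups Kronecker

variable {F : Type*} [Field F] [Fintype F] {m : ℕ}

theorem Ctx.allMono {τ : Type} [Fintype τ] [DecidableEq τ] {M : Subgroup (GL (Ix τ m) F)} (C : Ctx M)
    {g : GL (Ix τ m) F} (hg : g ∈ M) : Mono g.1 := by
  by_cases h2 : (2 : F) = 0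
  · by_cases hm : m = 3
    · subst hm
      exact C.allMono_three h2 hg
    · exact C.allMono_four h2 (by have := C.three; omega) hg
  · exact C.allMono_odd h2 hg

theorem allMono_monoConj (hm : 3 ≤ m) : ∀ (n : ℕ) (τ : Type) [Fintype τ] [DecidableEq τ],
    Fintype.card τ = n → 2 ≤ n → AllMono F τ m ∧ MonoConj F τ m := by
  intro n
  induction n using Nat.strong_induction_on with
  | _ n IH =>
    intro τ _ _ hn h2
    have hlow : Low F τ m := fun i hi => by
      have hc : Fintype.card (Rest i) = n - 1 := by rw [Fintype.card_subtype_compl, Fintype.card_subtype_eq, hn]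
      exact IH (n - 1) (by omega) (Rest i) hc (by omega)
    refine ⟨fun M H hT g hg => ?_, fun M M' g H H' hT hT' hR i X hX h => ?_⟩
    · exact Ctx.allMono ⟨H, hT, hlow, hm, by omega⟩ hg
    · exact mono_of_mono_conj ⟨H, hT, hlow, hm, by omega⟩ ⟨H', hT', hlow, hm, by omega⟩ hR hX h

theorem top_of_not_mono {τ : Type} [Fintype τ] [DecidableEq τ] (hm : 3 ≤ m) (ht : 2 ≤ Fintype.card τ)
    {M : Subgroup (GL (Ix τ m) F)} (H : Hyp M) {g : GL (Ix τ m) F} (hg : g ∈ M) (hgm : ¬ Mono g.1) : Top M := by
  by_contra hT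
  exact hgm ((allMono_monoConj hm _ τ rfl ht).1 M H hT g hg)

end CfsgLib.Classical.TensorWreath
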