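import Cfsg.Agent.Lib.Classical.TensorWreath.Central

set_option autoImplicit false
set_option linter.unusedSectionVars false

/-!
Monomial elements which move factors have large rank.
-/

namespace CfsgLib.Classical.TensorWreath

open Matrix
open scoped MatrixGroups Kronecker

variable {F : Type*} [Field F] {τ : Type} [Fintype τ] [DecidableEq τ] {m : ℕ}

theorem mono_mul_embM {g g' : τ → Matrix (Fin m) (Fin m) F} (σ : Equiv.Perm τ) (i : τ)
    (hg : g (σ i) * g' (σ i) = 1) (b : Matrix (Fin m) (Fin m) F) :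
    pureM g * permM F m σ * embM i b = embM (σ i) (g (σ i) * b * g' (σ i)) * (pureM g * permM F m σ) := by
  rw [mul_assoc, permM_conj_embM, ← mul_assoc, ← mul_assoc]
  congr 1
  rw [embM, embM, pureM_mul, pureM_mul]
  congr 1
  funext j
  by_cases hj : j = σ i
  · subst hj
    simp [mul_assoc, mul_eq_one_comm.1 hg]
  · simp [hj]

theorem nonsing_inv_of_pureM [NeZero m] {g : τ → Matrix (Fin m) (Fin m) F} (h : (pureM g).det ≠ 0) (j : τ) :
    g j * (g j)⁻¹ = 1 :=
  Matrix.mul_nonsing_inv _ (det_ne_zero_of_pureM h j).isUnit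

theorem embM_eq_embM_ne (hm : 3 ≤ m) {i l : τ} (h : i ≠ l) {a b : Fin m} (hab : a ≠ b)
    {c : Matrix (Fin m) (Fin m) F} : (embM i (e a b) : Matrix (Ix τ m) (Ix τ m) F) ≠ embM l c := by
  haveI : NeZero m := ⟨by omega⟩
  intro heq
  have h1 : embM i (e b a) * embM l c = embM l c * embM i (e b a) := embM_comm h _ _
  rw [← heq, embM_mul, embM_mul, e_mul_e, e_mul_e] at h1
  have := congrFun₂ (embM_injective i h1) b b
  simp [hab] at this

theorem eq_one_of_pure_perm (hm : 3 ≤ m) {g : τ → Matrix (Fin m) (Fin m) F} {π : Equiv.Perm τ}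
    (h : pureM g * permM F m π = 1) : π = 1 ∧ ∀ j, ∃ c : F, g j = c • 1 := by
  haveI : NeZero m := ⟨by omega⟩
  have hd : (pureM g).det ≠ 0 := fun h0 => by
    have := congrArg Matrix.det h
    rw [Matrix.det_mul, h0, zero_mul, Matrix.det_one] at this
    exact zero_ne_one this
  have key : ∀ i b, embM i b = embM (π i) (g (π i) * b * (g (π i))⁻¹) := fun i b => by
    have := mono_mul_embM (g' := fun j => (g j)⁻¹) π i (nonsing_inv_of_pureM hd _) b
    rwa [h, one_mul, mul_one] at this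
  let a : Fin m := ⟨0, by omega⟩
  let a' : Fin m := ⟨1, by omega⟩
  have haa : a ≠ a' := by simp [a, a', Fin.ext_iff]
  have hπ : π = 1 := Equiv.ext fun i => by
    by_contra hi
    exact embM_eq_embM_ne hm (Ne.symm hi) haa (key i (e a a'))
  refine ⟨hπ, fun j => ?_⟩
  have hcomm : ∀ x y : Fin m, Commute (e x y) (g j) := fun x y => by
    have := key j (e x y)
    rw [hπ, Equiv.Perm.one_apply] at this
    have h2 := embM_injective j this
    show e x y * g j = g j * e x y
    conv_lhs => rw [h2]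
    rw [mul_assoc, mul_eq_one_comm.1 (nonsing_inv_of_pureM hd j), mul_one]
  obtain ⟨c, hc⟩ := Matrix.mem_range_scalar_iff_commute_single'.2 hcomm
  exact ⟨c, by rw [← hc, Matrix.scalar_apply, Matrix.smul_one_eq_diagonal]⟩

theorem mono_mul_self (g : τ → Matrix (Fin m) (Fin m) F) (σ : Equiv.Perm τ) :
    pureM g * permM F m σ * (pureM g * permM F m σ) = pureM (g * fun j => g (σ.symm j)) * permM F m (σ * σ) := by
  rw [← pureM_mul, ← permM_mul, mul_assoc, ← mul_assoc (permM F m σ), permM_mul_pureM]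
  simp only [mul_assoc]

theorem mono_pow (g : τ → Matrix (Fin m) (Fin m) F) (σ : Equiv.Perm τ) (k : ℕ) :
    ∃ g' : τ → Matrix (Fin m) (Fin m) F, (pureM g * permM F m σ) ^ k = pureM g' * permM F m (σ ^ k) := by
  induction k with
  | zero => exact ⟨1, by rw [pow_zero, pow_zero, pureM_one, permM_one, one_mul]⟩
  | succ k IH =>
    obtain ⟨g', h⟩ := IH
    refine ⟨g' * fun j => g ((σ ^ k).symm j), ?_⟩
    rw [pow_succ, h, ← pureM_mul, pow_succ σ, ← permM_mul, mul_assoc, ← mul_assoc (permM F m (σ ^ k)),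
      permM_mul_pureM]
    simp only [mul_assoc]

theorem perm_pow_char (hm : 3 ≤ m) {p : ℕ} [Fact p.Prime] [CharP F p] {g : τ → Matrix (Fin m) (Fin m) F}
    {σ : Equiv.Perm τ} (h : (pureM g * permM F m σ - 1) * (pureM g * permM F m σ - 1) = 0) :
    (pureM g * permM F m σ) ^ p = 1 ∧ σ ^ p = 1 := by
  haveI : NeZero m := ⟨by omega⟩
  haveI : Nonempty (Ix τ m) := ⟨fun _ => 0⟩
  set N := pureM g * permM F m σ - 1
  have hk : pureM g * permM F m σ = N + 1 := (sub_add_cancel _ _).symm
  have hp : (pureM g * permM F m σ) ^ p = 1 := by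
    rw [hk, add_pow_char_of_commute _ (Commute.one_right N), one_pow]
    have h2 := (Fact.out : p.Prime).two_le
    rw [show p = p - 2 + 2 by omega, pow_add, pow_two, h, mul_zero, zero_add]
  obtain ⟨g', hg'⟩ := mono_pow g σ p
  exact ⟨hp, (eq_one_of_pure_perm hm (hg'.symm.trans hp)).1⟩

theorem normalize [NeZero m] {g c c' : τ → Matrix (Fin m) (Fin m) F} (σ : Equiv.Perm τ)
    (hc : ∀ j, c j * c' j = 1) :
    (pureM c * (pureM g * permM F m σ) * pureM c' = pureM (fun j => c j * g j * c' (σ.symm j)) * permM F m σ) ∧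
      pureM c * pureM c' = 1 := by
  refine ⟨?_, ?_⟩
  · rw [← mul_assoc, mul_assoc (pureM c * pureM g), permM_mul_pureM, ← mul_assoc, pureM_mul, pureM_mul]
    rfl
  · rw [pureM_mul, ← pureM_one (τ := τ) (m := m) (F := F)]
    exact congrArg _ (funext hc)

theorem rank_sub_one_conj [NeZero m] {k Q Q' : Matrix (Ix τ m) (Ix τ m) F} (h : Q * Q' = 1) :
    (Q * k * Q' - 1).rank ≤ (k - 1).rank := by
  rw [show Q * k * Q' - 1 = Q * (k - 1) * Q' by rw [mul_sub, mul_one, sub_mul, h]]
  exact (Matrix.rank_mul_le_left _ _).trans (Matrix.rank_mul_le_right _ _)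

theorem mul_permM_entry (g : τ → Matrix (Fin m) (Fin m) F) (σ : Equiv.Perm τ) (x f : Ix τ m) :
    (pureM g * permM F m σ) x f = ∏ j, g j (x j) (f (σ.symm j)) := by
  rw [mul_permM_apply]; rfl

theorem entry_forces {g : τ → Matrix (Fin m) (Fin m) F} {σ : Equiv.Perm τ} {x f : Ix τ m}
    (h : (pureM g * permM F m σ) x f ≠ 0) {i : τ} {c : F} (hc : g (σ i) = c • 1) : x (σ i) = f i := by
  rw [mul_permM_entry] at h
  by_contra hne
  refine h (Finset.prod_eq_zero (Finset.mem_univ (σ i)) ?_)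
  rw [hc, Matrix.smul_apply, Equiv.symm_apply_apply, Matrix.one_apply_ne hne, smul_zero]

/-- A set on which `k - 1` is unitriangular up to sign. -/
theorem card_le_rank_sub_one {k : Matrix (Ix τ m) (Ix τ m) F} (S : Finset (Ix τ m))
    (h : ∀ x ∈ S, ∀ y ∈ S, k x y ≠ 0 → ∀ z ∈ S, k y z = 0) (hdiag : ∀ x ∈ S, k x x = 0) :
    S.card ≤ (k - 1).rank := by
  let N : Matrix S S F := Matrix.of fun x y => k x.1 y.1
  have hN : N * N = 0 := by
    ext x z
    rw [Matrix.mul_apply, Matrix.zero_apply]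
    refine Finset.sum_eq_zero fun y _ => ?_
    by_cases h0 : k x.1 y.1 = 0
    · simp [N, h0]
    · simp [N, h x.1 x.2 y.1 y.2 h0 z.1 z.2]
  let L : Matrix S (Ix τ m) F := Matrix.of fun x y => if x.1 = y then 1 else 0
  let R : Matrix (Ix τ m) S F := Matrix.of fun y x => if x.1 = y then 1 else 0
  have hB : L * (k - 1) * R = N - 1 := by
    ext x z
    rw [Matrix.mul_apply, Fintype.sum_eq_single z.1]
    · rw [Matrix.mul_apply, Fintype.sum_eq_single x.1]
      · by_cases hxz : x = z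
        · subst hxz; simp [L, R, N, hdiag x.1 x.2]
        · simp [L, R, N, hxz, Subtype.coe_injective.ne hxz]
      · intro y hy; simp [L, Ne.symm hy]
    · intro y hy; simp [R, Ne.symm hy]
  have := le_rank_of_sandwich (L := (-1 - N) * L) (X := k - 1) (R := R) (by
    rw [Matrix.mul_assoc, Matrix.mul_assoc, ← Matrix.mul_assoc L, hB]
    simp only [sub_mul, mul_sub, neg_mul, one_mul, mul_one, hN]
    abel)
  simpa using this

theorem card_filter_comp {s : ℕ} (ι : Fin s → τ) (hι : Function.Injective ι) (Q : (Fin s → Fin m) → Prop)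
    [DecidablePred Q] :
    (Finset.univ.filter fun f : Ix τ m => Q (f ∘ ι)).card * m ^ s =
      (Finset.univ.filter Q).card * Fintype.card (Ix τ m) := by
  classical
  let e1 : Ix τ m ≃ (Fin s → Fin m) × ({j // j ∉ Set.range ι} → Fin m) :=
    (Equiv.piEquivPiSubtypeProd (fun j => j ∈ Set.range ι) fun _ => Fin m).trans
      (((Equiv.ofInjective ι hι).symm.arrowCongr (Equiv.refl _)).prodCongr (Equiv.refl _))
  have he : ∀ f, (e1 f).1 = f ∘ ι := fun f => funext fun a => by
    simp [e1, Equiv.piEquivPiSubtypeProd]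
  have h1 : (Finset.univ.filter fun f : Ix τ m => Q (f ∘ ι)).card =
      (Finset.univ.filter Q).card * Fintype.card ({j // j ∉ Set.range ι} → Fin m) := by
    rw [← Finset.card_univ, ← Finset.card_product]
    refine Finset.card_equiv e1 fun f => ?_
    simp [he]
  rw [h1, mul_assoc, Fintype.card_congr e1, Fintype.card_prod, mul_comm (Fintype.card (_ → Fin m)) (m ^ s),
    show Fintype.card (Fin s → Fin m) = m ^ s by simp]

/-- The first pair on which the values differ is increasing. -/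
def Lex {s : ℕ} (f : Fin s → Fin m × Fin m) : Prop :=
  ∃ u, (∀ v < u, (f v).1 = (f v).2) ∧ (f u).1 < (f u).2

instance {s : ℕ} : DecidablePred (Lex (m := m) (s := s)) := fun _ => by unfold Lex; infer_instance

theorem not_lex_swap {s : ℕ} {f : Fin s → Fin m × Fin m} (h : Lex f) : ¬ Lex fun u => (f u).swap := by
  rintro ⟨u', h1, h2⟩
  obtain ⟨u, g1, g2⟩ := h
  rcases lt_trichotomy u u' with hl | rfl | hl
  · exact ne_of_gt g2 (h1 u hl)
  · exact absurd h2 (not_lt.2 (le_of_lt g2))
  · exact ne_of_gt h2 (g1 u' hl)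

/-- Pairs of factors exchanged by an involution. -/
theorem le_rank_of_pairs (hm : 3 ≤ m) {g : τ → Matrix (Fin m) (Fin m) F} {σ : Equiv.Perm τ}
    (h2 : pureM g * permM F m σ * (pureM g * permM F m σ) = 1) {s : ℕ} (a : Fin s → τ)
    (hne : ∀ u v, σ (a u) ≠ a v) :
    (Finset.univ.filter fun f : Ix τ m => Lex fun u => (f (a u), f (σ (a u)))).card ≤
      (pureM g * permM F m σ - 1).rank := by
  haveI : NeZero m := ⟨by omega⟩
  classical
  rw [mono_mul_self] at h2
  obtain ⟨hσ, hsc⟩ := eq_one_of_pure_perm hm h2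
  have hσσ : ∀ j, σ (σ j) = j := fun j => by rw [← Equiv.Perm.mul_apply, hσ, Equiv.Perm.one_apply]
  have hsym : ∀ j, σ.symm j = σ j := fun j => by rw [Equiv.symm_apply_eq, hσσ]
  have hg : ∀ j, g j * (g j)⁻¹ = 1 := fun j => by
    refine Matrix.mul_nonsing_inv _ (isUnit_iff_ne_zero.2 fun h0 => ?_)
    have h3 := congrArg Matrix.det h2
    rw [Matrix.det_mul, Matrix.det_one] at h3
    exact det_ne_zero_of_pureM (g := g * fun j => g (σ.symm j)) (fun hz => by rw [hz, zero_mul] at h3; exact zero_ne_one h3)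
      j (by simp [h0])
  set c : τ → Matrix (Fin m) (Fin m) F := fun j => if ∃ u, j = σ (a u) then (g j)⁻¹ else 1 with hc
  set c' : τ → Matrix (Fin m) (Fin m) F := fun j => if ∃ u, j = σ (a u) then g j else 1 with hc'
  have hcc : ∀ j, c j * c' j = 1 := fun j => by
    simp only [hc, hc']; split_ifs
    · exact mul_eq_one_comm.1 (hg j)
    · exact mul_one 1
  obtain ⟨e1, e2⟩ := normalize (g := g) σ hcc
  refine le_trans ?_ (rank_sub_one_conj (k := pureM g * permM F m σ) e2)
  rw [e1]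
  set g1 : τ → Matrix (Fin m) (Fin m) F := fun j => c j * g j * c' (σ.symm j) with hg1
  have hb : ∀ u, g1 (σ (a u)) = (1 : F) • 1 := fun u => by
    have h1 : ¬ ∃ v, a u = σ (a v) := fun ⟨v, hv⟩ => hne v u hv.symm
    rw [hg1]
    simp only [hc, hc', Equiv.symm_apply_apply, if_neg h1, mul_one, if_pos (⟨u, rfl⟩ : ∃ v, σ (a u) = σ (a v)),
      one_smul]
    exact mul_eq_one_comm.1 (hg _)
  have ha : ∀ u, ∃ k : F, g1 (σ (σ (a u))) = k • 1 := fun u => by
    have h1 : ¬ ∃ v, a u = σ (a v) := fun ⟨v, hv⟩ => hne v u hv.symm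
    obtain ⟨k, hk⟩ := hsc (a u)
    refine ⟨k, ?_⟩
    rw [hσσ, hg1]
    simp only [hc, hc', if_neg h1, one_mul, hsym, if_pos (⟨u, rfl⟩ : ∃ v, σ (a u) = σ (a v))]
    rwa [Pi.mul_apply, hsym] at hk
  have himg : ∀ x f : Ix τ m, (pureM g1 * permM F m σ) x f ≠ 0 → ∀ u,
      (x (a u), x (σ (a u))) = ((f (a u), f (σ (a u))) : Fin m × Fin m).swap := fun x f hxf u => by
    obtain ⟨k, hk⟩ := ha u
    have h3 := entry_forces hxf hk
    rw [hσσ] at h3
    rw [h3, entry_forces hxf (hb u)]
    rfl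
  refine card_le_rank_sub_one _ (fun x hx y hy hxy => ?_) fun x hx => ?_
  · exfalso
    rw [Finset.mem_filter] at hx hy
    have := hx.2
    rw [show (fun u => (x (a u), x (σ (a u)))) = fun u => ((y (a u), y (σ (a u))) : Fin m × Fin m).swap from
      funext (himg x y hxy)] at this
    exact not_lex_swap hy.2 this
  · by_contra hxx
    rw [Finset.mem_filter] at hx
    have := hx.2
    rw [show (fun u => (x (a u), x (σ (a u)))) = fun u => ((x (a u), x (σ (a u))) : Fin m × Fin m).swap from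
      funext (himg x x hxx)] at this
    exact not_lex_swap hx.2 this

/-- A three-cycle of factors in odd characteristic. -/
theorem le_rank_of_three (hm : 3 ≤ m) {g : τ → Matrix (Fin m) (Fin m) F} {σ : Equiv.Perm τ}
    (hd : (pureM g).det ≠ 0) {i : τ} (h1 : σ i ≠ i) (h2 : σ (σ i) ≠ i) :
    Fintype.card (Ix (Rest i) m) < (pureM g * permM F m σ - 1).rank := by
  haveI : NeZero m := ⟨by omega⟩
  classical
  set j := σ i
  set l := σ j
  have hlj : l ≠ j := fun h => h1 (σ.injective h)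
  have hg : ∀ w, g w * (g w)⁻¹ = 1 := nonsing_inv_of_pureM hd
  set c : τ → Matrix (Fin m) (Fin m) F := fun w => if w = j then (g j)⁻¹ else if w = l then (g j)⁻¹ * (g l)⁻¹ else 1
    with hc
  set c' : τ → Matrix (Fin m) (Fin m) F := fun w => if w = j then g j else if w = l then g l * g j else 1 with hc'
  have hcc : ∀ w, c w * c' w = 1 := fun w => by
    simp only [hc, hc']; split_ifs
    · exact mul_eq_one_comm.1 (hg _)
    · rw [mul_assoc, ← mul_assoc (g l)⁻¹, mul_eq_one_comm.1 (hg l), one_mul, mul_eq_one_comm.1 (hg j)]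
    · exact mul_one 1
  obtain ⟨e1, e2⟩ := normalize (g := g) σ hcc
  refine lt_of_lt_of_le ?_ (rank_sub_one_conj (k := pureM g * permM F m σ) e2)
  rw [e1]
  set g1 : τ → Matrix (Fin m) (Fin m) F := fun w => c w * g w * c' (σ.symm w) with hg1
  have hj : g1 j = (1 : F) • 1 := by
    rw [hg1, one_smul]
    simp only [hc, hc', j, Equiv.symm_apply_apply, if_true]
    rw [if_neg (Ne.symm h1), if_neg (Ne.symm h2), mul_one]
    exact mul_eq_one_comm.1 (hg _)
  have hl : g1 (σ j) = (1 : F) • 1 := by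
    rw [hg1, one_smul]
    show c l * g l * c' (σ.symm l) = 1
    rw [show σ.symm l = j by simp [l]]
    simp only [hc, hc', if_true, if_neg hlj]
    rw [mul_assoc ((g j)⁻¹), mul_eq_one_comm.1 (hg l), mul_one, mul_eq_one_comm.1 (hg j)]
  have himg : ∀ x f : Ix τ m, (pureM g1 * permM F m σ) x f ≠ 0 → x j = f i ∧ x l = f j := fun x f hxf =>
    ⟨entry_forces hxf hj, entry_forces hxf hl⟩
  let z : Fin m := 0
  set S1 : Finset (Fin 3 → Fin m) := Fintype.piFinset ![{z}ᶜ, {z}, Finset.univ] with hS1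
  set S2 : Finset (Fin 3 → Fin m) := Fintype.piFinset ![{z}, {z}ᶜ, {z}ᶜ] with hS2
  have m1 : ∀ v : Fin 3 → Fin m, v ∈ S1 ↔ v 0 ≠ z ∧ v 1 = z := fun v => by
    simp [hS1, Fintype.mem_piFinset, Fin.forall_fin_succ]
  have m2 : ∀ v : Fin 3 → Fin m, v ∈ S2 ↔ v 0 = z ∧ v 1 ≠ z ∧ v 2 ≠ z := fun v => by
    simp [hS2, Fintype.mem_piFinset, Fin.forall_fin_succ]
  set ι : Fin 3 → τ := ![i, j, l]
  have hι : Function.Injective ι := by
    intro a b
    fin_cases a <;> fin_cases b <;> simp [ι, h1, h2, hlj, Ne.symm h1, Ne.symm h2, Ne.symm hlj]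
  have key : (Finset.univ.filter fun f : Ix τ m => f ∘ ι ∈ S1 ∪ S2).card ≤
      (pureM g1 * permM F m σ - 1).rank := by
    refine card_le_rank_sub_one _ (fun x hx y hy hxy w hw => ?_) fun x hx => ?_
    · by_contra hyw
      simp only [Finset.mem_filter, Finset.mem_union, m1, m2, ι, Finset.mem_univ, true_and, Function.comp_apply,
        Matrix.cons_val_zero, Matrix.cons_val_one, Matrix.cons_val] at hx hy hw
      obtain ⟨a1, a2⟩ := himg x y hxy
      obtain ⟨b1, b2⟩ := himg y w hyw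
      rcases hw with ⟨w1, w2⟩ | ⟨w1, w2, w3⟩
      · rcases hy with ⟨y1, y2⟩ | ⟨y1, y2, y3⟩
        · exact w1 (b1.symm.trans y2)
        · exact y3 (b2.trans w2)
      · rcases hy with ⟨y1, y2⟩ | ⟨y1, y2, y3⟩
        · rcases hx with ⟨x1, x2⟩ | ⟨x1, x2, x3⟩
          · exact y1 (a1.symm.trans x2)
          · exact x3 (a2.trans y2)
        · exact y2 (b1.trans w1)
    · by_contra hxx
      simp only [Finset.mem_filter, Finset.mem_union, m1, m2, ι, Finset.mem_univ, true_and, Function.comp_apply,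
        Matrix.cons_val_zero, Matrix.cons_val_one, Matrix.cons_val] at hx
      obtain ⟨a1, a2⟩ := himg x x hxx
      rcases hx with ⟨x1, x2⟩ | ⟨x1, x2, x3⟩
      · exact x1 (a1.symm.trans x2)
      · exact x2 (a1.trans x1)
  refine lt_of_lt_of_le ?_ key
  have hcount := card_filter_comp (m := m) ι hι (fun v => v ∈ S1 ∪ S2)
  have hS : (Finset.univ.filter fun v => v ∈ S1 ∪ S2).card = (m - 1) * m + (m - 1) * (m - 1) := by
    rw [Finset.filter_mem_eq_inter, Finset.univ_inter, Finset.card_union_of_disjoint, hS1, hS2, Fintype.card_piFinset,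
      Fintype.card_piFinset]
    · simp [Fin.prod_univ_three, Finset.card_compl]
    · rw [Finset.disjoint_left]
      intro v hv hv'
      exact ((m1 v).1 hv).1 ((m2 v).1 hv').1
  rw [hS, card_ix i] at hcount
  have hpos : 0 < Fintype.card (Ix (Rest i) m) := Fintype.card_pos
  obtain ⟨q, rfl⟩ : ∃ q, m = q + 3 := ⟨m - 3, by omega⟩
  simp only [show q + 3 - 1 = q + 2 by omega] at hcount
  by_contra hle
  push Not at hle
  have h3 : ((q + 2) * (q + 3) + (q + 2) * (q + 2)) * (q + 3) * Fintype.card (Ix (Rest i) (q + 3)) ≤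
      (q + 3) ^ 3 * Fintype.card (Ix (Rest i) (q + 3)) := by
    calc _ = ((q + 2) * (q + 3) + (q + 2) * (q + 2)) * ((q + 3) * Fintype.card (Ix (Rest i) (q + 3))) := mul_assoc _ _ _
      _ = _ := hcount.symm
      _ ≤ Fintype.card (Ix (Rest i) (q + 3)) * (q + 3) ^ 3 := Nat.mul_le_mul_right _ hle
      _ = _ := mul_comm _ _
  have h4 := Nat.le_of_mul_le_mul_right h3 hpos
  nlinarith [sq_nonneg (q : ℤ)]

theorem lex_card_three :
    (Finset.univ.filter fun v : Fin 2 → Fin 3 => Lex fun u : Fin 1 => (v ⟨2 * u, by omega⟩, v ⟨2 * u + 1, by omega⟩)).card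
      = 3 := by decide +kernel

theorem lex_card_three_two :
    (Finset.univ.filter fun v : Fin 4 → Fin 3 => Lex fun u : Fin 2 => (v ⟨2 * u, by omega⟩, v ⟨2 * u + 1, by omega⟩)).card
      = 36 := by decide +kernel

theorem lex_card_three_three :
    (Finset.univ.filter fun v : Fin 6 → Fin 3 => Lex fun u : Fin 3 => (v ⟨2 * u, by omega⟩, v ⟨2 * u + 1, by omega⟩)).card
      = 351 := by decide +kernel

end CfsgLib.Classical.TensorWreath
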