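import Cfsg.Agent.Lib.Classical.TensorWreath.StepC
import Cfsg.Agent.Lib.Classical.QuadPairInvol.Basic

set_option autoImplicit false
set_option linter.unusedSectionVars false

/-!
Pairs of involutions, `p`-groups meeting a subgroup, and their consequences for intermediate groups.
-/

namespace CfsgLib.Classical.TensorWreath

open Matrix
open scoped MatrixGroups Kronecker

section Group

variable {G : Type*} [Group G] [Finite G]

/-- Two involutions: conjugate, or a central involution of their group pairs up the classes. -/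
theorem dihedral_cases {a b : G} (ha : a * a = 1) (hb : b * b = 1) :
    (∃ c ∈ Subgroup.closure ({a, b} : Set G), b = c * a * c⁻¹) ∨
    ∃ z ∈ Subgroup.closure ({a, b} : Set G), z * z = 1 ∧ z ≠ 1 ∧ z * a = a * z ∧ z * b = b * z ∧
      (((∃ c ∈ Subgroup.closure ({a, b} : Set G), z * a = c * a * c⁻¹) ∧
          ∃ c ∈ Subgroup.closure ({a, b} : Set G), z * b = c * b * c⁻¹) ∨
        ((∃ c ∈ Subgroup.closure ({a, b} : Set G), z * a = c * b * c⁻¹) ∧
          ∃ c ∈ Subgroup.closure ({a, b} : Set G), z * b = c * a * c⁻¹)) := by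
  set D := Subgroup.closure ({a, b} : Set G) with hD
  have haD : a ∈ D := Subgroup.subset_closure (Set.mem_insert _ _)
  have hbD : b ∈ D := Subgroup.subset_closure (Set.mem_insert_of_mem _ (Set.mem_singleton _))
  have hai : a⁻¹ = a := inv_eq_of_mul_eq_one_right ha
  have hbi : b⁻¹ = b := inv_eq_of_mul_eq_one_right hb
  set h := a * b with hh
  have hhD : h ∈ D := D.mul_mem haD hbD
  have key : ∀ u : G, u * h * u⁻¹ = h⁻¹ → ∀ s : ℕ, h ^ s * u * (h ^ s)⁻¹ = h ^ (2 * s) * u := by
    intro u hu s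
    have h1 : u * (h ^ s)⁻¹ = h ^ s * u := by
      rw [← mul_inv_eq_iff_eq_mul, ← conj_inv, ← conj_pow, hu, inv_pow, inv_inv]
    rw [mul_assoc, h1, ← mul_assoc, ← pow_add, two_mul]
  have ka : a * h * a⁻¹ = h⁻¹ := by rw [hh, _root_.mul_inv_rev, hai, hbi, ← mul_assoc a a, ha, one_mul]
  have kb : b * h * b⁻¹ = h⁻¹ := by rw [hh, _root_.mul_inv_rev, hai, hbi, mul_assoc, mul_assoc, hb, mul_one]
  rcases Nat.even_or_odd' (orderOf h) with ⟨l, hl | hl⟩
  · right
    have hl0 : 0 < orderOf h := orderOf_pos h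
    have hzz : h ^ l * h ^ l = 1 := by rw [← pow_add, ← two_mul, ← hl, pow_orderOf_eq_one]
    have hzi : (h ^ l)⁻¹ = h ^ l := inv_eq_of_mul_eq_one_right hzz
    have za : h ^ l * a = a * h ^ l := by
      have : a * h ^ l * a⁻¹ = h ^ l := by rw [← conj_pow, ka, inv_pow, hzi]
      rw [mul_inv_eq_iff_eq_mul] at this
      exact this.symm
    have zb : h ^ l * b = b * h ^ l := by
      have : b * h ^ l * b⁻¹ = h ^ l := by rw [← conj_pow, kb, inv_pow, hzi]
      rw [mul_inv_eq_iff_eq_mul] at this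
      exact this.symm
    refine ⟨h ^ l, D.pow_mem hhD l, hzz, fun e => ?_, za, zb, ?_⟩
    · have := orderOf_le_of_pow_eq_one (by omega) e
      omega
    rcases Nat.even_or_odd' l with ⟨s, rfl | rfl⟩
    · exact Or.inl ⟨⟨h ^ s, D.pow_mem hhD s, (key a ka s).symm⟩, ⟨h ^ s, D.pow_mem hhD s, (key b kb s).symm⟩⟩
    · refine Or.inr ⟨⟨h ^ s * a, D.mul_mem (D.pow_mem hhD s) haD, ?_⟩, ⟨h ^ s, D.pow_mem hhD s, ?_⟩⟩
      · have k3 : a * b * a⁻¹ * h * (a * b * a⁻¹)⁻¹ = h⁻¹ := by
          simp only [hh, _root_.mul_inv_rev, inv_inv, hai, hbi, ← mul_assoc]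
          simp only [mul_assoc, ← mul_assoc a a, ha, one_mul, ← mul_assoc b b, hb]
        rw [_root_.mul_inv_rev, show h ^ s * a * b * (a⁻¹ * (h ^ s)⁻¹) = h ^ s * (a * b * a⁻¹) * (h ^ s)⁻¹ by
          simp only [mul_assoc], key _ k3 s, pow_succ, mul_assoc, hai, ← hh]
      · rw [key a ka s, pow_succ, mul_assoc, show h * b = a by rw [hh, mul_assoc, hb, mul_one]]
  · left
    refine ⟨h ^ l, D.pow_mem hhD l, ?_⟩
    have hh1 : h * b = a := by rw [hh, mul_assoc, hb, mul_one]
    rw [key a ka l, ← hh1, ← mul_assoc, ← pow_succ, ← hl, pow_orderOf_eq_one, one_mul]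

/-- A `p`-group not inside `H` has an element outside moving a given element into `H`. -/
theorem exists_conj_mem {p : ℕ} [Fact p.Prime] {P H : Subgroup G} (hP : IsPGroup p P) (hPH : ¬ P ≤ H) {x : G}
    (hxP : x ∈ P) (hxH : x ∈ H) : ∃ e ∈ P, e ∉ H ∧ e * x * e⁻¹ ∈ H := by
  haveI : Group.IsNilpotent P := hP.isNilpotent
  have hlt : H.subgroupOf P < Subgroup.normalizer (H.subgroupOf P : Set P) := by
    refine Group.normalizerCondition_of_isNilpotent (H.subgroupOf P) (lt_top_iff_ne_top.2 fun e => hPH fun y hy => ?_)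
    have h1 : (⟨y, hy⟩ : P) ∈ H.subgroupOf P := e ▸ Subgroup.mem_top _
    exact h1
  obtain ⟨e, he, heH⟩ := Set.exists_of_ssubset hlt
  exact ⟨e.1, e.2, heH, ((Subgroup.mem_normalizer_iff.1 he) ⟨x, hxP⟩).1 hxH⟩

end Group

variable {F : Type*} [Field F] [Finite F] {τ : Type} [Fintype τ] [DecidableEq τ] {m : ℕ}
variable {M M' : Subgroup (GL (Ix τ m) F)} {g : GL (Ix τ m) F} {i : τ}

theorem Ctx.mono_of_conj_root (C : Ctx M) (hg : g ∈ M) {X : Matrix (Ix τ m) (Ix τ m) F} (hX : RootAt i X)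
    (h : Mono (1 + g.1 * X * (g⁻¹).1)) : Mono g.1 :=
  mono_of_mono_conj C C (Rel.refl hg) hX h

theorem Ctx.mono_of_commute_embM' (C : Ctx M) (hg : g ∈ M) {c : Matrix (Fin m) (Fin m) F} (hc : c ≠ 0) (hd : c.det = 0)
    (h : g.1 * embM i c = embM i c * g.1) : Mono g.1 :=
  mono_of_commute_embM C.low C.hyp C.three C.two C.notTop hg hc hd h

theorem Ctx.exists_rootGL (C : Ctx M) {X : Matrix (Ix τ m) (Ix τ m) F} (hX : RootAt i X) :
    ∃ x ∈ M, x.1 = 1 + X ∧ Mono x.1 := by
  haveI : NeZero m := ⟨by have := C.three; omega⟩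
  obtain ⟨x, hx, hx'⟩ := C.hyp.inM_rootAt hX
  refine ⟨x, hx, hx', ?_⟩
  obtain ⟨n, rfl, -, -, -⟩ := hX.det_one
  rw [hx', ← embM_one (F := F) (m := m) i, ← embM_add]
  exact mono_pure _

/-- An element generating a `p`-group with a root is monomial. -/
theorem Ctx.mono_of_pGroup (C : Ctx M) {p : ℕ} [Fact p.Prime] {X : Matrix (Ix τ m) (Ix τ m) F} (hX : RootAt i X)
    {x k : GL (Ix τ m) F} (hx : x ∈ M) (hxv : x.1 = 1 + X) (hxm : Mono x.1) (hk : k ∈ M)
    (hP : IsPGroup p (Subgroup.closure ({x, k} : Set (GL (Ix τ m) F)))) : Mono k.1 := by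
  haveI : NeZero m := ⟨by have := C.three; omega⟩
  haveI : Finite (GL (Ix τ m) F) := inferInstance
  by_contra hkm
  obtain ⟨e, he, heH, hconj⟩ := exists_conj_mem (H := monoGroup F τ m) hP
    (fun hle => hkm (hle (Subgroup.subset_closure (Set.mem_insert_of_mem _ (Set.mem_singleton _)))))
    (Subgroup.subset_closure (Set.mem_insert _ _)) hxm
  have heM : e ∈ M := by
    refine (Subgroup.closure_le M).2 ?_ he
    rintro y (rfl | rfl)
    · exact hx
    · exact hk
  refine heH (C.mono_of_conj_root heM hX ?_)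
  have : (e * x * e⁻¹).1 = 1 + e.1 * X * (e⁻¹).1 := by
    rw [Units.val_mul, Units.val_mul, hxv, mul_add, mul_one, add_mul, e.mul_inv]
  exact this ▸ hconj

theorem mono_fix_of_commute (hm : 3 ≤ m) {h : τ → Matrix (Fin m) (Fin m) F} {σ : Equiv.Perm τ} {a b : Fin m}
    (hab : a ≠ b) (hd : (pureM h * permM F m σ).det ≠ 0)
    (hc : pureM h * permM F m σ * embM i (e a b) = embM i (e a b) * (pureM h * permM F m σ)) : σ i = i := by
  haveI : NeZero m := ⟨by omega⟩
  have hd' : (pureM h).det ≠ 0 := fun h0 => hd (by rw [Matrix.det_mul, h0, zero_mul])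
  by_contra hne
  rw [mono_mul_embM (g' := fun j => (h j)⁻¹) σ i (nonsing_inv_of_pureM hd' _)] at hc
  have hu : IsUnit (pureM h * permM F m σ) := (Matrix.isUnit_iff_isUnit_det _).2 hd.isUnit
  exact embM_eq_embM_ne hm (Ne.symm hne) hab (hu.mul_right_cancel hc).symm

/-- The odd characteristic case. -/
theorem Ctx.allMono_odd (C : Ctx M) (h2 : (2 : F) ≠ 0) (hg : g ∈ M) : Mono g.1 := by
  have hm := C.three
  haveI : NeZero m := ⟨by omega⟩
  obtain ⟨p, hp, hcp⟩ := ringChar_prime (F := F)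
  haveI := Fact.mk hp
  haveI := hcp
  have hp2 : p ≠ 2 := fun e => by subst e; exact h2 (CharP.cast_eq_zero F 2)
  haveI : Nonempty τ := Fintype.card_pos_iff.1 (by have := C.two; omega)
  let i : τ := Classical.arbitrary τ
  let a : Fin m := ⟨0, by omega⟩
  let b : Fin m := ⟨1, by omega⟩
  have hab : a ≠ b := by simp [a, b, Fin.ext_iff]
  set X : Matrix (Ix τ m) (Ix τ m) F := embM i (e a b) with hXdef
  have hX : RootAt i X := rootAt_e i hab
  obtain ⟨x, hxM, hxv, hxm⟩ := C.exists_rootGL hX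
  set K := g.1 * X * (g⁻¹).1 with hKdef
  obtain ⟨k, hkM, hkv⟩ : ∃ k ∈ M, k.1 = 1 + K := (Rel.refl hg).inM ⟨x, hxM, hxv⟩
  by_cases hkm : Mono k.1
  · exact C.mono_of_conj_root hg hX (hkv ▸ hkm)
  exfalso
  have hXX : X * X = 0 := rootAt_sq hX
  have hKK : K * K = 0 := by rw [hKdef, mul_inv_cancel_mid, hXX, mul_zero, zero_mul]
  have hnp : ¬ IsPGroup p (Subgroup.closure ({x, k} : Set (GL (Ix τ m) F))) := fun hP =>
    hkm (C.mono_of_pGroup hX hxM hxv hxm hkM hP)
  obtain ⟨z, hz, hz2, hz1⟩ := QuadPairInvol.exists_invol hp2 hXX hKK hxv hkv hnp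
  obtain ⟨cX, cK⟩ := QuadPairInvol.invol_comm h2 hXX hKK hxv hkv hz hz2
  have hzM : z ∈ M := by
    refine (Subgroup.closure_le M).2 ?_ hz
    rintro y (rfl | rfl)
    · exact hxM
    · exact hkM
  obtain ⟨hs, σ, hzv⟩ := C.mono_of_commute_root hzM hX cX
  have hzd : (pureM hs * permM F m σ).det ≠ 0 := by
    rw [← hzv]; exact ((Matrix.isUnit_iff_isUnit_det _).1 z.isUnit).ne_zero
  have hσ : σ i = i := mono_fix_of_commute hm hab hzd (by rw [← hzv, ← hXdef]; exact cX)
  have hhd : (pureM hs).det ≠ 0 := fun h0 => hzd (by rw [Matrix.det_mul, h0, zero_mul])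
  have hzsq : z.1 * z.1 = 1 := by rw [← Units.val_mul, hz2, Units.val_one]
  have hzsq' := hzsq
  rw [hzv, mono_mul_self] at hzsq'
  obtain ⟨-, hsc⟩ := eq_one_of_pure_perm hm hzsq'
  obtain ⟨c, hc⟩ := hsc i
  rw [Pi.mul_apply, show σ.symm i = i by rw [Equiv.symm_apply_eq, hσ]] at hc
  have hA : Cen i (pureM (Function.update hs i 1) * permM F m σ) := by
    intro w
    have h1 := mono_mul_embM (g := Function.update hs i 1) (g' := fun _ => 1) σ i (by simp [hσ]) w
    rw [hσ, Function.update_self, one_mul, mul_one] at h1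
    exact h1.symm
  have hzsplit : z.1 = embM i (hs i) * (pureM (Function.update hs i 1) * permM F m σ) := by
    rw [hzv, ← mul_assoc]
    congr 1
    rw [embM, pureM_mul, ← Function.update_mul, one_mul, mul_one, Function.update_eq_self]
  generalize pureM (Function.update hs i 1) * permM F m σ = A at hA hzsplit
  have hzcomm : hs i * e a b = e a b * hs i := by
    have h1 : z.1 * X = X * z.1 := cX
    rw [hzsplit, hXdef, mul_assoc, ← hA, ← mul_assoc, ← mul_assoc, embM_mul, embM_mul] at h1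
    have hu : IsUnit A := by
      refine (Matrix.isUnit_iff_isUnit_det _).2 (IsUnit.mk0 _ fun h0 => ?_)
      have := ((Matrix.isUnit_iff_isUnit_det _).1 z.isUnit).ne_zero
      rw [hzsplit, Matrix.det_mul, h0, mul_zero] at this
      exact this rfl
    exact embM_injective i (hu.mul_right_cancel h1)
  have hcol : ∀ y, y ≠ a → hs i y a = 0 := fun y hy => by
    simpa [hy, Matrix.single_apply, Ne.symm hy] using congrFun₂ hzcomm y b
  have hrow : ∀ y, y ≠ b → hs i b y = 0 := fun y hy => by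
    simpa [hy, Matrix.single_apply, Ne.symm hy, hab, hab.symm] using (congrFun₂ hzcomm a y).symm
  have hdiag : hs i a a = hs i b b := by
    simpa [Matrix.single_apply] using congrFun₂ hzcomm a b
  set β := hs i a a with hβ
  have hβ0 : β ≠ 0 := fun h0 => det_ne_zero_of_pureM hhd i (Matrix.det_eq_zero_of_column_eq_zero a fun y => by
    by_cases hy : y = a
    · rw [hy]; exact h0
    · exact hcol y hy)
  set bb : Matrix (Fin m) (Fin m) F := β⁻¹ • hs i with hbb
  have hbe : bb * e a b = e a b := by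
    ext y w
    by_cases hw : w = b
    · subst hw
      by_cases hy : y = a
      · subst hy; simp [hbb, ← hβ, hβ0]
      · simp [hbb, hcol y hy, Ne.symm hy]
    · simp [hw, Ne.symm hw]
  have heb : e a b * bb = e a b := by
    rw [hbb, mul_smul_comm, ← hzcomm, ← smul_mul_assoc, ← hbb, hbe]
  have hb2 : bb * bb = 1 := by
    have : c = β * β := by
      have h1 := congrFun₂ hc a a
      rw [Matrix.mul_apply, Fintype.sum_eq_single a (fun y hy => by rw [hcol y hy, mul_zero])] at h1
      simpa using h1.symm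
    rw [hbb, smul_mul_smul_comm, hc, smul_smul, this, ← mul_inv, inv_mul_cancel₀ (mul_ne_zero hβ0 hβ0), one_smul]
  set A' := β • A with hA'
  have hA'c : Cen i A' := hA.smul β
  set A0 := restM i A' with hA0
  have hz' : z.1 = ins i A0 bb := by
    rw [hzsplit, ← mul_one bb, ← one_mul A0, ← ins_mul, ← hA'c.eq_ins, ← embM_eq_ins, hbb, hA', embM_smul,
      smul_mul_smul_comm, inv_mul_cancel₀ hβ0, one_smul]
  have hA2 : A0 * A0 = 1 := by
    refine ins_one_injective i (show ins i (A0 * A0) 1 = ins i 1 1 from ?_)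
    rw [ins_one_one, ← hzsq, hz', ins_mul, hb2]
  have hrangeU := QuadPairInvol.sub_one_mem_range hXX hKK hxv hkv hz
  have hfix : ∀ v, X *ᵥ v = 0 → K *ᵥ v = 0 → z.1 *ᵥ v = v := by
    intro v hv1 hv2
    have main : ∀ y ∈ Subgroup.closure ({x, k} : Set (GL (Ix τ m) F)), y.1 *ᵥ v = v := by
      intro y hy
      induction hy using Subgroup.closure_induction with
      | mem y hy =>
        rcases hy with rfl | rfl
        · rw [hxv, Matrix.add_mulVec, Matrix.one_mulVec, hv1, add_zero]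
        · rw [hkv, Matrix.add_mulVec, Matrix.one_mulVec, hv2, add_zero]
      | one => rw [Units.val_one, Matrix.one_mulVec]
      | mul y w _ _ h1 h2 => rw [Units.val_mul, ← Matrix.mulVec_mulVec, h2, h1]
      | inv y _ h1 =>
        conv_lhs => rw [← h1]
        rw [Matrix.mulVec_mulVec, y.inv_mul, Matrix.one_mulVec]
    exact main z hz
  have hupper : (z.1 - 1).rank ≤ 2 * (X * (z.1 - 1)).rank := by
    set Z := z.1 - 1 with hZ
    set W := LinearMap.range Z.mulVecLin
    have zW : ∀ w ∈ W, Z *ᵥ w = -(w + w) := by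
      rintro _ ⟨v, rfl⟩
      rw [Matrix.mulVecLin_apply, Matrix.mulVec_mulVec, ← Matrix.add_mulVec, ← Matrix.neg_mulVec]
      congr 1
      rw [hZ, sub_mul, mul_sub, mul_sub, hzsq, one_mul, mul_one]
      simp only [one_mul]
      abel
    have hKW : W.map K.mulVecLin ≤ W := by
      rintro _ ⟨_, ⟨v, rfl⟩, rfl⟩
      refine ⟨K *ᵥ v, ?_⟩
      simp only [Matrix.mulVecLin_apply, Matrix.mulVec_mulVec]
      rw [hZ, sub_mul, mul_sub, cK, one_mul, mul_one]
    have hle : W ≤ W.map X.mulVecLin ⊔ W.map K.mulVecLin := by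
      intro w hw
      obtain ⟨v, rfl⟩ := hw
      have h1 : Z *ᵥ v ∈ LinearMap.range X.mulVecLin ⊔ LinearMap.range K.mulVecLin :=
        hrangeU (LinearMap.mem_range_self Z.mulVecLin v)
      obtain ⟨_, ⟨u, rfl⟩, _, ⟨u', rfl⟩, huv⟩ := Submodule.mem_sup.1 h1
      have h3 := zW _ (LinearMap.mem_range_self Z.mulVecLin v)
      rw [Matrix.mulVecLin_apply] at h3 huv ⊢
      simp only [Matrix.mulVecLin_apply] at huv
      have e3 : Z *ᵥ (Z *ᵥ v) = X *ᵥ (Z *ᵥ u) + K *ᵥ (Z *ᵥ u') := by
        rw [← huv, Matrix.mulVec_add, Matrix.mulVec_mulVec, Matrix.mulVec_mulVec, Matrix.mulVec_mulVec,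
          Matrix.mulVec_mulVec, hZ, sub_mul, sub_mul, mul_sub, mul_sub, cX, cK, one_mul, one_mul, mul_one, mul_one]
      have e4 : (-2 : F) • (Z *ᵥ v) = Z *ᵥ (Z *ᵥ v) := by rw [h3, neg_smul, two_smul]
      have hmem : (-2 : F) • (Z *ᵥ v) ∈ W.map X.mulVecLin ⊔ W.map K.mulVecLin := by
        rw [e4, e3]
        exact Submodule.add_mem_sup ⟨_, LinearMap.mem_range_self Z.mulVecLin u, rfl⟩
          ⟨_, LinearMap.mem_range_self Z.mulVecLin u', rfl⟩
      exact (Submodule.smul_mem_iff _ (neg_ne_zero.2 h2)).1 hmem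
    have hinj : Module.finrank F (W.map K.mulVecLin) ≤ Module.finrank F ((W.map K.mulVecLin).map X.mulVecLin) := by
      refine le_of_eq (LinearEquiv.finrank_eq ?_)
      refine LinearEquiv.ofBijective (X.mulVecLin.restrict (p := W.map K.mulVecLin)
        (q := (W.map K.mulVecLin).map X.mulVecLin) fun v hv => Submodule.mem_map_of_mem hv) ⟨?_, ?_⟩
      · rw [← LinearMap.ker_eq_bot, Submodule.eq_bot_iff]
        rintro ⟨v, hv⟩ hv0
        have hv1 : X *ᵥ v = 0 := congrArg Subtype.val (LinearMap.mem_ker.1 hv0)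
        have hv2 : K *ᵥ v = 0 := by
          obtain ⟨w, -, rfl⟩ := hv
          rw [Matrix.mulVecLin_apply, Matrix.mulVec_mulVec, hKK, Matrix.zero_mulVec]
        have h3 := zW v (hKW hv)
        rw [hZ, Matrix.sub_mulVec, hfix v hv1 hv2, Matrix.one_mulVec, sub_self, eq_comm, neg_eq_zero, ← two_smul F,
          smul_eq_zero] at h3
        exact Subtype.ext (h3.resolve_left h2)
      · rintro ⟨_, v, hv, rfl⟩
        exact ⟨⟨v, hv⟩, rfl⟩
    have hmap : W.map X.mulVecLin = LinearMap.range (X * Z).mulVecLin := by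
      rw [Matrix.mulVecLin_mul, LinearMap.range_comp]
    calc Z.rank ≤ Module.finrank F ↥(W.map X.mulVecLin ⊔ W.map K.mulVecLin) := Submodule.finrank_mono hle
      _ ≤ Module.finrank F (W.map X.mulVecLin) + Module.finrank F (W.map K.mulVecLin) :=
          Submodule.finrank_add_le_finrank_add_finrank _ _
      _ ≤ Module.finrank F (W.map X.mulVecLin) + Module.finrank F ((W.map K.mulVecLin).map X.mulVecLin) :=
          Nat.add_le_add_left hinj _
      _ ≤ Module.finrank F (W.map X.mulVecLin) + Module.finrank F (W.map X.mulVecLin) :=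
          Nat.add_le_add_left (Submodule.finrank_mono (Submodule.map_mono hKW)) _
      _ = 2 * (X * Z).rank := by rw [hmap, two_mul]; rfl
  have hXZ : (X * (z.1 - 1)).rank ≤ (A0 - 1).rank := by
    rw [hz', mul_sub, mul_one, hXdef, embM_eq_ins, ins_mul, one_mul, heb, ← ins_sub_left, e,
      Matrix.single_eq_single_vecMulVec_single]
    exact rank_ins_vecMulVec_le i _ _ _
  by_cases hb1 : bb = 1
  · have h1 := rank_mul_rank_le_ins i (A0 - 1) (1 : Matrix (Fin m) (Fin m) F)
    rw [Matrix.rank_one, Fintype.card_fin, ins_sub_left, ins_one_one] at h1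
    rw [hb1] at hz'
    rw [← hz'] at h1
    by_cases hA1 : A0 = 1
    · refine hz1 (Units.ext ?_)
      rw [hz', hA1, ins_one_one, Units.val_one]
    · have := rank_pos (sub_ne_zero.2 hA1)
      nlinarith
  have hbm1 : bb - 1 ≠ 0 := sub_ne_zero.2 hb1
  by_cases hAs : A0 = 1 ∨ A0 = -1
  · refine hkm (C.mono_of_commute_embM' hkM (i := i) (c := bb - 1) hbm1 ?_ ?_)
    · refine Matrix.det_eq_zero_of_column_eq_zero a fun y => ?_
      have := congrFun₂ hbe y b
      by_cases hy : y = a
      · subst hy; simpa [sub_eq_zero] using this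
      · simpa [Ne.symm hy, hy] using this
    · have hzk : k.1 * z.1 = z.1 * k.1 := by rw [hkv, add_mul, one_mul, mul_add, mul_one, cK]
      have hkb : k.1 * embM i bb = embM i bb * k.1 := by
        rcases hAs with hAs | hAs
        · rw [hz', hAs, ← embM_eq_ins] at hzk; exact hzk
        · rw [hz', hAs, show (-1 : Matrix (Ix (Rest i) m) (Ix (Rest i) m) F) = (-1 : F) • 1 by simp, ins_smul_left,
            ← embM_eq_ins, mul_smul_comm, smul_mul_assoc] at hzk
          exact smul_right_injective _ (neg_ne_zero.2 one_ne_zero) hzk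
      rw [embM_sub, embM_one, mul_sub, sub_mul, hkb, mul_one, one_mul]
  push Not at hAs
  have hA1 : 0 < (A0 - 1).rank := rank_pos (sub_ne_zero.2 hAs.1)
  have hAp : 0 < (A0 + 1).rank := rank_pos fun h => hAs.2 (eq_neg_of_add_eq_zero_left h)
  have eQ : (z.1 - 1) * ins i 1 (bb + 1) = ins i (A0 - 1) (bb + 1) := by
    rw [hz', sub_mul, one_mul, ins_mul, mul_one, mul_add, hb2, mul_one, add_comm 1 bb, ← ins_sub_left]
  have eL : ins i 1 (bb - 1) * (z.1 - 1) = ins i (-(A0 + 1)) (bb - 1) := by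
    rw [hz', mul_sub, mul_one, ins_mul, one_mul, sub_mul, hb2, one_mul, show -(A0 + 1) = (-1 : F) • (A0 + 1) by simp [add_comm],
      ins_smul_left, ins_add_left, ins_sub_right, ins_sub_right, ins_sub_right]
    simp
    abel
  have hadd := rank_add_rank_le (X := z.1 - 1) (Q := ins i 1 (bb + 1)) (L := ins i 1 (bb - 1)) (by
    rw [eL, ins_mul, mul_one, sub_mul, mul_add, hb2, mul_one, one_mul, add_comm bb, sub_self]
    ext u v; simp [ins_apply])
  rw [eQ, eL] at hadd
  have hbp : 2 ≤ (bb + 1).rank := by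
    by_contra hlt
    obtain ⟨u, v, huv⟩ := exists_vecMulVec_of_rank_le_one (show (bb + 1).rank ≤ 1 by omega)
    have e1 := congrFun₂ huv a a
    have e2 := congrFun₂ huv b a
    have e3 := congrFun₂ huv b b
    have ha1 : bb a a = 1 := by simpa using congrFun₂ hbe a b
    have hb0 : bb b a = 0 := by simpa [hab, hab.symm] using congrFun₂ hbe b b
    have hb1' : bb b b = 1 := by simpa using congrFun₂ heb a b
    simp [Matrix.add_apply, Matrix.vecMulVec_apply, ha1, hb0, hb1', hab, hab.symm] at e1 e2 e3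
    have h4 : (1 + 1 : F) ≠ 0 := by rw [one_add_one_eq_two]; exact h2
    rcases e2 with e2 | e2
    · rw [e2, zero_mul] at e3; exact h4 e3
    · rw [e2, mul_zero] at e1; exact h4 e1
  have h3 := rank_mul_rank_le_ins i (A0 - 1) (bb + 1)
  have h4 := rank_mul_rank_le_ins i (-(A0 + 1)) (bb - 1)
  have h5 : (-(A0 + 1)).rank = (A0 + 1).rank := by
    rw [show -(A0 + 1) = (A0 + 1) * (-1) by rw [mul_neg, mul_one],
      Matrix.rank_mul_eq_left_of_isUnit_det _ _ (by rw [Matrix.det_neg, Matrix.det_one, mul_one]; exact (isUnit_one.neg).pow _)]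
  have := rank_pos hbm1
  nlinarith

end CfsgLib.Classical.TensorWreath
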