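import Cfsg.Agent.Lib.Classical.TensorWreath.Classify
import Cfsg.Agent.Lib.AutPSL.BalanceField

set_option autoImplicit false
set_option linter.unusedSectionVars false

/-!
The permutation of a monomial element, and homomorphisms from `SL_3` in characteristic two.
-/

namespace CfsgLib.Classical.TensorWreath

open Matrix
open scoped MatrixGroups Kronecker

variable {F : Type*} [Field F] {τ : Type} [Fintype τ] [DecidableEq τ] {m : ℕ}

theorem perm_unique (hm : 3 ≤ m) {g g' : τ → Matrix (Fin m) (Fin m) F} {σ σ' : Equiv.Perm τ}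
    (hd : (pureM g * permM F m σ).det ≠ 0) (h : pureM g * permM F m σ = pureM g' * permM F m σ') : σ = σ' := by
  haveI : NeZero m := ⟨by omega⟩
  have d1 : (pureM g).det ≠ 0 := fun h0 => hd (by rw [Matrix.det_mul, h0, zero_mul])
  have hd' := hd
  rw [h] at hd'
  have d2 : (pureM g').det ≠ 0 := fun h0 => hd' (by rw [Matrix.det_mul, h0, zero_mul])
  let a : Fin m := ⟨0, by omega⟩
  let b : Fin m := ⟨1, by omega⟩
  have hab : a ≠ b := by simp [a, b, Fin.ext_iff]
  refine Equiv.ext fun i => ?_
  by_contra hne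
  have e1 := mono_mul_embM (g' := fun j => (g j)⁻¹) σ i (nonsing_inv_of_pureM d1 (σ i))
    ((g (σ i))⁻¹ * e a b * g (σ i))
  rw [h, mono_mul_embM (g' := fun j => (g' j)⁻¹) σ' i (nonsing_inv_of_pureM d2 (σ' i))] at e1
  have hu : IsUnit (pureM g' * permM F m σ') := (Matrix.isUnit_iff_isUnit_det _).2 hd'.isUnit
  have e2 := hu.mul_right_cancel e1
  rw [show g (σ i) * ((g (σ i))⁻¹ * e a b * g (σ i)) * (g (σ i))⁻¹ = e a b by
    simp only [← mul_assoc, nonsing_inv_of_pureM d1, one_mul]
    rw [mul_assoc, nonsing_inv_of_pureM d1, mul_one]] at e2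
  exact embM_eq_embM_ne hm hne hab e2.symm

theorem mono_cen_conj [NeZero m] {P : GL (Ix τ m) F} {g : τ → Matrix (Fin m) (Fin m) F} {σ : Equiv.Perm τ}
    (hP : P.1 = pureM g * permM F m σ) {i : τ} {Y : Matrix (Ix τ m) (Ix τ m) F} (hY : Cen i Y) :
    Cen (σ i) (P.1 * Y * (P⁻¹).1) := by
  intro b
  have hd : (pureM g).det ≠ 0 := fun h0 => by
    have h1 := ((Matrix.isUnit_iff_isUnit_det _).1 P.isUnit).ne_zero
    rw [hP, Matrix.det_mul, h0, zero_mul] at h1
    exact h1 rfl
  set b0 := (g (σ i))⁻¹ * b * g (σ i)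
  have e1 : P.1 * embM i b0 = embM (σ i) b * P.1 := by
    rw [hP, mono_mul_embM (g' := fun j => (g j)⁻¹) σ i (nonsing_inv_of_pureM hd _)]
    congr 2
    simp only [b0, ← mul_assoc, nonsing_inv_of_pureM hd, one_mul]
    rw [mul_assoc, nonsing_inv_of_pureM hd, mul_one]
  have e2 : (P⁻¹).1 * embM (σ i) b = embM i b0 * (P⁻¹).1 := by
    calc (P⁻¹).1 * embM (σ i) b = (P⁻¹).1 * (embM (σ i) b * P.1) * (P⁻¹).1 := by
          rw [mul_assoc, mul_assoc (embM (σ i) b), P.mul_inv, mul_one]
      _ = _ := by rw [← e1, ← mul_assoc, P.inv_mul, one_mul]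
  calc embM (σ i) b * (P.1 * Y * (P⁻¹).1) = P.1 * (embM i b0 * Y) * (P⁻¹).1 := by
        simp only [← mul_assoc, e1]
    _ = P.1 * Y * (embM i b0 * (P⁻¹).1) := by rw [hY b0]; simp only [mul_assoc]
    _ = _ := by rw [← e2]; simp only [mul_assoc]

/-- The monomial elements. -/
def monoGroup (F : Type*) [Field F] (τ : Type) [Fintype τ] [DecidableEq τ] (m : ℕ) [NeZero m] :
    Subgroup (GL (Ix τ m) F) where
  carrier := {g | Mono g.1}
  mul_mem' := fun {a b} ha hb => by
    show Mono (a * b).1
    rw [Units.val_mul]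
    exact ha.mul hb
  one_mem' := ⟨(1 : τ → Matrix (Fin m) (Fin m) F), 1, by rw [pureM_one, permM_one, one_mul, Units.val_one]⟩
  inv_mem' := fun {a} ha => mono_inv ha

theorem mem_monoGroup [NeZero m] {g : GL (Ix τ m) F} : g ∈ monoGroup F τ m ↔ Mono g.1 := Iff.rfl

/-- The permutation of a monomial element. -/
noncomputable def permOf [NeZero m] (hm : 3 ≤ m) : monoGroup F τ m →* Equiv.Perm τ where
  toFun g := g.2.choose_spec.choose
  map_one' := by
    have h := (1 : monoGroup F τ m).2.choose_spec.choose_spec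
    refine (perm_unique hm (g := (1 : monoGroup F τ m).2.choose) (g' := (1 : τ → Matrix (Fin m) (Fin m) F)) (σ' := 1) ?_ ?_)
    · rw [← h]; simp
    · rw [← h, pureM_one, permM_one, one_mul]; rfl
  map_mul' a b := by
    have ha := a.2.choose_spec.choose_spec
    have hb := b.2.choose_spec.choose_spec
    have hab := (a * b).2.choose_spec.choose_spec
    refine (perm_unique hm (g := (a * b).2.choose)
      (g' := a.2.choose * fun j => b.2.choose (a.2.choose_spec.choose.symm j)) ?_ ?_)
    · rw [← hab]; exact ((Matrix.isUnit_iff_isUnit_det _).1 (a * b).1.isUnit).ne_zero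
    · rw [← hab, Subgroup.coe_mul, Units.val_mul, ← pureM_mul, ← permM_mul]
      conv_lhs => rw [ha, hb]
      rw [mul_assoc, ← mul_assoc (permM F m a.2.choose_spec.choose), permM_mul_pureM]
      simp only [mul_assoc]

theorem permOf_eq [NeZero m] (hm : 3 ≤ m) {a : monoGroup F τ m} {g : τ → Matrix (Fin m) (Fin m) F}
    {σ : Equiv.Perm τ} (h : a.1.1 = pureM g * permM F m σ) : permOf hm a = σ := by
  have ha := a.2.choose_spec.choose_spec
  show a.2.choose_spec.choose = σ
  refine perm_unique hm ?_ (ha.symm.trans h)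
  rw [← ha]; exact ((Matrix.isUnit_iff_isUnit_det _).1 a.1.isUnit).ne_zero

theorem exists_sq [Finite F] (h2 : (2 : F) = 0) (c : F) : ∃ d : F, d * d = c := by
  obtain ⟨p, hp, hcp⟩ := ringChar_prime (F := F)
  haveI := Fact.mk hp
  haveI := hcp
  have hp2 : p = 2 := by
    have : ((2 : ℕ) : F) = 0 := by exact_mod_cast h2
    exact (Nat.prime_dvd_prime_iff_eq hp Nat.prime_two).1 ((CharP.cast_eq_zero_iff F p 2).1 this)
  subst hp2
  haveI : PerfectRing F 2 := inferInstance
  obtain ⟨d, hd⟩ := (bijective_frobenius F 2).2 c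
  exact ⟨d, by rw [← hd, frobenius_def, pow_two]⟩

theorem sq_of_char_two {R : Type*} [Ring R] [Module F R] (h2 : (2 : F) = 0) {b : R} :
    (b - 1) * (b - 1) = b * b - 1 := by
  have e : ∀ x : R, x + x = 0 := fun x => by rw [← two_smul F x, h2, zero_smul]
  have e' : ∀ x : R, -x = x := fun x => neg_eq_of_add_eq_zero_left (e x)
  rw [show (b - 1) * (b - 1) = b * b - (b + b) + 1 by noncomm_ring, e b, sub_zero, sub_eq_add_neg, e']

/-- An injection of the roots of `SL_m` into those commuting with one of them is impossible. -/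
theorem no_inj_roots [Finite F] (hm : 3 ≤ m) {N0 : Matrix (Fin m) (Fin m) F} (h0 : N0 ≠ 0) (h00 : N0 * N0 = 0)
    (f : Matrix (Fin m) (Fin m) F → Matrix (Fin m) (Fin m) F)
    (hmap : ∀ N, N ≠ 0 → N * N = 0 → f N ≠ 0 ∧ f N * f N = 0 ∧ N0 * f N = f N * N0)
    (hinj : ∀ N N', N ≠ 0 → N * N = 0 → N' ≠ 0 → N' * N' = 0 → f N = f N' → N = N') : False := by
  haveI : NeZero m := ⟨by omega⟩
  let f' : {N : Matrix (Fin m) (Fin m) F // N ≠ 0 ∧ N * N = 0} → {N : Matrix (Fin m) (Fin m) F // N ≠ 0 ∧ N * N = 0} :=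
    fun N => ⟨f N.1, (hmap N.1 N.2.1 N.2.2).1, (hmap N.1 N.2.1 N.2.2).2.1⟩
  have hs : Function.Surjective f' := (Finite.injective_iff_surjective).1 fun N N' h =>
    Subtype.ext (hinj _ _ N.2.1 N.2.2 N'.2.1 N'.2.2 (congrArg Subtype.val h))
  have hall : ∀ a b : Fin m, a ≠ b → Commute (e a b : Matrix (Fin m) (Fin m) F) N0 := fun a b hab => by
    obtain ⟨N, hN⟩ := hs ⟨e a b, fun h => by simpa using congrFun₂ h a b, e_mul_e_ne hab.symm⟩
    have hN' : f N.1 = e a b := congrArg Subtype.val hN
    have h := (hmap N.1 N.2.1 N.2.2).2.2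
    rw [hN'] at h
    exact h.symm
  have hall' : ∀ a b : Fin m, Commute (e a b : Matrix (Fin m) (Fin m) F) N0 := fun a b => by
    by_cases hab : a = b
    · subst hab
      obtain ⟨c, hc⟩ : ∃ c : Fin m, c ≠ a := by
        haveI : Nontrivial (Fin m) := Fin.nontrivial_iff_two_le.2 (by omega)
        exact exists_ne a
      rw [← e_mul_e a c a]
      exact (hall a c hc.symm).mul_left (hall c a hc)
    · exact hall a b hab
  obtain ⟨c, hc⟩ := Matrix.mem_range_scalar_iff_commute_single'.2 hall'
  rw [← hc, Matrix.scalar_apply, Matrix.diagonal_mul_diagonal] at h00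
  have := congrFun₂ h00 0 0
  rw [Matrix.diagonal_apply_eq, Matrix.zero_apply, mul_self_eq_zero] at this
  exact h0 (by rw [← hc, this, map_zero])

theorem two_mul_one_add_sq {N : Matrix (Fin m) (Fin m) F} (h2 : (2 : F) = 0) (hN : N * N = 0) :
    (1 + N) * (1 + N) = 1 := by
  have e : N + N = 0 := by rw [← two_smul F N, h2, zero_smul]
  rw [mul_add, mul_one, add_mul, one_mul, hN, add_zero, add_assoc, e, add_zero]

variable [Finite F]

/-- A homomorphism of `SL_3` into monomial elements fixing a root of one factor is trivial on that factor. -/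
theorem cen_of_hom [NeZero m] (hm : m = 3) (h2 : (2 : F) = 0) {i : τ} {N0 : Matrix (Fin m) (Fin m) F} (h0 : N0 ≠ 0)
    (h00 : N0 * N0 = 0) (φ : SpecialLinearGroup (Fin m) F →* GL (Ix τ m) F)
    (hmono : ∀ A, ∃ (g : τ → Matrix (Fin m) (Fin m) F) (σ : Equiv.Perm τ),
      (φ A).1 = pureM g * permM F m σ ∧ σ i = i)
    (hcomm : ∀ A, (φ A).1 * embM i N0 = embM i N0 * (φ A).1) : ∀ A, Cen i (φ A).1 := by
  have hm3 : 3 ≤ m := by omega
  haveI : Nontrivial (Fin m) := Fin.nontrivial_iff_two_le.2 (by omega)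
  haveI : Nonempty (Ix τ m) := ⟨fun _ => 0⟩
  let K : Subgroup (SpecialLinearGroup (Fin m) F) :=
    { carrier := {A | Cen i (φ A).1}
      mul_mem' := fun {A B} hA hB => by
        show Cen i (φ (A * B)).1
        rw [map_mul, Units.val_mul]
        exact hA.mul hB
      one_mem' := by
        show Cen i (φ 1).1
        rw [map_one]
        exact Cen.one i
      inv_mem' := fun {A} hA => by
        show Cen i (φ A⁻¹).1
        rw [map_inv]
        intro b
        exact (commute_inv (φ A) (hA b).symm).symm }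
  have hKn : K.Normal := ⟨fun A hA B => by
    obtain ⟨g, σ, hg, hσ⟩ := hmono B
    show Cen i (φ (B * A * B⁻¹)).1
    rw [map_mul, map_mul, map_inv, Units.val_mul, Units.val_mul]
    have := mono_cen_conj hg (i := i) hA
    rwa [hσ] at this⟩
  haveI := hKn
  set Z := Subgroup.center (SpecialLinearGroup (Fin m) F)
  haveI : Z.Normal := inferInstance
  have hperf : commutator (SpecialLinearGroup (Fin m) F) = ⊤ :=
    commutator_SL_eq_top (Or.inl (by rw [Fintype.card_fin]; exact hm3))
  have hroot : ∀ N : Matrix (Fin m) (Fin m) F, N * N = 0 → (1 + N).det = 1 := fun N hN => by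
    have h := congrArg Matrix.det (two_mul_one_add_sq h2 hN)
    rw [Matrix.det_mul, Matrix.det_one] at h
    have h' : ((1 + N).det - 1) * ((1 + N).det - 1) = 0 := by
      linear_combination h - ((1 + N).det - 1) * h2
    exact sub_eq_zero.1 (mul_self_eq_zero.1 h')
  rcases AutPSL.LocalBal.commutator_le_or_le_center (K ⊔ Z) le_sup_right with hle | hle
  · exfalso
    classical
    let R : (N : Matrix (Fin m) (Fin m) F) → N * N = 0 → SpecialLinearGroup (Fin m) F := fun N hN => ⟨1 + N, hroot N hN⟩
    have hdata : ∀ (N : Matrix (Fin m) (Fin m) F) (hN : N * N = 0), N ≠ 0 →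
        ∃ (n : Matrix (Fin m) (Fin m) F) (c : F) (A0 : Matrix (Ix τ m) (Ix τ m) F), c ≠ 0 ∧ Cen i A0 ∧
          (φ (R N hN)).1 = embM i (c • (1 + n)) * A0 ∧ n ≠ 0 ∧ n * n = 0 ∧ N0 * n = n * N0 := by
      intro N hN hN0
      obtain ⟨g, σ, hg, hσ⟩ := hmono (R N hN)
      have hRR : R N hN * R N hN = 1 := Subtype.ext (two_mul_one_add_sq h2 hN)
      have hsq : (φ (R N hN)).1 * (φ (R N hN)).1 = 1 := by
        rw [← Units.val_mul, ← map_mul, hRR, map_one, Units.val_one]
      rw [hg, mono_mul_self] at hsq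
      obtain ⟨hσσ, hsc⟩ := eq_one_of_pure_perm hm3 hsq
      obtain ⟨c2, hc2⟩ := hsc i
      rw [Pi.mul_apply, show σ.symm i = i by rw [Equiv.symm_apply_eq, hσ]] at hc2
      obtain ⟨d, hd⟩ := exists_sq h2 c2
      have hdet : (pureM g).det ≠ 0 := fun h0' => by
        have h1 := ((Matrix.isUnit_iff_isUnit_det _).1 (φ (R N hN)).isUnit).ne_zero
        rw [hg, Matrix.det_mul, h0', zero_mul] at h1
        exact h1 rfl
      have hd0 : d ≠ 0 := fun h => by
        rw [← hd, h, mul_zero, zero_smul] at hc2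
        have := congrArg Matrix.det hc2
        rw [Matrix.det_mul, Matrix.det_zero] at this
        exact det_ne_zero_of_pureM hdet i (mul_self_eq_zero.1 this)
      set n := d⁻¹ • g i - 1 with hn
      have e0 : c2 = d * d := hd.symm
      have hn2 : n * n = 0 := by
        rw [hn, sq_of_char_two h2, smul_mul_smul_comm, hc2, smul_smul, e0, ← mul_inv,
          inv_mul_cancel₀ (mul_ne_zero hd0 hd0), one_smul, sub_self]
      have hA0 : Cen i (pureM (Function.update g i 1) * permM F m σ) := by
        intro b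
        have h1 := mono_mul_embM (g := Function.update g i 1) (g' := fun _ => 1) σ i
          (by simp [hσ]) b
        rw [hσ, Function.update_self, one_mul, mul_one] at h1
        exact h1.symm
      have hgi : d • (1 + n) = g i := by rw [hn, add_sub_cancel, smul_smul, mul_inv_cancel₀ hd0, one_smul]
      have heq : (φ (R N hN)).1 = embM i (d • (1 + n)) * (pureM (Function.update g i 1) * permM F m σ) := by
        rw [hg, hgi, ← mul_assoc]
        congr 1
        rw [embM, pureM_mul, ← Function.update_mul, one_mul, mul_one, Function.update_eq_self]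
      refine ⟨n, d, _, hd0, hA0, heq, fun hn0 => ?_, hn2, ?_⟩
      · have hK : R N hN ∈ K ⊔ Z := Subgroup.mem_sup_left (by
          show Cen i (φ (R N hN)).1
          rw [heq, hn0, add_zero, embM_smul, embM_one, smul_one_mul]
          exact hA0.smul d)
        have hc := hle hK
        rw [Matrix.SpecialLinearGroup.mem_center_iff] at hc
        obtain ⟨r, -, hr⟩ := hc
        change Matrix.scalar (Fin m) r = 1 + N at hr
        have hN' : N = (r - 1) • 1 := by
          rw [sub_smul, one_smul, Matrix.smul_one_eq_diagonal, ← Matrix.scalar_apply, hr, add_sub_cancel_left]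
        have h3 := hN
        rw [hN', smul_mul_smul_comm, mul_one, smul_eq_zero] at h3
        rcases h3 with h3 | h3
        · exact hN0 (by rw [hN', mul_self_eq_zero.1 h3, zero_smul])
        · exact one_ne_zero h3
      · have h1 := hcomm (R N hN)
        generalize pureM (Function.update g i 1) * permM F m σ = A1 at heq hA0
        rw [heq, mul_assoc, ← hA0 N0, ← mul_assoc, ← mul_assoc, embM_mul, embM_mul] at h1
        have hu : IsUnit A1 := by
          refine (Matrix.isUnit_iff_isUnit_det _).2 (IsUnit.mk0 _ fun hz => ?_)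
          have h1 := ((Matrix.isUnit_iff_isUnit_det _).1 (φ (R N hN)).isUnit).ne_zero
          rw [heq, Matrix.det_mul, hz, mul_zero] at h1
          exact h1 rfl
        have h3 := embM_injective i (hu.mul_right_cancel h1)
        rw [smul_mul_assoc, mul_smul_comm] at h3
        have h4 := smul_right_injective _ hd0 h3
        simpa [mul_add, add_mul, eq_comm] using h4
    choose f c A0 hc hA0 heq hne hsq hco using hdata
    refine no_inj_roots hm3 h0 h00 (fun N => if h : N * N = 0 ∧ N ≠ 0 then f N h.1 h.2 else 0)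
      (fun N hN hN2 => ?_) fun N N' hN hN2 hN' hN'2 hff => ?_
    · rw [dif_pos ⟨hN2, hN⟩]
      exact ⟨hne N hN2 hN, hsq N hN2 hN, hco N hN2 hN⟩
    · rw [dif_pos (⟨hN2, hN⟩ : N * N = 0 ∧ N ≠ 0), dif_pos (⟨hN'2, hN'⟩ : N' * N' = 0 ∧ N' ≠ 0)] at hff
      have hK : R N hN2 * R N' hN'2 ∈ K ⊔ Z := Subgroup.mem_sup_left (by
        show Cen i (φ (R N hN2 * R N' hN'2)).1
        have e4 : (φ (R N hN2)).1 * (φ (R N' hN'2)).1 =
            (c N hN2 hN * c N' hN'2 hN') • (A0 N hN2 hN * A0 N' hN'2 hN') := by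
          rw [heq N hN2 hN, heq N' hN'2 hN', hA0 N hN2 hN, mul_assoc, ← mul_assoc (embM i _) (embM i _) (A0 N' hN'2 hN'),
            embM_mul, hff, smul_mul_smul_comm, two_mul_one_add_sq h2 (hsq N' hN'2 hN'), embM_smul, embM_one,
            smul_one_mul, mul_smul_comm]
        rw [map_mul, Units.val_mul, e4]
        exact ((hA0 N hN2 hN).mul (hA0 N' hN'2 hN')).smul _)
      have hc' := hle hK
      rw [Matrix.SpecialLinearGroup.mem_center_iff] at hc'
      obtain ⟨r, -, hr⟩ := hc'
      change Matrix.scalar (Fin m) r = (1 + N) * (1 + N') at hr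
      have h5 : (1 + N') = r • (1 + N) := by
        have := congrArg ((1 + N) * ·) hr
        simp only [← mul_assoc, two_mul_one_add_sq h2 hN2, one_mul] at this
        rw [← this, Matrix.scalar_apply, ← Matrix.smul_one_eq_diagonal, mul_smul_comm, mul_one]
      have h6 : N' - r • N = (r - 1) • 1 := by
        rw [sub_smul, one_smul, sub_eq_sub_iff_add_eq_add, add_comm, h5, smul_add]
      have h7 : N * N' = N' * N := by
        rw [eq_add_of_sub_eq h6]
        simp only [mul_add, add_mul, mul_smul_comm, smul_mul_assoc, one_mul, mul_one]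
      have h8 : ((r - 1) • (1 : Matrix (Fin m) (Fin m) F)) * ((r - 1) • 1) = 0 := by
        rw [← h6]
        have : N + N = 0 := by rw [← two_smul F N, h2, zero_smul]
        simp only [sub_mul, mul_sub, smul_mul_assoc, mul_smul_comm, hN'2, hN2, h7, smul_zero, sub_zero, zero_sub]
        rw [show ∀ X : Matrix (Fin m) (Fin m) F, -X - X = -(X + X) by intro X; abel, ← two_smul F, h2, zero_smul,
          neg_zero]
      rw [smul_mul_smul_comm, mul_one, smul_eq_zero] at h8
      rcases h8 with h8 | h8
      · have hr1 : r = 1 := sub_eq_zero.1 (mul_self_eq_zero.1 h8)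
        rw [hr1, one_smul] at h5
        exact (add_left_cancel h5).symm
      · exact absurd h8 one_ne_zero
  · intro A
    rw [hperf] at hle
    have hcube : ∀ A, A ∈ K ⊔ Z → A ^ 3 ∈ K := by
      intro A hA
      obtain ⟨k, hk, z, hz, rfl⟩ := Subgroup.mem_sup_of_normal_right.1 hA
      have hkz : Commute k z := Subgroup.mem_center_iff.1 hz k
      rw [hkz.mul_pow]
      have hz3 : z ^ 3 = 1 := by
        obtain ⟨r, hr, hr'⟩ := Matrix.SpecialLinearGroup.mem_center_iff.1 hz
        refine Subtype.ext ?_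
        show (z.1) ^ 3 = 1
        rw [← hr', Matrix.scalar_apply, Matrix.diagonal_pow]
        rw [Fintype.card_fin, hm] at hr
        rw [← Matrix.diagonal_one]
        exact congrArg _ (funext fun _ => hr)
      rw [hz3, mul_one]
      exact K.pow_mem hk 3
    suffices hK : K = ⊤ by
      have : A ∈ K := hK ▸ Subgroup.mem_top A
      exact this
    refine eq_top_of_transvection_mem K fun a b hab x => ?_
    have := hcube _ (hle (Subgroup.mem_top (SpecialLinearGroup.transvection hab x)))
    have h3 : SpecialLinearGroup.transvection hab x ^ 3 = SpecialLinearGroup.transvection hab x := by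
      refine Subtype.ext ?_
      show (SpecialLinearGroup.transvection hab x).1 ^ 3 = (SpecialLinearGroup.transvection hab x).1
      rw [SpecialLinearGroup.transvection_coe, pow_succ, pow_two,
        two_mul_one_add_sq h2 (by simp [hab.symm]), one_mul]
    rwa [h3] at this

end CfsgLib.Classical.TensorWreath
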