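import Cfsg.Agent.Lib.Classical.TensorWreath.Moving

set_option autoImplicit false
set_option linter.unusedSectionVars false

/-!
Quadratic monomial elements of small rank: a root, or in characteristic two with `m = 3` an exchange of two factors.
-/

namespace CfsgLib.Classical.TensorWreath

open Matrix
open scoped MatrixGroups Kronecker

variable {F : Type*} [Field F] {τ : Type} [Fintype τ] [DecidableEq τ] {m : ℕ}

theorem rank_conjT {ι : Type} [Fintype ι] [DecidableEq ι] (A : Matrix ι ι F) :
    ∃ Q : Matrix ι ι F, A * Q = 0 ∧ Q.rank + A.rank = Fintype.card ι := by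
  classical
  obtain ⟨C, hC⟩ := (LinearMap.ker A.mulVecLin).exists_isCompl
  set f : (ι → F) →ₗ[F] (ι → F) :=
    (LinearMap.ker A.mulVecLin).subtype.comp (Submodule.projectionOnto _ C hC)
  have hf : LinearMap.range f = LinearMap.ker A.mulVecLin := by
    rw [LinearMap.range_comp, Submodule.range_projectionOnto, Submodule.map_top, Submodule.range_subtype]
  refine ⟨LinearMap.toMatrix' f, Matrix.ext_of_mulVec_single fun j => ?_, ?_⟩
  · rw [← Matrix.mulVec_mulVec, LinearMap.toMatrix'_mulVec, Matrix.zero_mulVec]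
    have : f (Pi.single j 1) ∈ LinearMap.ker A.mulVecLin := hf ▸ LinearMap.mem_range_self f _
    exact this
  · have h1 := LinearMap.finrank_range_add_finrank_ker A.mulVecLin
    rw [Module.finrank_pi] at h1
    rw [Matrix.rank, Matrix.rank, ← Matrix.toLin'_apply', Matrix.toLin'_toMatrix', hf, add_comm]
    exact h1

theorem exists_left_annihilator {ι : Type} [Fintype ι] [DecidableEq ι] (A : Matrix ι ι F) :
    ∃ L : Matrix ι ι F, L * A = 0 ∧ L.rank + A.rank = Fintype.card ι := by
  obtain ⟨Q, h1, h2⟩ := rank_conjT A.transpose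
  refine ⟨Q.transpose, ?_, by rwa [Matrix.rank_transpose, ← Matrix.rank_transpose A]⟩
  rw [← Matrix.transpose_transpose A, ← Matrix.transpose_mul, h1, Matrix.transpose_zero]

theorem two_mul_rank_le {ι : Type} [Fintype ι] [DecidableEq ι] {A : Matrix ι ι F} (h : A * A = 0) :
    2 * A.rank ≤ Fintype.card ι := by
  have h1 := LinearMap.finrank_range_add_finrank_ker A.mulVecLin
  have h2 : LinearMap.range A.mulVecLin ≤ LinearMap.ker A.mulVecLin := by
    rintro _ ⟨v, rfl⟩
    simp [Matrix.mulVec_mulVec, h]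
  have h3 := Submodule.finrank_mono h2
  rw [Module.finrank_pi] at h1
  rw [Matrix.rank]
  omega

theorem rank_pos {ι : Type} [Fintype ι] [DecidableEq ι] {A : Matrix ι ι F} (h : A ≠ 0) : 0 < A.rank := by
  refine Nat.pos_of_ne_zero fun h0 => h (Matrix.ext_of_mulVec_single fun j => ?_)
  have h1 : A *ᵥ Pi.single j 1 ∈ LinearMap.range A.mulVecLin := LinearMap.mem_range_self A.mulVecLin _
  rw [Submodule.finrank_eq_zero.1 h0, Submodule.mem_bot] at h1
  rw [h1, Matrix.zero_mulVec]

theorem le_rank_ins_sub_one {i : τ} {A : Matrix (Ix (Rest i) m) (Ix (Rest i) m) F} {b : Matrix (Fin m) (Fin m) F} :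
    (Fintype.card (Ix (Rest i) m) - (A - 1).rank) * (b - 1).rank + (A - 1).rank * (m - (b - 1).rank) ≤
      (ins i A b - 1).rank := by
  obtain ⟨Q, q1, q2⟩ := rank_conjT (A - 1)
  obtain ⟨L, l1, l2⟩ := exists_left_annihilator (b - 1)
  rw [Fintype.card_fin] at l2
  have eQ : (ins i A b - 1) * ins i Q 1 = ins i Q (b - 1) := by
    rw [sub_mul, one_mul, ins_mul, mul_one, ins_sub_right]
    congr 2
    rw [sub_mul, one_mul, sub_eq_zero] at q1
    exact q1
  have eL : ins i 1 L * (ins i A b - 1) = ins i (A - 1) L := by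
    rw [mul_sub, mul_one, ins_mul, one_mul, ins_sub_left]
    congr 2
    rw [mul_sub, mul_one, sub_eq_zero] at l1
    exact l1
  have h := rank_add_rank_le (X := ins i A b - 1) (Q := ins i Q 1) (L := ins i 1 L) (by
    rw [eL, ins_mul, q1, mul_one]
    ext x y
    simp [ins_apply])
  rw [eQ, eL] at h
  refine le_trans ?_ h
  refine add_le_add (le_trans (le_of_eq ?_) (rank_mul_rank_le_ins i Q (b - 1)))
    (le_trans (le_of_eq ?_) (rank_mul_rank_le_ins i (A - 1) L))
  · rw [show Fintype.card (Ix (Rest i) m) - (A - 1).rank = Q.rank by omega]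
  · rw [show m - (b - 1).rank = L.rank by omega]

theorem ins_eq_zero [NeZero m] {i : τ} {A : Matrix (Ix (Rest i) m) (Ix (Rest i) m) F}
    {b : Matrix (Fin m) (Fin m) F} (h : ins i A b = 0) : A = 0 ∨ b = 0 := by
  by_contra hh
  push Not at hh
  have := rank_mul_rank_le_ins i A b
  rw [h, Matrix.rank_zero] at this
  exact absurd this (not_le.2 (Nat.mul_pos (rank_pos hh.1) (rank_pos hh.2)))

theorem exists_max_pow {R : Type*} [Ring R] {A : R} (hA : A ≠ 0) {p : ℕ} (hp : A ^ p = 0) :
    ∃ s, A ^ (s + 1) ≠ 0 ∧ A ^ (s + 2) = 0 := by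
  classical
  have h0 : ∃ s, A ^ (s + 1) = 0 := ⟨p, by rw [pow_succ, hp, zero_mul]⟩
  obtain ⟨s, hs⟩ : ∃ s, Nat.find h0 = s + 1 := ⟨Nat.find h0 - 1, by
    have : Nat.find h0 ≠ 0 := fun h => by
      have := Nat.find_spec h0
      rw [h, zero_add, pow_one] at this
      exact hA this
    omega⟩
  refine ⟨s, Nat.find_min h0 (by omega), ?_⟩
  have := Nat.find_spec h0
  rwa [hs] at this

theorem pureM_pow (g : τ → Matrix (Fin m) (Fin m) F) (k : ℕ) : pureM (g ^ k) = pureM g ^ k := by
  induction k with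
  | zero => rw [pow_zero, pow_zero, pureM_one]
  | succ k IH => rw [pow_succ, pow_succ, ← pureM_mul, IH]

variable [Finite F]

theorem ringChar_prime : ∃ p : ℕ, p.Prime ∧ CharP F p := by
  obtain ⟨p, hp⟩ := CharP.exists F
  exact ⟨p, (CharP.char_is_prime_or_zero F p).resolve_right (CharP.char_ne_zero_of_finite F p), hp⟩

/-- A quadratic pure tensor of small rank is a root. -/
theorem rootAt_of_pure (hm : 3 ≤ m) {g : τ → Matrix (Fin m) (Fin m) F} (hne : pureM g - 1 ≠ 0)
    (hq : (pureM g - 1) * (pureM g - 1) = 0)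
    (hr : ∀ i : τ, (pureM g - 1).rank ≤ Fintype.card (Ix (Rest i) m)) : ∃ i, RootAt i (pureM g - 1) := by
  haveI : NeZero m := ⟨by omega⟩
  obtain ⟨p, hp, hcp⟩ := ringChar_prime (F := F)
  haveI := Fact.mk hp
  haveI := hcp
  haveI : Nonempty (Ix τ m) := ⟨fun _ => 0⟩
  have hq' : (pureM g * permM F m (1 : Equiv.Perm τ) - 1) * (pureM g * permM F m (1 : Equiv.Perm τ) - 1) = 0 := by
    rwa [permM_one, mul_one]
  have hkp : pureM g ^ p = 1 := by
    have := (perm_pow_char (p := p) hm hq').1
    rwa [permM_one, mul_one] at this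
  obtain ⟨j, hj⟩ : ∃ j, ∀ c : F, g j ≠ c • 1 := by
    by_contra hall
    push Not at hall
    choose c hc using hall
    refine hne ?_
    have hP : pureM g = (∏ j, c j) • (1 : Matrix (Ix τ m) (Ix τ m) F) := by
      ext x y
      rw [pureM_apply, Matrix.smul_apply, ← pureM_one (τ := τ) (m := m) (F := F), pureM_apply, smul_eq_mul,
        ← Finset.prod_mul_distrib]
      exact Finset.prod_congr rfl fun j _ => by rw [hc]; rfl
    rw [hP] at hq ⊢
    rw [show (∏ j, c j) • (1 : Matrix (Ix τ m) (Ix τ m) F) - 1 = ((∏ j, c j) - 1) • 1 by rw [sub_smul, one_smul],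
      smul_mul_smul_comm, mul_one, smul_eq_zero] at hq
    rcases hq with hq | hq
    · rw [show (∏ j, c j) = 1 from sub_eq_zero.1 (mul_self_eq_zero.1 hq), one_smul, sub_self]
    · exact absurd hq one_ne_zero
  have hsplit : pureM g = ins j (pureM fun l : Rest j => g l) (g j) := by
    rw [ins_pureM]
    congr 1
    funext l
    by_cases hl : l = j
    · subst hl; rw [Function.update_self]
    · rw [Function.update_of_ne hl, extend, dif_neg hl]
  have hgp : ∀ l, ∃ c : F, (g ^ p) l = c • 1 := by
    have : pureM (g ^ p) * permM F m (1 : Equiv.Perm τ) = 1 := by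
      rw [permM_one, mul_one, pureM_pow, hkp]
    exact (eq_one_of_pure_perm hm this).2
  obtain ⟨c, hc⟩ := hgp j
  rw [Pi.pow_apply] at hc
  obtain ⟨d, hd⟩ : ∃ d : F, d ^ p = c := by
    haveI : PerfectRing F p := inferInstance
    obtain ⟨d, hd⟩ := (bijective_frobenius F p).2 c
    exact ⟨d, by rw [← hd, frobenius_def]⟩
  have hdne : d ≠ 0 := fun h0 => by
    rw [h0, zero_pow hp.ne_zero] at hd
    rw [← hd, zero_smul] at hc
    have hdet := congrArg Matrix.det hkp
    rw [Matrix.det_pow, Matrix.det_one] at hdet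
    have := det_ne_zero_of_pureM (g := g) (fun hz => by rw [hz, zero_pow hp.ne_zero] at hdet; exact zero_ne_one hdet) j
    refine this ?_
    haveI : Nonempty (Fin m) := ⟨0⟩
    have := congrArg Matrix.det hc
    rw [Matrix.det_pow, Matrix.det_zero] at this
    exact eq_zero_of_pow_eq_zero this
  set b := d⁻¹ • g j with hb
  set A := d • pureM fun l : Rest j => g l with hA
  have hk : pureM g = ins j A b := by
    rw [hsplit, hb, hA, ins_smul_left, ins_smul_right, smul_smul, mul_inv_cancel₀ hdne, one_smul]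
  have hbp : b ^ p = 1 := by
    rw [hb, smul_pow, hc, smul_smul, ← hd, inv_pow, inv_mul_cancel₀ (pow_ne_zero p hdne), one_smul]
  have hAp : A ^ p = 1 := by
    have hins : ∀ k : ℕ, ins j A b ^ k = ins j (A ^ k) (b ^ k) := fun k => by
      induction k with
      | zero => rw [pow_zero, pow_zero, pow_zero, ins_one_one]
      | succ k IH => rw [pow_succ, pow_succ, pow_succ, IH, ins_mul]
    have := hins p
    rw [← hk, hkp, hbp] at this
    exact (ins_one_injective j (show ins j 1 1 = ins j (A ^ p) 1 by rw [ins_one_one]; exact this)).symm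
  haveI : Nonempty (Fin m) := ⟨0⟩
  haveI : Nonempty (Ix (Rest j) m) := ⟨fun _ => 0⟩
  have hNp : (b - 1) ^ p = 0 := by
    rw [sub_pow_char_of_commute _ (Commute.one_right b), hbp, one_pow, sub_self]
  have hA1p : (A - 1) ^ p = 0 := by
    rw [sub_pow_char_of_commute _ (Commute.one_right A), hAp, one_pow, sub_self]
  have hN0 : b - 1 ≠ 0 := fun h0 => hj d (by
    have : b = 1 := sub_eq_zero.1 h0
    rw [← this, hb, smul_smul, mul_inv_cancel₀ hdne, one_smul])
  by_cases hA0 : A = 1
  · rw [hA0, ← embM_eq_ins] at hk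
    have hX : pureM g - 1 = embM j (b - 1) := by rw [hk, embM_sub, embM_one]
    have h1 := le_rank_embM j (b - 1)
    have h2 := hr j
    rw [hX] at h2 hq
    have hle : (b - 1).rank ≤ 1 :=
      Nat.le_of_mul_le_mul_left (by rw [mul_one]; exact h1.trans h2) Fintype.card_pos
    obtain ⟨u, v, huv⟩ := exists_vecMulVec_of_rank_le_one hle
    have hu : u ≠ 0 := fun h0 => hN0 (by rw [huv, h0, Matrix.zero_vecMulVec])
    have hv : v ≠ 0 := fun h0 => hN0 (by rw [huv, h0, Matrix.vecMulVec_zero])
    refine ⟨j, u, v, hu, hv, ?_, by rw [hX, huv]⟩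
    rw [embM_mul, ← embM_zero (F := F) j] at hq
    have := embM_injective j hq
    rw [huv, Matrix.vecMulVec_mul_vecMulVec] at this
    rcases Matrix.vecMulVec_eq_zero.1 this with h | h
    · exact absurd h hu
    · exact (smul_eq_zero.1 h).resolve_right hv
  exfalso
  have hA10 : A - 1 ≠ 0 := sub_ne_zero.2 hA0
  rw [hk] at hq
  by_cases h2 : (2 : F) = 0
  · have p2 : p = 2 := by
      haveI := hcp
      have : ((2 : ℕ) : F) = 0 := by exact_mod_cast h2
      exact (Nat.prime_dvd_prime_iff_eq hp Nat.prime_two).1 ((CharP.cast_eq_zero_iff F p 2).1 this)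
    rw [p2, pow_two] at hNp hA1p
    have a1 := two_mul_rank_le hA1p
    have c1 := two_mul_rank_le hNp
    rw [Fintype.card_fin] at c1
    have h4 := hr j
    rw [hk] at h4
    have h3 := le_trans (le_rank_ins_sub_one (i := j) (A := A) (b := b)) h4
    have a2 := rank_pos hA10
    have c2 := rank_pos hN0
    set r := Fintype.card (Ix (Rest j) m)
    set a := (A - 1).rank
    set c := (b - 1).rank
    obtain ⟨r', hr'⟩ : ∃ r', r = a + r' := ⟨r - a, by omega⟩
    obtain ⟨m', hm'⟩ : ∃ m', m = c + m' := ⟨m - c, by omega⟩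
    rw [hr', Nat.add_sub_cancel_left, show m - c = m' by omega] at h3
    rcases Nat.lt_or_ge c 2 with hc2 | hc2
    · have : c = 1 := by omega
      rw [this] at h3 hm'
      have : 2 ≤ m' := by omega
      nlinarith
    · have : c ≤ m' := by omega
      have : a ≤ r' := by omega
      nlinarith
  · obtain ⟨s, s1, s2⟩ := exists_max_pow hA10 hA1p
    obtain ⟨u, u1, u2⟩ := exists_max_pow hN0 hNp
    have cA : Commute A (A - 1) := (Commute.refl A).sub_right (Commute.one_right A)
    have hX : ins j A b - 1 = ins j (A - 1) 1 + ins j A (b - 1) := by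
      rw [ins_sub_left, ins_sub_right, ins_one_one]; abel
    rw [hX] at hq
    have := congrArg (· * ins j ((A - 1) ^ s) ((b - 1) ^ u)) hq
    simp only [add_mul, mul_add, ins_mul, zero_mul, one_mul, mul_one] at this
    have eA : (A - 1) * A * (A - 1) ^ s = (A - 1) ^ (s + 1) := by
      have hA' : A = 1 + (A - 1) := (add_sub_cancel _ _).symm
      conv_lhs => arg 1; arg 2; rw [hA']
      rw [mul_add, mul_one, add_mul, ← pow_succ', mul_assoc, ← pow_succ', ← pow_succ', s2, add_zero]
    have eA2 : A * (A - 1) * (A - 1) ^ s = (A - 1) ^ (s + 1) := by rw [cA.eq, eA]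
    have z : ∀ B : Matrix (Ix (Rest j) m) (Ix (Rest j) m) F, ins j B (0 : Matrix (Fin m) (Fin m) F) = 0 := fun B => by
      ext x y; simp [ins_apply]
    have z' : ∀ B : Matrix (Fin m) (Fin m) F, ins j (0 : Matrix (Ix (Rest j) m) (Ix (Rest j) m) F) B = 0 := fun B => by
      ext x y; simp [ins_apply]
    rw [mul_assoc (A - 1) (A - 1), ← pow_succ', ← pow_succ', s2, z', eA, eA2, mul_assoc (b - 1) (b - 1),
      ← pow_succ', ← pow_succ', u2, z, zero_add, add_zero, ← two_smul F, smul_eq_zero] at this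
    rcases this.resolve_left h2 |> ins_eq_zero with h | h
    · exact s1 h
    · exact u1 h

end CfsgLib.Classical.TensorWreath
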