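import Cfsg.Agent.Lib.Classical.TensorWreath.Basic
import Cfsg.Agent.Lib.Classical.TensorMax.Basic

set_option autoImplicit false
set_option linter.unusedSectionVars false

/-!
Rank bounds for tensor products.
-/

namespace CfsgLib.Classical.TensorWreath

open Matrix
open scoped MatrixGroups Kronecker

variable {F : Type*} [Field F] {τ : Type} [Fintype τ] [DecidableEq τ] {m : ℕ}
variable {ι κ : Type} [Fintype ι] [DecidableEq ι] [Fintype κ] [DecidableEq κ]

theorem le_rank_of_sandwich {L : Matrix κ ι F} {X : Matrix ι ι F} {R : Matrix ι κ F} (h : L * X * R = 1) :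
    Fintype.card κ ≤ X.rank := by
  calc Fintype.card κ = (1 : Matrix κ κ F).rank := Matrix.rank_one.symm
    _ = (L * X * R).rank := by rw [h]
    _ ≤ (L * X).rank := Matrix.rank_mul_le_left _ _
    _ ≤ X.rank := Matrix.rank_mul_le_right _ _

theorem exists_sandwich (X : Matrix ι κ F) :
    ∃ (L : Matrix (Fin X.rank) ι F) (R : Matrix κ (Fin X.rank) F), L * X * R = 1 := by
  let b : Module.Basis (Fin X.rank) F (LinearMap.range X.mulVecLin) :=
    Module.finBasisOfFinrankEq F (LinearMap.range X.mulVecLin) rfl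
  choose v hv using fun i => (b i).2
  let E : (Fin X.rank → F) →ₗ[F] (ι → F) :=
    (LinearMap.range X.mulVecLin).subtype.comp b.equivFun.symm.toLinearMap
  have hE : LinearMap.ker E = ⊥ := LinearMap.ker_eq_bot.2
    (Subtype.val_injective.comp b.equivFun.symm.injective)
  obtain ⟨g, hg⟩ := E.exists_leftInverse_of_injective hE
  refine ⟨LinearMap.toMatrix' g, Matrix.of fun k i => v i k, Matrix.ext_of_mulVec_single fun i => ?_⟩
  rw [← Matrix.mulVec_mulVec, ← Matrix.mulVec_mulVec, Matrix.one_mulVec, Matrix.mulVec_single_one]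
  have : X *ᵥ (Matrix.of fun k i => v i k).col i = E (Pi.single i 1) := by
    refine Eq.trans (hv i) ?_
    simp [E, b.equivFun_symm_apply, Pi.single_apply]
  rw [this, LinearMap.toMatrix'_mulVec]
  exact LinearMap.congr_fun hg _

theorem rank_mul_rank_le (A : Matrix ι ι F) (B : Matrix κ κ F) : A.rank * B.rank ≤ (A ⊗ₖ B).rank := by
  obtain ⟨L, R, h⟩ := exists_sandwich A
  obtain ⟨L', R', h'⟩ := exists_sandwich B
  have := le_rank_of_sandwich (L := L ⊗ₖ L') (X := A ⊗ₖ B) (R := R ⊗ₖ R')
    (by rw [← Matrix.mul_kronecker_mul, ← Matrix.mul_kronecker_mul, h, h', Matrix.one_kronecker_one])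
  simpa using this

theorem rank_mul_rank_le_ins (i : τ) (A : Matrix (Ix (Rest i) m) (Ix (Rest i) m) F)
    (b : Matrix (Fin m) (Fin m) F) : A.rank * b.rank ≤ (ins i A b).rank := by
  rw [ins, Matrix.rank_submatrix]
  exact rank_mul_rank_le A b

theorem le_rank_embM (i : τ) (b : Matrix (Fin m) (Fin m) F) :
    Fintype.card (Ix (Rest i) m) * b.rank ≤ (embM i b).rank := by
  rw [embM_eq_ins]
  refine le_trans ?_ (rank_mul_rank_le_ins i _ b)
  rw [Matrix.rank_one]

theorem rank_ins_vecMulVec_le (i : τ) (A : Matrix (Ix (Rest i) m) (Ix (Rest i) m) F) (u v : Fin m → F) :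
    (ins i A (Matrix.vecMulVec u v)).rank ≤ A.rank := by
  rw [ins, Matrix.rank_submatrix, ← TensorMax.kc_mul_mul_kr]
  exact (Matrix.rank_mul_le_left _ _).trans (Matrix.rank_mul_le_right _ _)

theorem rank_embM_vecMulVec_le (i : τ) (u v : Fin m → F) :
    (embM i (Matrix.vecMulVec u v)).rank ≤ Fintype.card (Ix (Rest i) m) := by
  rw [embM_eq_ins]
  exact (rank_ins_vecMulVec_le i _ u v).trans (Matrix.rank_le_card_width _)

theorem exists_vecMulVec_of_rank_le_one {n : Matrix ι ι F} (h : n.rank ≤ 1) :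
    ∃ u v : ι → F, n = Matrix.vecMulVec u v := by
  obtain ⟨u, hu⟩ := (finrank_le_one_iff (K := F) (V := LinearMap.range n.mulVecLin)).1 h
  choose c hc using fun y => hu ⟨n *ᵥ Pi.single y 1, LinearMap.mem_range_self n.mulVecLin _⟩
  refine ⟨u.1, c, Matrix.ext fun x y => ?_⟩
  have := congrFun (congrArg Subtype.val (hc y)) x
  simp only [Submodule.coe_smul, Pi.smul_apply, Matrix.mulVec_single_one, Matrix.col_apply, smul_eq_mul] at this
  rw [Matrix.vecMulVec_apply, ← this, mul_comm]

/-- The ranks add when a left factor kills the image of a right factor. -/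
theorem rank_add_rank_le {X Q L : Matrix ι ι F} (h : L * X * Q = 0) :
    (X * Q).rank + (L * X).rank ≤ X.rank := by
  set W := LinearMap.range X.mulVecLin
  have h1 : LinearMap.range (X * Q).mulVecLin ≤ W ⊓ LinearMap.ker L.mulVecLin := by
    rintro _ ⟨v, rfl⟩
    refine ⟨⟨Q *ᵥ v, ?_⟩, ?_⟩
    · simp [Matrix.mulVec_mulVec]
    · show L *ᵥ ((X * Q) *ᵥ v) = 0
      rw [Matrix.mulVec_mulVec, ← mul_assoc, h, Matrix.zero_mulVec]
  have h2 := LinearMap.finrank_range_add_finrank_ker (L.mulVecLin.domRestrict W)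
  rw [LinearMap.range_domRestrict, ← LinearMap.range_comp, ← Matrix.mulVecLin_mul] at h2
  have h3 : Module.finrank F (LinearMap.range (X * Q).mulVecLin) ≤
      Module.finrank F (LinearMap.ker (L.mulVecLin.domRestrict W)) := by
    refine le_trans (Submodule.finrank_mono h1) ?_
    rw [← Submodule.finrank_map_subtype_eq W (LinearMap.ker (L.mulVecLin.domRestrict W))]
    refine Submodule.finrank_mono fun x hx => ?_
    exact ⟨⟨x, hx.1⟩, hx.2, rfl⟩
  show Module.finrank F _ + Module.finrank F _ ≤ Module.finrank F W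
  omega

end CfsgLib.Classical.TensorWreath
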