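import Cfsg.Agent.Lib.Classical.TensorWreath.Top
import Cfsg.Agent.Lib.Classical.TensorWreath.Rank

set_option autoImplicit false
set_option linter.unusedSectionVars false

/-!
Conjugate intermediate groups, monomial conjugators, and normal forms of rank one nilpotents.
-/

namespace CfsgLib.Classical.TensorWreath

open Matrix
open scoped MatrixGroups Kronecker

variable {F : Type*} [Field F] {τ : Type} [Fintype τ] [DecidableEq τ] {m : ℕ}
variable {M M' M'' : Subgroup (GL (Ix τ m) F)}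

/-- `g` conjugates `M` onto `M'`. -/
def Rel (M M' : Subgroup (GL (Ix τ m) F)) (g : GL (Ix τ m) F) : Prop :=
  ∀ x, x ∈ M ↔ g * x * g⁻¹ ∈ M'

theorem Rel.refl {g : GL (Ix τ m) F} (hg : g ∈ M) : Rel M M g := fun x =>
  ⟨fun h => M.mul_mem (M.mul_mem hg h) (M.inv_mem hg), fun h => by
    simpa [mul_assoc] using M.mul_mem (M.mul_mem (M.inv_mem hg) h) hg⟩

theorem Rel.trans {g h : GL (Ix τ m) F} (h1 : Rel M M' g) (h2 : Rel M' M'' h) : Rel M M'' (h * g) := fun x => by
  rw [h1 x, h2]
  simp [mul_assoc]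

theorem Rel.symm {g : GL (Ix τ m) F} (h : Rel M M' g) : Rel M' M g⁻¹ := fun x => by
  rw [h]
  simp [mul_assoc]

theorem Rel.inM {g : GL (Ix τ m) F} (h : Rel M M' g) {X : Matrix (Ix τ m) (Ix τ m) F} (hX : InM M (1 + X)) :
    InM M' (1 + g.1 * X * (g⁻¹).1) := by
  obtain ⟨x, hx, hx'⟩ := hX
  refine ⟨g * x * g⁻¹, (h x).1 hx, ?_⟩
  rw [Units.val_mul, Units.val_mul, hx', mul_add, mul_one, add_mul, g.mul_inv]

theorem rel_map (M : Subgroup (GL (Ix τ m) F)) (u : GL (Ix τ m) F) :
    Rel M (M.map (MulAut.conj u).toMonoidHom) u := fun _ =>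
  (Subgroup.mem_map_iff_mem (MulAut.conj u).injective).symm

theorem det_conj (u x : GL (Ix τ m) F) : (u * x * u⁻¹).1.det = x.1.det := by
  rw [Units.val_mul, Units.val_mul, Matrix.det_mul, Matrix.det_mul, mul_comm u.1.det, mul_assoc, ← Matrix.det_mul,
    u.mul_inv, Matrix.det_one, mul_one]

theorem mono_inv [NeZero m] {g : GL (Ix τ m) F} (h : Mono g.1) : Mono (g⁻¹).1 := h.inv g.mul_inv

theorem Hyp.of_rel [NeZero m] (H : Hyp M) {u : GL (Ix τ m) F} (hu : Mono u.1) (h : Rel M M' u) : Hyp M' where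
  det_one g hg := by
    have hx : g = u * (u⁻¹ * g * u) * u⁻¹ := by simp [mul_assoc]
    have := H.det_one (u⁻¹ * g * u) ((h _).2 (by rwa [← hx]))
    rw [hx, det_conj, this]
  mono g hd hg := by
    have hx : g = u * (u⁻¹ * g * u) * u⁻¹ := by simp [mul_assoc]
    rw [hx]
    refine (h _).1 (H.mono _ ?_ ?_)
    · have := det_conj u⁻¹ g
      rw [inv_inv] at this
      rw [this, hd]
    · rw [Units.val_mul, Units.val_mul]
      exact ((mono_inv hu).mul hg).mul hu

theorem Top.of_rel {u : GL (Ix τ m) F} (h : Rel M M' u) (ht : Top M') : Top M := fun g hg =>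
  (h g).2 (ht _ (by rw [det_conj, hg]))

/-- The element `1 + embM i n`. -/
theorem Hyp.inM_root (H : Hyp M) (i : τ) {n : Matrix (Fin m) (Fin m) F} (hn : (1 + n).det = 1) :
    InM M (1 + embM i n) := by
  rw [← embM_one (F := F) (m := m) i, ← embM_add]
  exact H.inM (by rw [det_embM, hn, one_pow]) (mono_pure _)

theorem Hyp.inM_e (H : Hyp M) (i : τ) {a b : Fin m} (hab : a ≠ b) : InM M (1 + embM i (e a b)) :=
  H.inM_root i (det_one_add_single hab)

/-- The unit `embM i h`. -/
noncomputable def embU (i : τ) (h : Matrix (Fin m) (Fin m) F) (hd : h.det = 1) : GL (Ix τ m) F :=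
  glOf (embM i h) (by rw [det_embM, hd, one_pow])

theorem embU_val (i : τ) (h : Matrix (Fin m) (Fin m) F) (hd : h.det = 1) : (embU i h hd).1 = embM i h := rfl

theorem embU_inv (i : τ) {h h' : Matrix (Fin m) (Fin m) F} (hd : h.det = 1) (hh : h * h' = 1) :
    ((embU i h hd)⁻¹).1 = embM i h' :=
  Units.inv_eq_of_mul_eq_one_right (by rw [embU_val, embM_mul, hh, embM_one])

theorem mono_embU (i : τ) (h : Matrix (Fin m) (Fin m) F) (hd : h.det = 1) : Mono (embU i h hd).1 := mono_pure _

theorem Hyp.embU_mem (H : Hyp M) (i : τ) (h : Matrix (Fin m) (Fin m) F) (hd : h.det = 1) : embU i h hd ∈ M :=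
  H.mono _ (by rw [embU_val, det_embM, hd, one_pow]) (mono_embU i h hd)

/-- The unit of a permutation of the factors. -/
def permU (F : Type*) [Field F] (m : ℕ) (σ : Equiv.Perm τ) : GL (Ix τ m) F :=
  ⟨permM F m σ, permM F m σ⁻¹, permM_mul_inv σ, permM_inv_mul σ⟩

theorem permU_val (σ : Equiv.Perm τ) : (permU F m σ).1 = permM F m σ := rfl

theorem permU_conj_embM (σ : Equiv.Perm τ) (i : τ) (b : Matrix (Fin m) (Fin m) F) :
    (permU F m σ).1 * embM i b * ((permU F m σ)⁻¹).1 = embM (σ i) b := by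
  rw [permU_val, permM_conj_embM, mul_assoc]
  show embM (σ i) b * (permM F m σ * permM F m σ⁻¹) = _
  rw [permM_mul_inv, mul_one]

/-- A rank one nilpotent is conjugate to a unit matrix. -/
theorem exists_conj_rankone (hm : 3 ≤ m) {u v : Fin m → F} (hu : u ≠ 0) (hv : v ≠ 0) (h0 : v ⬝ᵥ u = 0)
    {a b : Fin m} (hab : a ≠ b) :
    ∃ h h' : Matrix (Fin m) (Fin m) F, h.det = 1 ∧ h * h' = 1 ∧ h * Matrix.vecMulVec u v * h' = e a b := by
  obtain ⟨x, hx⟩ := Function.ne_iff.1 hu
  rw [Pi.zero_apply] at hx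
  set w : Fin m → F := Pi.single x 1 - (u x)⁻¹ • u with hw
  have hwx : w x = 0 := by simp [hw, hx]
  have hn1 : Matrix.vecMulVec w (Pi.single x (1 : F)) * Matrix.vecMulVec w (Pi.single x (1 : F)) = 0 := by
    rw [Matrix.vecMulVec_mul_vecMulVec, single_dotProduct, hwx, mul_zero]; simp
  set h1 : Matrix (Fin m) (Fin m) F := 1 + Matrix.vecMulVec w (Pi.single x (1 : F))
  set h1' : Matrix (Fin m) (Fin m) F := 1 - Matrix.vecMulVec w (Pi.single x (1 : F))
  have d1 : h1.det = 1 := by
    rw [TensorMax.det_one_add_vecMulVec, single_dotProduct, hwx, mul_zero, add_zero]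
  have i1 : h1 * h1' = 1 := by
    simp only [h1, h1', mul_sub, mul_one, add_mul, one_mul, hn1, add_zero, add_sub_cancel_right]
  have hu1 : h1 *ᵥ u = u x • Pi.single x 1 := by
    simp only [h1, TensorMax.one_add_vecMulVec_mulVec, single_dotProduct, one_mul, hw, smul_sub, smul_smul,
      mul_inv_cancel₀ hx, one_smul, add_sub_cancel]
  set v1 := v ᵥ* h1' with hv1def
  have hv1 : v1 x = 0 := by
    have : v1 ⬝ᵥ (h1 *ᵥ u) = 0 := by
      rw [hv1def, ← Matrix.dotProduct_mulVec, Matrix.mulVec_mulVec, mul_eq_one_comm.1 i1, Matrix.one_mulVec, h0]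
    rw [hu1, dotProduct_smul, dotProduct_single, mul_one, smul_eq_mul] at this
    exact (mul_eq_zero.1 this).resolve_left hx
  obtain ⟨y, hy⟩ : ∃ y, v1 y ≠ 0 := by
    by_contra hall
    push Not at hall
    refine hv ?_
    have : v1 ᵥ* h1 = v := by rw [hv1def, Matrix.vecMul_vecMul, mul_eq_one_comm.1 i1, Matrix.vecMul_one]
    rw [← this, show v1 = 0 from funext hall, Matrix.zero_vecMul]
  have hxy : x ≠ y := fun e => hy (e ▸ hv1)
  set η : Fin m → F := (v1 y)⁻¹ • v1 - Pi.single y 1 with hη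
  have hηy : η y = 0 := by simp [hη, hy]
  have hηx : η x = 0 := by simp [hη, hv1, hxy]
  have hn2 : Matrix.vecMulVec (Pi.single y (1 : F)) η * Matrix.vecMulVec (Pi.single y (1 : F)) η = 0 := by
    rw [Matrix.vecMulVec_mul_vecMulVec, dotProduct_single, hηy, zero_mul]; simp
  set h2 : Matrix (Fin m) (Fin m) F := 1 + Matrix.vecMulVec (Pi.single y (1 : F)) η
  set h2' : Matrix (Fin m) (Fin m) F := 1 - Matrix.vecMulVec (Pi.single y (1 : F)) η
  have d2 : h2.det = 1 := by
    rw [TensorMax.det_one_add_vecMulVec, dotProduct_single, hηy, zero_mul, add_zero]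
  have i2 : h2 * h2' = 1 := by
    simp only [h2, h2', mul_sub, mul_one, add_mul, one_mul, hn2, add_zero, add_sub_cancel_right]
  have hu2 : h2 *ᵥ (u x • Pi.single x 1) = u x • Pi.single x 1 := by
    simp [h2, TensorMax.one_add_vecMulVec_mulVec, dotProduct_single, hηx]
  have hv2 : v1 ᵥ* h2' = v1 y • Pi.single y 1 := by
    simp only [h2', Matrix.vecMul_sub, Matrix.vecMul_one, Matrix.vecMul_vecMulVec, dotProduct_single, mul_one, hη,
      smul_sub, smul_smul, mul_inv_cancel₀ hy, one_smul, sub_sub_cancel]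
  obtain ⟨h3, h3', d3, i3, e3⟩ := exists_conj_single (a := x) (b := y) hm hxy hab
    (c := (u x * v1 y)⁻¹) (inv_ne_zero (mul_ne_zero hx hy))
  refine ⟨h3 * h2 * h1, h1' * h2' * h3', by rw [Matrix.det_mul, Matrix.det_mul, d1, d2, d3, one_mul, one_mul], ?_, ?_⟩
  · calc h3 * h2 * h1 * (h1' * h2' * h3') = h3 * h2 * (h1 * h1') * (h2' * h3') := by simp only [mul_assoc]
      _ = h3 * (h2 * h2') * h3' := by rw [i1]; simp only [mul_one, mul_assoc]
      _ = 1 := by rw [i2, mul_one, i3]
  · have : h2 * h1 * Matrix.vecMulVec u v * (h1' * h2') =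
        (u x * v1 y) • (e x y : Matrix (Fin m) (Fin m) F) := by
      rw [Matrix.mul_vecMulVec, Matrix.vecMulVec_mul, ← Matrix.mulVec_mulVec, ← Matrix.vecMul_vecMul, hu1, hu2,
        ← hv1def, hv2, Matrix.smul_vecMulVec, Matrix.vecMulVec_smul, smul_smul,
        ← Matrix.single_eq_single_vecMulVec_single]
    calc h3 * h2 * h1 * Matrix.vecMulVec u v * (h1' * h2' * h3')
        = h3 * (h2 * h1 * Matrix.vecMulVec u v * (h1' * h2')) * h3' := by simp only [mul_assoc]
      _ = e a b := by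
        rw [this, mul_smul_comm, smul_mul_assoc, e3, smul_smul, mul_inv_cancel₀ (mul_ne_zero hx hy), one_smul]

/-- `X a b` moved to the diagonal blocks. -/
def blk (i : τ) (a b : Fin m) (X : Matrix (Ix τ m) (Ix τ m) F) : Matrix (Ix τ m) (Ix τ m) F :=
  ∑ x, embM i (e x a) * X * embM i (e b x)

theorem cen_blk (i : τ) (a b : Fin m) (X : Matrix (Ix τ m) (Ix τ m) F) : Cen i (blk i a b X) :=
  cen_of_units fun u v => by
    rw [blk, Finset.mul_sum, Finset.sum_mul, Finset.sum_eq_single v, Finset.sum_eq_single u]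
    · rw [← mul_assoc, ← mul_assoc, embM_e_mul, mul_assoc _ _ (embM i (e u v)), embM_e_mul]
    · intro x _ hx
      rw [mul_assoc _ _ (embM i (e u v)), embM_e_mul_ne i hx, mul_zero]
    · simp
    · intro x _ hx
      rw [← mul_assoc, ← mul_assoc, embM_e_mul_ne i (Ne.symm hx), zero_mul, zero_mul]
    · simp

theorem e_mul_blk (i : τ) (u v a b : Fin m) (X : Matrix (Ix τ m) (Ix τ m) F) :
    embM i (e u v) * blk i a b X = embM i (e u a) * X * embM i (e b v) := by
  rw [blk, Finset.mul_sum, Finset.sum_eq_single v, ← mul_assoc, ← mul_assoc, embM_e_mul]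
  · intro x _ hx
    rw [← mul_assoc, ← mul_assoc, embM_e_mul_ne i (Ne.symm hx), zero_mul, zero_mul]
  · simp

namespace Hyp

/-- In a proper intermediate group a block element comes from the factor. -/
theorem exists_of_block (H : Hyp M) (hm : 3 ≤ m) (hTop : ¬ Top M) {i : τ} {P : Finset (Fin m)}
    {N : Matrix (Ix τ m) (Ix τ m) F} (hl : ∀ q ∉ P, embM i (e q q) * N = 0)
    (hr : ∀ p ∈ P, N * embM i (e p p) = 0) (h : InM M (1 + N)) : ∃ n, N = embM i n := by
  haveI : NeZero m := ⟨by omega⟩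
  have hl' : ∀ x, ∀ q ∉ P, embM i (e x q) * N = 0 := fun x q hq => by
    rw [← embM_e_mul i x q q, mul_assoc, hl q hq, mul_zero]
  have hr' : ∀ x, ∀ p ∈ P, N * embM i (e p x) = 0 := fun x p hp => by
    rw [← embM_e_mul i p p x, ← mul_assoc, hr p hp, zero_mul]
  have hd : ∀ a b : Fin m, a ≠ b →
      (1 + embM i (e a b) : Matrix (Ix τ m) (Ix τ m) F).det = 1 ∧
      Mono (1 + embM i (e a b) : Matrix (Ix τ m) (Ix τ m) F) ∧
      (1 + embM i (e a b)) * (1 - embM i (e a b)) = (1 : Matrix (Ix τ m) (Ix τ m) F) := fun a b hab => by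
    have hQ : (1 + embM i (e a b) : Matrix (Ix τ m) (Ix τ m) F) = embM i (1 + e a b) := by rw [embM_add, embM_one]
    refine ⟨by rw [hQ, det_embM, det_one_add_single hab, one_pow], hQ ▸ mono_pure _, ?_⟩
    rw [mul_sub, mul_one, add_mul, one_mul, embM_e_mul_ne i hab.symm, add_zero, add_sub_cancel_right]
  have hNN : ∀ X : Matrix (Ix τ m) (Ix τ m) F, (∀ p ∈ P, X * embM i (e p p) = 0) →
      (∀ q ∉ P, embM i (e q q) * N = 0) → X * N = 0 := fun X hX _ => by
    rw [← mul_one X, ← sum_e_diag i, Finset.mul_sum, Finset.sum_mul]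
    refine Finset.sum_eq_zero fun x _ => ?_
    by_cases hx : x ∈ P
    · rw [hX x hx, zero_mul]
    · rw [mul_assoc, hl x hx, mul_zero]
  have N2 : N * N = 0 := hNN N hr hl
  have piece : ∀ p ∈ P, ∀ q ∉ P, ∃ c : F, embM i (e p p) * N * embM i (e q q) = c • embM i (e p q) := by
    intro p hp q hq
    obtain ⟨q', hq', N1, hN1, hN1r, hN1l⟩ : ∃ q' ∉ P, ∃ N1, InM M (1 + N1) ∧ N1 = N * embM i (e q q') ∧
        (∀ x ∉ P, embM i (e x x) * N1 = 0) := by
      by_cases hex : ∃ q' ∉ P, q' ≠ q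
      · obtain ⟨q', hq', hne⟩ := hex
        obtain ⟨d1, d2, d3⟩ := hd q q' hne.symm
        have h2 := H.conj h d1 d2 d3
        set E := (embM i (e q q') : Matrix (Ix τ m) (Ix τ m) F) with hE
        have eEN : E * N = 0 := hl' q q' hq'
        have e1 : (1 + E) * N * (1 - E) = N - N * E := by
          rw [add_mul, one_mul, eEN, add_zero, mul_sub, mul_one]
        rw [e1] at h2
        have eNEN : N * E * N = 0 := by rw [mul_assoc, eEN, mul_zero]
        have h3 := h2.mul (h.neg N2)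
        have e2 : (1 + (N - N * E)) * (1 - N) = 1 - N * E := by
          simp only [mul_sub, mul_one, add_mul, one_mul, sub_mul, N2, eNEN, sub_zero, add_zero]
          abel
        rw [e2] at h3
        have h4 := h3.of_mul_eq_one (Y := 1 + N * E) (by
          rw [mul_add, mul_one, sub_mul, one_mul, mul_assoc N E (N * E), ← mul_assoc E, eEN, zero_mul, mul_zero]
          abel)
        exact ⟨q', hq', _, h4, rfl, fun x hx => by rw [← mul_assoc, hl x hx, zero_mul]⟩
      · push Not at hex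
        refine ⟨q, hq, N, h, ?_, hl⟩
        conv_lhs => rw [← mul_one N, ← sum_e_diag i, Finset.mul_sum]
        refine Finset.sum_eq_single q (fun x _ hx => ?_) (by simp)
        exact hr x (by by_contra hxP; exact hx (hex x hxP))
    obtain ⟨p', hp', hN2⟩ : ∃ p' ∈ P, InM M (1 + embM i (e p' p) * N1) := by
      by_cases hex : ∃ p' ∈ P, p' ≠ p
      · obtain ⟨p', hp', hne⟩ := hex
        obtain ⟨d1, d2, d3⟩ := hd p' p hne
        have h2 := H.conj hN1 d1 d2 d3
        set E := (embM i (e p' p) : Matrix (Ix τ m) (Ix τ m) F) with hE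
        have eNE : N1 * E = 0 := by
          rw [hN1r, mul_assoc, embM_e_mul_ne i (show q' ≠ p' from fun e => hq' (e ▸ hp')), mul_zero]
        have e1 : (1 + E) * N1 * (1 - E) = N1 + E * N1 := by
          rw [mul_assoc, mul_sub, mul_one, eNE, sub_zero, add_mul, one_mul]
        rw [e1] at h2
        have hNN1 : N1 * N1 = 0 := by
          rw [hN1r, mul_assoc, ← mul_assoc (embM i (e q q')), hl' q q' hq', zero_mul, mul_zero]
        have hENN : E * N1 * N1 = 0 := by rw [mul_assoc, hNN1, mul_zero]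
        have h3 := h2.mul (hN1.neg hNN1)
        refine ⟨p', hp', ?_⟩
        convert h3 using 1
        simp only [mul_sub, mul_one, add_mul, one_mul, hNN1, hENN]
        abel
      · push Not at hex
        refine ⟨p, hp, ?_⟩
        have : embM i (e p p) * N1 = N1 := by
          conv_rhs => rw [← one_mul N1, ← sum_e_diag i, Finset.sum_mul]
          exact (Finset.sum_eq_single p (fun x _ hx => hN1l x fun hxP => hx (hex x hxP)) (by simp)).symm
        rwa [this]
    have hne : p' ≠ q' := fun e => hq' (e ▸ hp')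
    rw [hN1r, ← mul_assoc, ← e_mul_blk] at hN2
    obtain ⟨c, hc⟩ := H.eq_smul_one hm hTop hne (cen_blk i p q N) hN2
    refine ⟨c, ?_⟩
    rw [← e_mul_blk, hc, mul_smul_comm, mul_one]
  choose c hc using piece
  refine ⟨∑ x, ∑ y, if hx : x ∈ P then (if hy : y ∈ P then 0 else c x hx y hy • e x y) else 0, ?_⟩
  conv_lhs => rw [← one_mul N, ← mul_one (1 * N), ← sum_e_diag i, Finset.sum_mul, Finset.sum_mul]
  rw [embM_sum]
  refine Finset.sum_congr rfl fun x _ => ?_
  rw [Finset.mul_sum, embM_sum]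
  refine Finset.sum_congr rfl fun y _ => ?_
  by_cases hx : x ∈ P
  · by_cases hy : y ∈ P
    · rw [dif_pos hx, dif_pos hy, embM_zero, mul_assoc, hr y hy, mul_zero]
    · rw [dif_pos hx, dif_neg hy, embM_smul, hc x hx y hy]
  · rw [dif_neg hx, embM_zero, hl x hx, zero_mul]

end Hyp

end CfsgLib.Classical.TensorWreath
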