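import Cfsg.Agent.Lib.Classical.TensorWreath.Rel

set_option autoImplicit false
set_option linter.unusedSectionVars false

/-!
A conjugator sending a root of a factor to a root of the same factor splits at that factor.
-/

namespace CfsgLib.Classical.TensorWreath

open Matrix
open scoped MatrixGroups Kronecker

variable {F : Type*} [Field F] {τ : Type} [Fintype τ] [DecidableEq τ] {m : ℕ}
variable {M M' : Subgroup (GL (Ix τ m) F)} {g : GL (Ix τ m) F} {i : τ}

theorem embM_injective [NeZero m] (i : τ) {b c : Matrix (Fin m) (Fin m) F} (h : embM i b = embM i c) : b = c := by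
  ext x y
  have := congrFun₂ h (Function.update 0 i x) (Function.update 0 i y)
  rwa [embM_apply, embM_apply, if_pos (fun j hj => by simp [hj]), if_pos (fun j hj => by simp [hj]),
    Function.update_self, Function.update_self] at this

/-- A root of the factor `i`. -/
def RootAt (i : τ) (X : Matrix (Ix τ m) (Ix τ m) F) : Prop :=
  ∃ u v : Fin m → F, u ≠ 0 ∧ v ≠ 0 ∧ v ⬝ᵥ u = 0 ∧ X = embM i (Matrix.vecMulVec u v)

theorem rootAt_e (i : τ) {a b : Fin m} (h : a ≠ b) : RootAt i (embM i (e a b) : Matrix (Ix τ m) (Ix τ m) F) :=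
  ⟨Pi.single a 1, Pi.single b 1, by simp, by simp, by simp [Pi.single_eq_of_ne h],
    by rw [e, Matrix.single_eq_single_vecMulVec_single]⟩

theorem RootAt.conj {X : Matrix (Ix τ m) (Ix τ m) F} (hX : RootAt i X) {h h' : Matrix (Fin m) (Fin m) F}
    (hh : h * h' = 1) : RootAt i (embM i h * X * embM i h') := by
  obtain ⟨u, v, hu, hv, h0, rfl⟩ := hX
  have hh' : h' * h = 1 := mul_eq_one_comm.1 hh
  refine ⟨h *ᵥ u, v ᵥ* h', fun e => hu ?_, fun e => hv ?_, ?_, ?_⟩
  · rw [← Matrix.one_mulVec u, ← hh', ← Matrix.mulVec_mulVec, e, Matrix.mulVec_zero]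
  · rw [← Matrix.vecMul_one v, ← hh', ← Matrix.vecMul_vecMul, e, Matrix.zero_vecMul]
  · rw [← Matrix.dotProduct_mulVec, Matrix.mulVec_mulVec, hh', Matrix.one_mulVec, h0]
  · rw [embM_mul, embM_mul, Matrix.mul_vecMulVec, Matrix.vecMulVec_mul]

theorem RootAt.exists_conj (hm : 3 ≤ m) {X : Matrix (Ix τ m) (Ix τ m) F} (hX : RootAt i X) {a b : Fin m}
    (hab : a ≠ b) : ∃ h h' : Matrix (Fin m) (Fin m) F, h.det = 1 ∧ h * h' = 1 ∧
      embM i h * X * embM i h' = embM i (e a b) := by
  obtain ⟨u, v, hu, hv, h0, rfl⟩ := hX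
  obtain ⟨h, h', h1, h2, h3⟩ := exists_conj_rankone hm hu hv h0 hab
  exact ⟨h, h', h1, h2, by rw [embM_mul, embM_mul, h3]⟩

theorem mul_inv_cancel_mid (g : GL (Ix τ m) F) (X Y : Matrix (Ix τ m) (Ix τ m) F) :
    g.1 * X * (g⁻¹).1 * (g.1 * Y * (g⁻¹).1) = g.1 * (X * Y) * (g⁻¹).1 := by
  calc g.1 * X * (g⁻¹).1 * (g.1 * Y * (g⁻¹).1) = g.1 * X * ((g⁻¹).1 * g.1) * Y * (g⁻¹).1 := by
        simp only [mul_assoc]
    _ = _ := by rw [g.inv_mul, mul_one]; simp only [mul_assoc]

theorem conj_inj {X Y : Matrix (Ix τ m) (Ix τ m) F} (g : GL (Ix τ m) F)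
    (h : g.1 * X * (g⁻¹).1 = g.1 * Y * (g⁻¹).1) : X = Y := by
  have := congrArg (fun Z => (g⁻¹).1 * Z * g.1) h
  simpa [mul_assoc, ← mul_assoc (g⁻¹).1 g.1] using this

theorem commute_inv {X : Matrix (Ix τ m) (Ix τ m) F} (g : GL (Ix τ m) F) (h : g.1 * X = X * g.1) :
    (g⁻¹).1 * X = X * (g⁻¹).1 := by
  have := congrArg (fun Z => (g⁻¹).1 * Z * (g⁻¹).1) h
  simp only [← mul_assoc, g.inv_mul, one_mul] at this
  rw [mul_assoc ((g⁻¹).1 * X), g.mul_inv, mul_one] at this
  exact this.symm

/-- From `g e_ab = e_ab g`, the other roots with the same line. -/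
theorem row_of_fixed (H' : Hyp M') (hm : 3 ≤ m) (hTop : ¬ Top M') (hR : Rel M M' g) (H : Hyp M) {a b q : Fin m}
    (hfix : g.1 * embM i (e a b) = embM i (e a b) * g.1) (hq : q ≠ a) :
    RootAt i (g.1 * embM i (e a q) * (g⁻¹).1) := by
  haveI : NeZero m := ⟨by omega⟩
  have key : ∀ (u : GL (Ix τ m) F), u.1 * embM i (e a b) = embM i (e a b) * u.1 → ∀ x, x ≠ a →
      embM i (e x x) * u.1 * embM i (e a a) = 0 := by
    intro u hu x hx
    rw [← embM_e_mul i a b a, ← mul_assoc, mul_assoc (embM i (e x x)), hu, ← mul_assoc, embM_e_mul_ne i hx]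
    simp
  set N := g.1 * embM i (e a q) * (g⁻¹).1 with hN
  obtain ⟨n, hn⟩ := H'.exists_of_block (i := i) (P := {a}) (N := N) hm hTop
    (fun x hx => by
      rw [Finset.mem_singleton] at hx
      rw [hN, ← embM_e_mul i a a q, ← mul_assoc, ← mul_assoc, ← mul_assoc, key g hfix x hx]
      simp)
    (fun p hp => by
      rw [Finset.mem_singleton] at hp
      subst hp
      rw [hN, ← embM_e_mul i p q q, ← mul_assoc, mul_assoc _ (g⁻¹).1, mul_assoc _ (embM i (e q q)),
        ← mul_assoc (embM i (e q q)), key _ (commute_inv g hfix) q hq, mul_zero])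
    (hR.inM (H.inM_e i hq.symm))
  have hrow : ∀ x, x ≠ a → ∀ y, n x y = 0 := by
    intro x hx y
    have : embM i (e x x * n) = embM i (0 : Matrix (Fin m) (Fin m) F) := by
      rw [← embM_mul, ← hn, hN, ← embM_e_mul i a a q, ← mul_assoc, ← mul_assoc, ← mul_assoc, key g hfix x hx,
        embM_zero]
      simp
    have := congrFun₂ (embM_injective i this) x y
    rwa [single_mul_eq, if_pos rfl, Matrix.zero_apply] at this
  have haa : n a a = 0 := by
    have : embM i (n * e a a) = embM i (0 : Matrix (Fin m) (Fin m) F) := by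
      rw [← embM_mul, ← hn, hN, ← embM_e_mul i a q q, ← mul_assoc, mul_assoc _ (g⁻¹).1,
        mul_assoc _ (embM i (e q q)), ← mul_assoc (embM i (e q q)), key _ (commute_inv g hfix) q hq, mul_zero,
        embM_zero]
    simpa using congrFun₂ (embM_injective i this) a a
  refine ⟨Pi.single a 1, n a, by simp, fun h0 => ?_, by simpa using haa, hn.trans (congrArg _ ?_)⟩
  · have hn0 : n = 0 := by
      ext x y
      by_cases hx : x = a
      · subst hx; exact congrFun h0 y
      · exact hrow x hx y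
    rw [hn0, embM_zero] at hn
    have := conj_inj g (X := embM i (e a q)) (Y := 0) (by rw [mul_zero, zero_mul]; exact hn)
    rw [← embM_zero (F := F) i] at this
    simpa using congrFun₂ (embM_injective i this) a q
  · ext x y
    by_cases hx : x = a
    · subst hx; simp [Matrix.vecMulVec_apply]
    · simp [Matrix.vecMulVec_apply, hx, hrow x hx y]

/-- From `g e_ab = e_ab g`, the other roots with the same hyperplane. -/
theorem col_of_fixed (H' : Hyp M') (hm : 3 ≤ m) (hTop : ¬ Top M') (hR : Rel M M' g) (H : Hyp M) {a b p : Fin m}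
    (hfix : g.1 * embM i (e a b) = embM i (e a b) * g.1) (hp : p ≠ b) :
    RootAt i (g.1 * embM i (e p b) * (g⁻¹).1) := by
  haveI : NeZero m := ⟨by omega⟩
  have key : ∀ (u : GL (Ix τ m) F), u.1 * embM i (e a b) = embM i (e a b) * u.1 → ∀ x, x ≠ b →
      embM i (e b b) * u.1 * embM i (e x x) = 0 := by
    intro u hu x hx
    rw [← embM_e_mul i b a b, mul_assoc (embM i (e b a)), ← hu, mul_assoc, mul_assoc, embM_e_mul_ne i hx.symm]
    simp
  set N := g.1 * embM i (e p b) * (g⁻¹).1 with hN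
  have hL : embM i (e b b) * N = 0 := by
    rw [hN, ← embM_e_mul i p p b, ← mul_assoc, ← mul_assoc, ← mul_assoc, key g hfix p hp]
    simp
  have hR' : ∀ x, x ≠ b → N * embM i (e x x) = 0 := fun x hx => by
    rw [hN, ← embM_e_mul i p b b, ← mul_assoc, mul_assoc _ (g⁻¹).1, mul_assoc _ (embM i (e b b)),
      ← mul_assoc (embM i (e b b)), key _ (commute_inv g hfix) x hx, mul_zero]
  obtain ⟨n, hn⟩ := H'.exists_of_block (i := i) (P := Finset.univ.erase b) (N := N) hm hTop
    (fun x hx => by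
      simp only [Finset.mem_erase, Finset.mem_univ, and_true, not_not] at hx
      subst hx; exact hL)
    (fun x hx => hR' x (Finset.ne_of_mem_erase hx))
    (hR.inM (H.inM_e i hp))
  have hcol : ∀ y, y ≠ b → ∀ x, n x y = 0 := by
    intro y hy x
    have : embM i (n * e y y) = embM i (0 : Matrix (Fin m) (Fin m) F) := by
      rw [← embM_mul, ← hn, hR' y hy, embM_zero]
    simpa using congrFun₂ (embM_injective i this) x y
  have hbb : n b b = 0 := by
    have : embM i (e b b * n) = embM i (0 : Matrix (Fin m) (Fin m) F) := by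
      rw [← embM_mul, ← hn, hL, embM_zero]
    simpa using congrFun₂ (embM_injective i this) b b
  refine ⟨fun x => n x b, Pi.single b 1, fun h0 => ?_, by simp, by simpa using hbb, hn.trans (congrArg _ ?_)⟩
  · have hn0 : n = 0 := by
      ext x y
      by_cases hy : y = b
      · subst hy; exact congrFun h0 x
      · exact hcol y hy x
    rw [hn0, embM_zero] at hn
    have := conj_inj g (X := embM i (e p b)) (Y := 0) (by rw [mul_zero, zero_mul]; exact hn)
    rw [← embM_zero (F := F) i] at this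
    simpa using congrFun₂ (embM_injective i this) p b
  · ext x y
    by_cases hy : y = b
    · subst hy; simp [Matrix.vecMulVec_apply]
    · simp [Matrix.vecMulVec_apply, hy, hcol y hy x]

/-- The image of the unit `e a b` is a root of the same factor. -/
def Img (g : GL (Ix τ m) F) (i : τ) (a b : Fin m) : Prop :=
  RootAt i (g.1 * embM i (e a b) * (g⁻¹).1)

theorem img_spread (H : Hyp M) (H' : Hyp M') (hm : 3 ≤ m) (hTop : ¬ Top M') (hR : Rel M M' g) {a b : Fin m}
    (hab : a ≠ b) (h : Img g i a b) :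
    (∀ q, q ≠ a → Img g i a q) ∧ (∀ p, p ≠ b → Img g i p b) := by
  obtain ⟨k, k', k1, k2, k3⟩ := RootAt.exists_conj hm h hab
  set Q := embU i k k1 with hQ
  have hQ' : (Q⁻¹).1 = embM i k' := embU_inv i k1 k2
  have hR2 : Rel M M' (Q * g) := hR.trans (Rel.refl (H'.embU_mem i k k1))
  have hk' : k' * k = 1 := mul_eq_one_comm.1 k2
  have e2 : ∀ X, (Q * g).1 * X * ((Q * g)⁻¹).1 = embM i k * (g.1 * X * (g⁻¹).1) * embM i k' := fun X => by
    rw [_root_.mul_inv_rev, Units.val_mul, Units.val_mul, hQ', hQ, embU_val]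
    simp only [mul_assoc]
  have e3 : ∀ X, g.1 * X * (g⁻¹).1 = embM i k' * ((Q * g).1 * X * ((Q * g)⁻¹).1) * embM i k := fun X => by
    rw [e2]
    simp only [← mul_assoc, embM_mul, hk', embM_one, one_mul]
    rw [mul_assoc _ (embM i k') (embM i k), embM_mul, hk', embM_one, mul_one]
  have hfix : (Q * g).1 * embM i (e a b) = embM i (e a b) * (Q * g).1 := by
    have := congrArg (· * (Q * g).1) ((e2 (embM i (e a b))).trans k3)
    simpa [mul_assoc] using this
  refine ⟨fun q hq => ?_, fun p hp => ?_⟩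
  · rw [Img, e3]
    exact (row_of_fixed H' hm hTop hR2 H hfix hq).conj hk'
  · rw [Img, e3]
    exact (col_of_fixed H' hm hTop hR2 H hfix hp).conj hk'

theorem img_all (H : Hyp M) (H' : Hyp M') (hm : 3 ≤ m) (hTop : ¬ Top M') (hR : Rel M M' g) {a b : Fin m}
    (hab : a ≠ b) (h : Img g i a b) (p q : Fin m) (hpq : p ≠ q) : Img g i p q := by
  obtain ⟨c, -, hc⟩ := Finset.exists_mem_notMem_of_card_lt_card (t := (Finset.univ : Finset (Fin m)))
    (s := {a, b}) (by rw [Finset.card_pair hab, Finset.card_univ, Fintype.card_fin]; omega)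
  simp only [Finset.mem_insert, Finset.mem_singleton, not_or] at hc
  have sp : ∀ {x y : Fin m}, x ≠ y → Img g i x y →
      (∀ z, z ≠ x → Img g i x z) ∧ (∀ z, z ≠ y → Img g i z y) :=
    fun hxy hh => img_spread H H' hm hTop hR hxy hh
  by_cases hqa : q = a
  · subst hqa
    have h1 := (sp hab h).1 c hc.1
    have h2 := (sp (Ne.symm hc.1) h1).2 b (Ne.symm hc.2)
    have h3 := (sp (Ne.symm hc.2) h2).1 q hab
    exact (sp (Ne.symm hab) h3).2 p hpq
  · exact (sp (Ne.symm hqa) ((sp hab h).1 q hqa)).2 p hpq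

/-- A conjugator preserving one root of a factor splits at that factor. -/
theorem exists_split (H : Hyp M) (H' : Hyp M') (hm : 3 ≤ m) (hTop : ¬ Top M') (hR : Rel M M' g)
    {X : Matrix (Ix τ m) (Ix τ m) F} (hX : RootAt i X) (hgX : RootAt i (g.1 * X * (g⁻¹).1)) :
    ∃ (T : Matrix (Fin m) (Fin m) F) (A : Matrix (Ix τ m) (Ix τ m) F), Cen i A ∧ g.1 = embM i T * A := by
  haveI : NeZero m := ⟨by omega⟩
  let a : Fin m := ⟨0, by omega⟩
  let b : Fin m := ⟨1, by omega⟩
  have hab : a ≠ b := by simp [a, b, Fin.ext_iff]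
  obtain ⟨h, h', h1, h2, h3⟩ := hX.exists_conj hm hab
  obtain ⟨k, k', k1, k2, k3⟩ := hgX.exists_conj hm hab
  set g1 := embU i k k1 * g * (embU i h h1)⁻¹ with hg1
  have hR1 : Rel M M' g1 :=
    ((Rel.refl (M.inv_mem (H.embU_mem i h h1))).trans hR).trans (Rel.refl (H'.embU_mem i k k1)) |> fun r => by
      rw [hg1, mul_assoc]; exact r
  have hk' : k' * k = 1 := mul_eq_one_comm.1 k2
  have hh' : h' * h = 1 := mul_eq_one_comm.1 h2
  have hg1v : g1.1 = embM i k * g.1 * embM i h' := by
    rw [hg1, Units.val_mul, Units.val_mul, embU_inv i h1 h2, embU_val]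
  have hfix : g1.1 * embM i (e a b) = embM i (e a b) * g1.1 := by
    calc g1.1 * embM i (e a b) = embM i k * g.1 * (embM i h' * embM i h) * X * embM i h' := by
          rw [hg1v, ← h3]; simp only [mul_assoc]
      _ = embM i k * g.1 * X * embM i h' := by rw [embM_mul, hh', embM_one, mul_one]
      _ = embM i k * (g.1 * X * (g⁻¹).1) * (embM i k' * embM i k) * g.1 * embM i h' := by
          rw [embM_mul, hk', embM_one, mul_one]
          simp only [mul_assoc]
          rw [← mul_assoc (g⁻¹).1 g.1, g.inv_mul, one_mul]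
      _ = embM i (e a b) * g1.1 := by rw [hg1v, ← k3]; simp only [mul_assoc]
  have himg : Img g1 i a b := by
    rw [Img, hfix, mul_assoc, g1.mul_inv, mul_one]
    exact rootAt_e i hab
  have hall := img_all H H' hm hTop hR1 hab himg
  let S : Set (Matrix (Fin m) (Fin m) F) := {c | ∃ n, g1.1 * embM i c * (g1⁻¹).1 = embM i n}
  have hoff : ∀ p q : Fin m, p ≠ q → (e p q : Matrix (Fin m) (Fin m) F) ∈ S := fun p q hpq => by
    obtain ⟨u, v, -, -, -, huv⟩ := hall p q hpq
    exact ⟨_, huv⟩
  have hS : ∀ p q : Fin m, (e p q : Matrix (Fin m) (Fin m) F) ∈ S := fun p q => by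
    by_cases hpq : p = q
    · subst hpq
      obtain ⟨c, hc⟩ : ∃ c : Fin m, c ≠ p := by
        by_cases hpa : p = a
        · exact ⟨b, hpa ▸ hab.symm⟩
        · exact ⟨a, Ne.symm hpa⟩
      obtain ⟨n1, e1⟩ := hoff p c hc.symm
      obtain ⟨n2, e2⟩ := hoff c p hc
      exact ⟨n1 * n2, by rw [← e_mul_e p c p, ← embM_mul, ← mul_inv_cancel_mid, e1, e2, embM_mul]⟩
    · exact hoff p q hpq
  choose φ hφ using hS
  set A : Matrix (Ix τ m) (Ix τ m) F := blk i a a g1.1 with hA
  set T : Matrix (Fin m) (Fin m) F := Matrix.of fun x p => φ p a x a with hT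
  have hkey : ∀ x, x ≠ a → embM i (e x x) * g1.1 * embM i (e a a) = 0 := fun x hx => by
    rw [← embM_e_mul i a b a, ← mul_assoc, mul_assoc (embM i (e x x)), hfix, ← mul_assoc, embM_e_mul_ne i hx]
    simp
  have hga : g1.1 * embM i (e a a) = embM i (e a a) * g1.1 * embM i (e a a) := by
    conv_lhs => rw [← one_mul (g1.1 * embM i (e a a)), ← sum_e_diag i, Finset.sum_mul]
    simp only [← mul_assoc]
    exact Finset.sum_eq_single a (fun x _ hx => hkey x hx) (by simp)
  have hcol : ∀ p, φ p a * e a a = ∑ x, T x p • (e x a : Matrix (Fin m) (Fin m) F) := fun p => by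
    ext u v
    rw [Matrix.sum_apply, Fintype.sum_eq_single u]
    · by_cases hv : v = a
      · subst hv; simp [hT]
      · simp [hv, Ne.symm hv]
    · intro x hx; simp [hx]
  have hmain : g1.1 = embM i T * A := by
    have e1 : g1.1 = ∑ p, g1.1 * embM i (e p p) := by rw [← Finset.mul_sum, sum_e_diag, mul_one]
    rw [e1, Matrix.matrix_eq_sum_single T, embM_sum, Finset.sum_mul]
    rw [show (∑ x, embM i (∑ p, Matrix.single x p (T x p)) * A) = ∑ p, ∑ x, embM i (Matrix.single x p (T x p)) * A by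
      simp only [embM_sum, Finset.sum_mul]; rw [Finset.sum_comm]]
    refine Finset.sum_congr rfl fun p _ => ?_
    have e2 : g1.1 * embM i (e p p) = embM i (φ p a * e a a) * g1.1 * embM i (e a p) := by
      calc g1.1 * embM i (e p p) = (g1.1 * embM i (e p a) * (g1⁻¹).1) * (g1.1 * embM i (e a a)) * embM i (e a p) := by
            simp only [← mul_assoc]
            rw [mul_assoc (g1.1 * embM i (e p a)) (g1⁻¹).1, g1.inv_mul, mul_one, mul_assoc g1.1, embM_e_mul,
              mul_assoc g1.1, embM_e_mul]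
        _ = embM i (φ p a) * (embM i (e a a) * g1.1 * embM i (e a a)) * embM i (e a p) := by rw [hφ, ← hga]
        _ = _ := by
            simp only [← mul_assoc, embM_mul]
            rw [mul_assoc _ (embM i (e a a)) (embM i (e a p)), embM_mul, e_mul_e]
    rw [e2, hcol, embM_sum, Finset.sum_mul, Finset.sum_mul]
    refine Finset.sum_congr rfl fun x _ => ?_
    rw [embM_smul, show Matrix.single x p (T x p) = T x p • (e x p : Matrix (Fin m) (Fin m) F) by simp, embM_smul,
      smul_mul_assoc, smul_mul_assoc, smul_mul_assoc, hA, e_mul_blk]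
  refine ⟨k' * T * h, A, cen_blk i a a _, ?_⟩
  calc g.1 = embM i k' * (embM i k * g.1 * embM i h') * embM i h := by
        simp only [← mul_assoc, embM_mul, hk', embM_one, one_mul]
        rw [mul_assoc g.1, embM_mul, hh', embM_one, mul_one]
    _ = _ := by
        rw [← hg1v, hmain, mul_assoc, mul_assoc, ← cen_blk i a a g1.1 h, ← mul_assoc, ← mul_assoc, embM_mul,
          embM_mul, hA]

end CfsgLib.Classical.TensorWreath
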