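import Cfsg.Agent.Lib.Classical.TensorWreath.Perms

set_option autoImplicit false
set_option linter.unusedSectionVars false

/-!
A monomial conjugate of a root comes from a monomial conjugator.
-/

namespace CfsgLib.Classical.TensorWreath

open Matrix
open scoped MatrixGroups Kronecker

variable {F : Type*} [Field F] {τ : Type} [Fintype τ] [DecidableEq τ] {m : ℕ}
variable {M M' : Subgroup (GL (Ix τ m) F)} {g : GL (Ix τ m) F} {i : τ}

/-- The hypotheses on a proper intermediate group. -/
structure Ctx (M : Subgroup (GL (Ix τ m) F)) : Prop where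
  hyp : Hyp M
  notTop : ¬ Top M
  low : Low F τ m
  three : 3 ≤ m
  two : 2 ≤ Fintype.card τ

theorem RootAt.det_one [NeZero m] {X : Matrix (Ix τ m) (Ix τ m) F} (hX : RootAt i X) :
    ∃ n : Matrix (Fin m) (Fin m) F, X = embM i n ∧ (1 + n).det = 1 ∧ n * n = 0 ∧ n ≠ 0 := by
  obtain ⟨u, v, hu, hv, h0, rfl⟩ := hX
  refine ⟨_, rfl, by rw [TensorMax.det_one_add_vecMulVec, h0, add_zero], ?_, fun h => ?_⟩
  · rw [Matrix.vecMulVec_mul_vecMulVec, h0]; simp
  · rcases Matrix.vecMulVec_eq_zero.1 h with h | h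
    · exact hu h
    · exact hv h

theorem Hyp.inM_rootAt [NeZero m] (H : Hyp M) {X : Matrix (Ix τ m) (Ix τ m) F} (hX : RootAt i X) :
    InM M (1 + X) := by
  obtain ⟨n, rfl, hd, -, -⟩ := hX.det_one
  exact H.inM_root i hd

theorem rootAt_sq [NeZero m] {X : Matrix (Ix τ m) (Ix τ m) F} (hX : RootAt i X) : X * X = 0 := by
  obtain ⟨n, rfl, -, hn, -⟩ := hX.det_one
  rw [embM_mul, hn, embM_zero]

theorem rootAt_ne_zero [NeZero m] {X : Matrix (Ix τ m) (Ix τ m) F} (hX : RootAt i X) : X ≠ 0 := by
  obtain ⟨n, rfl, -, -, hn⟩ := hX.det_one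
  exact fun h => hn (embM_injective i (by rw [h, embM_zero]))

theorem rootAt_rank [NeZero m] {X : Matrix (Ix τ m) (Ix τ m) F} (hX : RootAt i X) (j : τ) :
    X.rank ≤ Fintype.card (Ix (Rest j) m) := by
  obtain ⟨u, v, -, -, -, rfl⟩ := hX
  refine (rank_embM_vecMulVec_le i u v).trans (le_of_eq ?_)
  rw [card_rest, card_rest]

variable [Finite F]

theorem classify_conj (hm : 3 ≤ m) {X : Matrix (Ix τ m) (Ix τ m) F} (hX : RootAt i X) (g : GL (Ix τ m) F)
    (hk : Mono (1 + g.1 * X * (g⁻¹).1)) :
    (∃ j, RootAt j (g.1 * X * (g⁻¹).1)) ∨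
      ((2 : F) = 0 ∧ m = 3 ∧ ∃ (h : τ → Matrix (Fin m) (Fin m) F) (a b : τ), a ≠ b ∧
        1 + g.1 * X * (g⁻¹).1 = pureM h * permM F m (Equiv.swap a b)) := by
  haveI : NeZero m := ⟨by omega⟩
  have h := classify hm hk (by
      rw [add_sub_cancel_left]
      exact fun h => rootAt_ne_zero hX (conj_inj g (Y := 0) (by rw [h, mul_zero, zero_mul])))
    (by rw [add_sub_cancel_left, mul_inv_cancel_mid, rootAt_sq hX, mul_zero, zero_mul])
    (fun j => by rw [add_sub_cancel_left, rank_conj]; exact rootAt_rank hX j)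
  simpa only [add_sub_cancel_left] using h

/-- The centraliser of a root is monomial. -/
theorem Ctx.mono_of_commute_root (C : Ctx M) (hg : g ∈ M) {X : Matrix (Ix τ m) (Ix τ m) F} (hX : RootAt i X)
    (h : g.1 * X = X * g.1) : Mono g.1 := by
  refine mono_of_root C.low C.hyp C.hyp C.three C.two C.notTop C.notTop (Rel.refl hg) hX (j := i) ?_
  rwa [h, mul_assoc, g.mul_inv, mul_one]

/-- A conjugator with a monomial image of a root is monomial. -/
theorem mono_of_mono_conj (C : Ctx M) (C' : Ctx M') (hR : Rel M M' g) {X : Matrix (Ix τ m) (Ix τ m) F}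
    (hX : RootAt i X) (hk : Mono (1 + g.1 * X * (g⁻¹).1)) : Mono g.1 := by
  have hm := C.three
  haveI : NeZero m := ⟨by omega⟩
  haveI : Nonempty (Ix τ m) := ⟨fun _ => 0⟩
  rcases classify_conj hm hX g hk with ⟨j, hj⟩ | ⟨h2, hm3, h, a, b, hab, hkv⟩
  · exact mono_of_root C.low C.hyp C'.hyp hm C.two C.notTop C'.notTop hR hX hj
  set k := 1 + g.1 * X * (g⁻¹).1 with hkdef
  have hksq : k * k = 1 := by
    rw [hkdef, mul_add, mul_one, add_mul, one_mul, mul_inv_cancel_mid, rootAt_sq hX, mul_zero, zero_mul, add_zero,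
      add_assoc, ← two_smul F, h2, zero_smul, add_zero]
  have hksq' := hksq
  rw [hkv, mono_mul_self] at hksq'
  obtain ⟨-, hsc⟩ := eq_one_of_pure_perm hm hksq'
  have hsc' : ∀ j, ∃ c : F, h j * h (Equiv.swap a b j) = c • 1 := fun j => by
    obtain ⟨c, hc⟩ := hsc j
    exact ⟨c, by simpa [Equiv.symm_swap] using hc⟩
  have hdet : (pureM h).det ≠ 0 := fun h0 => by
    have := congrArg Matrix.det hksq
    rw [hkv, Matrix.det_mul, Matrix.det_mul, h0, zero_mul, zero_mul, Matrix.det_one] at this
    exact zero_ne_one this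
  have hX' : g.1 * X * (g⁻¹).1 = k - 1 := by rw [hkdef, add_sub_cancel_left]
  have pull : ∀ Y : Matrix (Ix τ m) (Ix τ m) F, Y * k = k * Y →
      (g⁻¹).1 * Y * g.1 * X = X * ((g⁻¹).1 * Y * g.1) := fun Y hY => by
    refine conj_inj g ?_
    have e1 : g.1 * ((g⁻¹).1 * Y * g.1) * (g⁻¹).1 = Y := by
      simp only [← mul_assoc, g.mul_inv, one_mul]
      rw [mul_assoc, g.mul_inv, mul_one]
    rw [← mul_inv_cancel_mid g ((g⁻¹).1 * Y * g.1) X, ← mul_inv_cancel_mid g X ((g⁻¹).1 * Y * g.1), e1, hX',
      mul_sub, mul_one, sub_mul, one_mul, hY]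
  have back : Rel M' M g⁻¹ := hR.symm
  by_cases h3 : 3 ≤ Fintype.card τ
  · obtain ⟨l, -, hl⟩ := Finset.exists_mem_notMem_of_card_lt_card (t := (Finset.univ : Finset τ)) (s := {a, b})
      (by rw [Finset.card_pair hab, Finset.card_univ]; omega)
    simp only [Finset.mem_insert, Finset.mem_singleton, not_or] at hl
    have hσl : Equiv.swap a b l = l := Equiv.swap_apply_of_ne_of_ne hl.1 hl.2
    obtain ⟨c, hc⟩ := hsc' l
    rw [hσl] at hc
    obtain ⟨d, hd⟩ := exists_sq h2 c
    have hdl := det_ne_zero_of_pureM hdet l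
    have hd0 : d ≠ 0 := fun h0 => by
      haveI : Nonempty (Fin m) := ⟨0⟩
      rw [← hd, h0, mul_zero, zero_smul] at hc
      have := congrArg Matrix.det hc
      rw [Matrix.det_mul, Matrix.det_zero] at this
      exact hdl (mul_self_eq_zero.1 this)
    set n := d⁻¹ • h l - 1 with hn
    have hn2 : n * n = 0 := by
      rw [hn, sq_of_char_two h2, smul_mul_smul_comm, hc, smul_smul, ← hd, ← mul_inv,
        inv_mul_cancel₀ (mul_ne_zero hd0 hd0), one_smul, sub_self]
    have hhl : d • (1 + n) = h l := by rw [hn, add_sub_cancel, smul_smul, mul_inv_cancel₀ hd0, one_smul]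
    let x0 : Fin m := ⟨0, by omega⟩
    let x1 : Fin m := ⟨1, by omega⟩
    let x2 : Fin m := ⟨2, by omega⟩
    have h01 : x0 ≠ x1 := by simp [x0, x1, Fin.ext_iff]
    have h02 : x0 ≠ x2 := by simp [x0, x2, Fin.ext_iff]
    have h12 : x1 ≠ x2 := by simp [x1, x2, Fin.ext_iff]
    obtain ⟨q, q', hq, hqn⟩ : ∃ q q' : Matrix (Fin m) (Fin m) F, q * q' = 1 ∧
        (n = 0 ∨ n = q * e x0 x1 * q') := by
      by_cases hn0 : n = 0
      · exact ⟨1, 1, mul_one 1, Or.inl hn0⟩
      have hr : n.rank ≤ 1 := by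
        have := two_mul_rank_le hn2
        rw [Fintype.card_fin] at this
        omega
      obtain ⟨u, v, huv⟩ := exists_vecMulVec_of_rank_le_one hr
      have hu : u ≠ 0 := fun e => hn0 (by rw [huv, e, Matrix.zero_vecMulVec])
      have hv : v ≠ 0 := fun e => hn0 (by rw [huv, e, Matrix.vecMulVec_zero])
      have h0 : v ⬝ᵥ u = 0 := by
        rw [huv, Matrix.vecMulVec_mul_vecMulVec] at hn2
        rcases Matrix.vecMulVec_eq_zero.1 hn2 with h | h
        · exact absurd h hu
        · exact (smul_eq_zero.1 h).resolve_right hv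
      obtain ⟨q, q', -, hq, hqe⟩ := exists_conj_rankone hm hu hv h0 h01
      refine ⟨q', q, mul_eq_one_comm.1 hq, Or.inr ?_⟩
      rw [huv, ← hqe]
      have hq' := mul_eq_one_comm.1 hq
      simp only [← mul_assoc, hq', one_mul]
      rw [mul_assoc, hq', mul_one]
    have hq' := mul_eq_one_comm.1 hq
    have hroot : ∀ E : Matrix (Fin m) (Fin m) F, (∃ v : Fin m → F, v ≠ 0 ∧ v x0 = 0 ∧
        E = Matrix.vecMulVec (Pi.single x0 1) v) → e x0 x1 * E = E * e x0 x1 →
        RootAt l (embM l (q * E * q')) ∧ embM l (q * E * q') * k = k * embM l (q * E * q') := by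
      intro E hE hEc
      obtain ⟨v, hv, hv0, rfl⟩ := hE
      refine ⟨?_, ?_⟩
      · have h1 : RootAt l (embM l (Matrix.vecMulVec (Pi.single x0 (1 : F)) v)) :=
          ⟨_, v, by simp, hv, by simp [hv0], rfl⟩
        have := h1.conj hq
        rwa [embM_mul, embM_mul] at this
      · rw [hkv, mono_mul_embM (g' := fun j => (h j)⁻¹) _ l (nonsing_inv_of_pureM hdet _), hσl]
        congr 2
        have hcE : h l * (q * Matrix.vecMulVec (Pi.single x0 1) v * q') =
            q * Matrix.vecMulVec (Pi.single x0 1) v * q' * h l := by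
          rw [← hhl, smul_mul_assoc, mul_smul_comm, add_mul, one_mul, mul_add, mul_one]
          congr 2
          rcases hqn with h0 | h0
          · rw [h0, zero_mul, mul_zero]
          · rw [h0]
            calc q * e x0 x1 * q' * (q * Matrix.vecMulVec (Pi.single x0 1) v * q')
                = q * (e x0 x1 * Matrix.vecMulVec (Pi.single x0 1) v) * q' := by
                  simp only [← mul_assoc]; rw [mul_assoc (q * e x0 x1) q' q, hq', mul_one]
              _ = q * (Matrix.vecMulVec (Pi.single x0 1) v * e x0 x1) * q' := by rw [hEc]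
              _ = _ := by
                  simp only [← mul_assoc]
                  rw [mul_assoc (q * Matrix.vecMulVec (Pi.single x0 1) v) q' q, hq', mul_one]
        rw [hcE, mul_assoc _ (h l) (h l)⁻¹, nonsing_inv_of_pureM hdet, mul_one]
    set E1 : Matrix (Fin m) (Fin m) F := e x0 x1 with hE1
    set E2 : Matrix (Fin m) (Fin m) F := e x0 x2 with hE2
    obtain ⟨r1, c1⟩ := hroot E1 ⟨Pi.single x1 1, by simp, Pi.single_eq_of_ne h01 1,
      by rw [hE1, e, Matrix.single_eq_single_vecMulVec_single]⟩ rfl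
    obtain ⟨r2, c2⟩ := hroot E2 ⟨Pi.single x2 1, by simp, Pi.single_eq_of_ne h02 1,
      by rw [hE2, e, Matrix.single_eq_single_vecMulVec_single]⟩ (by rw [hE1, hE2, e_mul_e_ne h01.symm, e_mul_e_ne h02.symm])
    obtain ⟨r3, c3⟩ := hroot (E1 + E2) ⟨Pi.single x1 1 + Pi.single x2 1,
      fun h => by simpa [h12] using congrFun h x1, by simp [h01, h02],
      by rw [hE1, hE2, e, e, Matrix.single_eq_single_vecMulVec_single, Matrix.single_eq_single_vecMulVec_single,
        Matrix.vecMulVec_add]⟩ (by simp [mul_add, add_mul, hE1, hE2, h01.symm, h02.symm])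
    have himg : ∀ R, RootAt l R → R * k = k * R →
        Mono g.1 ∨ ∃ (f : τ → Matrix (Fin m) (Fin m) F) (u v : τ), u ≠ v ∧
          1 + (g⁻¹).1 * R * g.1 = pureM f * permM F m (Equiv.swap u v) := by
      intro R hRt hRk
      obtain ⟨y, hy, hy'⟩ := back.inM (C'.hyp.inM_rootAt hRt)
      rw [inv_inv] at hy'
      have hc : y.1 * X = X * y.1 := by
        rw [hy', add_mul, one_mul, pull R hRk, mul_add, mul_one]
      have hyM : Mono (1 + (g⁻¹).1 * R * ((g⁻¹)⁻¹).1) := by
        rw [inv_inv, ← hy']; exact C.mono_of_commute_root hy hX hc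
      rcases classify_conj hm hRt g⁻¹ hyM with ⟨j, hj⟩ | ⟨-, -, f, u, v, huv, hf⟩
      · refine Or.inl ?_
        have := mono_inv (mono_of_root C.low C'.hyp C.hyp hm C.two C'.notTop C.notTop back hRt hj)
        rwa [inv_inv] at this
      · exact Or.inr ⟨f, u, v, huv, by rw [← hf, inv_inv]⟩
    rcases himg _ r1 c1 with h | ⟨f1, a1, b1, n1, e1⟩
    · exact h
    rcases himg _ r2 c2 with h | ⟨f2, a2, b2, n2, e2⟩
    · exact h
    rcases himg _ r3 c3 with h | ⟨f3, a3, b3, n3, e3⟩
    · exact h
    exfalso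
    have hprod : (1 + (g⁻¹).1 * embM l (q * E1 * q') * g.1) * (1 + (g⁻¹).1 * embM l (q * E2 * q') * g.1) =
        1 + (g⁻¹).1 * embM l (q * (E1 + E2) * q') * g.1 := by
      have h0 : q * E1 * q' * (q * E2 * q') = 0 := by
        simp only [← mul_assoc]
        rw [mul_assoc (q * E1) q' q, hq', mul_one, mul_assoc q E1 E2, hE1, hE2, e_mul_e_ne h01.symm, mul_zero,
          zero_mul]
      have h1 := mul_inv_cancel_mid g⁻¹ (embM l (q * E1 * q')) (embM l (q * E2 * q'))
      rw [inv_inv, embM_mul, h0, embM_zero, mul_zero, zero_mul] at h1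
      rw [mul_add q, add_mul (q * E1), embM_add, mul_add, add_mul, mul_add, mul_one, add_mul, one_mul, h1, add_zero]
      simp only [mul_one, add_mul, add_assoc]
    rw [e1, e2, e3, mul_assoc, ← mul_assoc (permM F m _), permM_mul_pureM, mul_assoc, ← mul_assoc (pureM f1),
      pureM_mul, permM_mul] at hprod
    have hdd : (pureM f3 * permM F m (Equiv.swap a3 b3)).det ≠ 0 := by
      rw [← e3]
      obtain ⟨y, -, hy'⟩ := back.inM (C'.hyp.inM_rootAt r3)
      rw [inv_inv] at hy'
      rw [← hy']
      exact ((Matrix.isUnit_iff_isUnit_det _).1 y.isUnit).ne_zero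
    have hs := congrArg Equiv.Perm.sign (perm_unique hm hdd hprod.symm)
    rw [map_mul, Equiv.Perm.sign_swap n1, Equiv.Perm.sign_swap n2, Equiv.Perm.sign_swap n3] at hs
    exact absurd hs (by decide)
  · have hcard : Fintype.card τ = 2 := by have := C.two; omega
    have huniv : ∀ j, j = a ∨ j = b := fun j => by
      by_contra hh
      push Not at hh
      have : ({j, a, b} : Finset τ).card ≤ 2 := hcard ▸ Finset.card_le_univ _
      rw [Finset.card_insert_of_notMem (by simp [hh.1, hh.2]), Finset.card_pair hab] at this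
      omega
    have hgb := nonsing_inv_of_pureM hdet b
    let D : SpecialLinearGroup (Fin m) F → τ → Matrix (Fin m) (Fin m) F := fun A =>
      fun j => if j = a then A.1 else h b * A.1 * (h b)⁻¹
    have hD1 : ∀ A, (pureM (D A)).det = 1 := fun A => det_pureM fun j => by
      simp only [D]; split_ifs
      · exact A.2
      · rw [Matrix.det_mul, Matrix.det_mul, A.2, mul_one, ← Matrix.det_mul, hgb, Matrix.det_one]
    have hDmul : ∀ A B, D (A * B) = D A * D B := fun A B => funext fun j => by
      simp only [D, Pi.mul_apply]; split_ifs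
      · rfl
      · rw [Matrix.SpecialLinearGroup.coe_mul]
        simp only [mul_assoc]
        rw [← mul_assoc (h b)⁻¹, mul_eq_one_comm.1 hgb, one_mul]
    let δ : SpecialLinearGroup (Fin m) F →* GL (Ix τ m) F :=
      MonoidHom.mk' (fun A => glOf (pureM (D A)) (hD1 A)) fun A B => Units.ext (by
        rw [Units.val_mul]
        show pureM (D (A * B)) = pureM (D A) * pureM (D B)
        rw [pureM_mul, hDmul])
    have hδc : ∀ A, (δ A).1 * k = k * (δ A).1 := fun A => by
      show pureM (D A) * k = k * pureM (D A)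
      rw [hkv, mul_assoc, permM_mul_pureM, ← mul_assoc, ← mul_assoc, pureM_mul, pureM_mul]
      congr 2
      funext j
      simp only [Pi.mul_apply, Equiv.symm_swap]
      rcases huniv j with rfl | rfl
      · obtain ⟨c, hc⟩ := hsc' j
        rw [Equiv.swap_apply_left] at hc ⊢
        simp only [D, if_true, if_neg hab.symm]
        have e1 : h j = c • (h b)⁻¹ := by
          rw [← mul_one (h j), ← hgb, ← mul_assoc, hc, smul_one_mul]
        rw [← mul_assoc, ← mul_assoc, hc, smul_one_mul, smul_mul_assoc, e1, mul_smul_comm]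
      · rw [Equiv.swap_apply_right]
        simp only [D, if_true, if_neg hab.symm]
        rw [mul_assoc, mul_eq_one_comm.1 hgb, mul_one]
    let φ : SpecialLinearGroup (Fin m) F →* GL (Ix τ m) F := (MulAut.conj g⁻¹).toMonoidHom.comp δ
    have hφv : ∀ A, (φ A).1 = (g⁻¹).1 * (δ A).1 * g.1 := fun A => by
      show (g⁻¹ * δ A * (g⁻¹)⁻¹).1 = _
      rw [inv_inv, Units.val_mul, Units.val_mul]
    have hφM : ∀ A, φ A ∈ M := fun A => (back (δ A)).1 (C'.hyp.mono _ (hD1 A) (mono_pure _))
    have hφX : ∀ A, (φ A).1 * X = X * (φ A).1 := fun A => by rw [hφv]; exact pull _ (hδc A)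
    have hφm : ∀ A, φ A ∈ monoGroup F τ m := fun A => C.mono_of_commute_root (hφM A) hX (hφX A)
    let ψ : SpecialLinearGroup (Fin m) F →* Equiv.Perm τ := (permOf hm).comp (φ.codRestrict (monoGroup F τ m) hφm)
    have hψ : ∀ A, ψ A = 1 := by
      haveI : Nontrivial (Fin m) := Fin.nontrivial_iff_two_le.2 (by omega)
      have hperf := commutator_SL_eq_top (F := F) (ι := Fin m) (Or.inl (by rw [Fintype.card_fin]; exact hm))
      have hp : ∀ x : Equiv.Perm τ, x = 1 ∨ x = Equiv.swap a b := fun x => by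
        rcases huniv (x a) with h1 | h1 <;> rcases huniv (x b) with h2 | h2
        · exact absurd (x.injective (h1.trans h2.symm)) hab
        · refine Or.inl (Equiv.ext fun j => ?_)
          rcases huniv j with rfl | rfl
          · exact h1
          · exact h2
        · refine Or.inr (Equiv.ext fun j => ?_)
          rcases huniv j with rfl | rfl
          · rw [Equiv.swap_apply_left, h1]
          · rw [Equiv.swap_apply_right, h2]
        · exact absurd (x.injective (h1.trans h2.symm)) hab
      have hcommP : ∀ x y : Equiv.Perm τ, x * y = y * x := fun x y => by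
        rcases hp x with rfl | rfl <;> rcases hp y with rfl | rfl <;> simp
      have hle : commutator (SpecialLinearGroup (Fin m) F) ≤ ψ.ker := by
        rw [_root_.commutator_def, Subgroup.commutator_le]
        intro x _ y _
        rw [MonoidHom.mem_ker, map_commutatorElement, commutatorElement_eq_one_iff_mul_comm]
        exact hcommP _ _
      intro A
      exact hle (hperf ▸ Subgroup.mem_top A)
    obtain ⟨n0, hXn, -, hn00, hn0⟩ := hX.det_one
    have hcen := cen_of_hom hm3 h2 hn0 hn00 φ (i := i) (fun A => by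
      obtain ⟨f, σ, hf⟩ := hφm A
      refine ⟨f, σ, hf, ?_⟩
      have : σ = 1 := (permOf_eq hm (a := (φ.codRestrict (monoGroup F τ m) hφm) A) hf).symm.trans (hψ A)
      rw [this, Equiv.Perm.one_apply]) (fun A => by rw [← hXn]; exact hφX A)
    let x0 : Fin m := ⟨0, by omega⟩
    let x1 : Fin m := ⟨1, by omega⟩
    have h01 : x0 ≠ x1 := by simp [x0, x1, Fin.ext_iff]
    set A : SpecialLinearGroup (Fin m) F := ⟨1 + e x0 x1, det_one_add_single h01⟩
    obtain ⟨o, ho⟩ : ∃ o : Rest i, ∀ o', o' = o :=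
      Fintype.card_eq_one_iff.1 (by rw [Fintype.card_subtype_compl, Fintype.card_subtype_eq, hcard])
    haveI : Unique (Rest i) := ⟨⟨o⟩, ho⟩
    obtain ⟨f, σ, hf⟩ := mono_of_card_one (F := F) (Fintype.card_eq_one_iff.2 ⟨o, ho⟩) (restM i (φ A).1)
    have hσ1 : σ = 1 := Equiv.ext fun j => Subsingleton.elim _ _
    have hfo : f = Function.update (1 : Rest i → Matrix (Fin m) (Fin m) F) o (f o) := funext fun j => by rw [ho j, Function.update_self]
    have hval : (φ A).1 = embM o.1 (f o) := by
      rw [(hcen A).eq_ins, hf, hσ1, permM_one, mul_one, show pureM f = embM o (f o) from congrArg pureM hfo,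
        ins_embM]
    have hA2 : A * A = 1 := Subtype.ext (two_mul_one_add_sq h2 (e_mul_e_ne h01.symm))
    have hf2 : f o * f o = 1 := embM_injective o.1 (by
      rw [← embM_mul, ← hval, ← Units.val_mul, ← map_mul, hA2, map_one, Units.val_one, embM_one])
    have hn : (f o - 1) * (f o - 1) = 0 := by rw [sq_of_char_two h2, hf2, sub_self]
    have hne : f o - 1 ≠ 0 := fun h0 => by
      have : φ A = 1 := Units.ext (by rw [hval, sub_eq_zero.1 h0, embM_one, Units.val_one])
      have hδ1 : δ A = 1 := (MulAut.conj g⁻¹).injective (this.trans (map_one _).symm)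
      have hv : pureM (D A) * permM F m (1 : Equiv.Perm τ) = 1 := by
        rw [permM_one, mul_one]
        exact congrArg Units.val hδ1
      obtain ⟨c, hc⟩ := (eq_one_of_pure_perm hm hv).2 a
      have := congrFun₂ hc x0 x1
      simp [D, A, h01] at this
    have hr : (f o - 1).rank ≤ 1 := by
      have := two_mul_rank_le hn
      rw [Fintype.card_fin] at this
      omega
    obtain ⟨u, v, huv⟩ := exists_vecMulVec_of_rank_le_one hr
    have hu : u ≠ 0 := fun e => hne (by rw [huv, e, Matrix.zero_vecMulVec])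
    have hv : v ≠ 0 := fun e => hne (by rw [huv, e, Matrix.vecMulVec_zero])
    have h0 : v ⬝ᵥ u = 0 := by
      rw [huv, Matrix.vecMulVec_mul_vecMulVec] at hn
      rcases Matrix.vecMulVec_eq_zero.1 hn with h | h
      · exact absurd h hu
      · exact (smul_eq_zero.1 h).resolve_right hv
    have hroot : RootAt o.1 ((φ A).1 - 1) :=
      ⟨u, v, hu, hv, h0, by rw [hval, ← huv, embM_sub, embM_one]⟩
    have himg : g.1 * ((φ A).1 - 1) * (g⁻¹).1 = pureM (D A) - 1 := by
      rw [mul_sub, mul_one, sub_mul, g.mul_inv, hφv]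
      congr 1
      simp only [← mul_assoc, g.mul_inv, one_mul]
      rw [mul_assoc, g.mul_inv, mul_one]
      rfl
    rcases classify_conj hm hroot g (by rw [himg, add_sub_cancel]; exact mono_pure _) with
      ⟨j, hj⟩ | ⟨-, -, f', u', v', huv', hf'⟩
    · exact mono_of_root C.low C.hyp C'.hyp hm C.two C.notTop C'.notTop hR hroot hj
    · exfalso
      rw [himg, add_sub_cancel] at hf'
      have := perm_unique hm (g := D A) (g' := f') (σ := 1) (σ' := Equiv.swap u' v') (by rw [permM_one, mul_one, hD1]; exact one_ne_zero)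
        (by rw [permM_one, mul_one]; exact hf')
      exact huv' (Equiv.swap_eq_one_iff.1 this.symm)

end CfsgLib.Classical.TensorWreath
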