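import Cfsg.Agent.Lib.Classical.TensorWreath.ThreeEven

set_option autoImplicit false
set_option linter.unusedSectionVars false

/-!
Characteristic two, factors of dimension three: the conclusion.
-/

namespace CfsgLib.Classical.TensorWreath

open Matrix
open scoped MatrixGroups Kronecker

variable {F : Type*} [Field F] [Fintype F] {τ : Type} [Fintype τ] [DecidableEq τ]
variable {M : Subgroup (GL (Ix τ 3) F)}

theorem exists_common_kernel {n n' : Matrix (Fin 3) (Fin 3) F} (hn : n * n = 0) (hn' : n' * n' = 0) :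
    ∃ x : Fin 3 → F, x ≠ 0 ∧ n *ᵥ x = 0 ∧ n' *ᵥ x = 0 := by
  have hr : ∀ N : Matrix (Fin 3) (Fin 3) F, N * N = 0 → N.rank ≤ 1 := fun N hN => by
    have := two_mul_rank_le hN
    rw [Fintype.card_fin] at this
    omega
  obtain ⟨u, v, huv⟩ := exists_vecMulVec_of_rank_le_one (hr n hn)
  obtain ⟨u', v', huv'⟩ := exists_vecMulVec_of_rank_le_one (hr n' hn')
  let L : (Fin 3 → F) →ₗ[F] F × F :=
    { toFun := fun x => (v ⬝ᵥ x, v' ⬝ᵥ x)
      map_add' := fun x y => by simp [dotProduct_add]
      map_smul' := fun c x => by simp [dotProduct_smul] }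
  have hk : LinearMap.ker L ≠ ⊥ := LinearMap.ker_ne_bot_of_finrank_lt (by simp)
  obtain ⟨x, hx, hx0⟩ := Submodule.exists_mem_ne_zero_of_ne_bot hk
  rw [LinearMap.mem_ker] at hx
  have h1 : v ⬝ᵥ x = 0 := congrArg Prod.fst hx
  have h2 : v' ⬝ᵥ x = 0 := congrArg Prod.snd hx
  refine ⟨x, hx0, ?_, ?_⟩
  · rw [huv, Matrix.vecMulVec_mulVec, h1]; simp
  · rw [huv', Matrix.vecMulVec_mulVec, h2]; simp

/-- If `k` commutes with the square of a product of two root elements, these commute. -/
theorem Ctx.commute_of_sq (C : Ctx M) (h2 : (2 : F) = 0) {k : GL (Ix τ 3) F} (hkM : k ∈ M) (hkm : ¬ Mono k.1) (i : τ)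
    {n n' : Matrix (Fin 3) (Fin 3) F} (hn : n * n = 0) (hn' : n' * n' = 0)
    (h : k.1 * embM i ((1 + n) * (1 + n') * ((1 + n) * (1 + n'))) =
      embM i ((1 + n) * (1 + n') * ((1 + n) * (1 + n'))) * k.1) : n * n' = n' * n := by
  set b := (1 + n) * (1 + n') * ((1 + n) * (1 + n')) with hb
  by_cases hb1 : b = 1
  · have u1 := two_mul_one_add_sq h2 hn
    have u2 := two_mul_one_add_sq h2 hn'
    have : (1 + n') * (1 + n) = (1 + n) * (1 + n') := by
      calc (1 + n') * (1 + n) = (1 + n') * (1 + n) * b := by rw [hb1, mul_one]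
        _ = (1 + n') * ((1 + n) * (1 + n)) * (1 + n') * ((1 + n) * (1 + n')) := by rw [hb]; simp only [mul_assoc]
        _ = _ := by rw [u1, mul_one, u2, one_mul]
    simp only [mul_add, add_mul, mul_one, one_mul] at this
    have h3 : n' * n - n * n' = 0 := by
      calc n' * n - n * n' = (1 + n' + (n + n' * n)) - (1 + n + (n' + n * n')) := by abel
        _ = 0 := by rw [this, sub_self]
    exact (sub_eq_zero.1 h3).symm
  exfalso
  refine hkm (C.mono_of_commute_embM' hkM (i := i) (c := b - 1) (sub_ne_zero.2 hb1) ?_ ?_)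
  · obtain ⟨x, hx, hx1, hx2⟩ := exists_common_kernel hn hn'
    refine Matrix.exists_mulVec_eq_zero_iff.1 ⟨x, hx, ?_⟩
    have e1 : (1 + n) *ᵥ x = x := by rw [Matrix.add_mulVec, Matrix.one_mulVec, hx1, add_zero]
    have e2 : (1 + n') *ᵥ x = x := by rw [Matrix.add_mulVec, Matrix.one_mulVec, hx2, add_zero]
    rw [Matrix.sub_mulVec, Matrix.one_mulVec, hb, ← Matrix.mulVec_mulVec, ← Matrix.mulVec_mulVec,
      ← Matrix.mulVec_mulVec, e2, e1, e2, e1, sub_self]
  · rw [embM_sub, embM_one, mul_sub, sub_mul, mul_one, one_mul, h]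

/-- The elements paired with the roots of two factors. -/
def Trip (k : GL (Ix τ 3) F) (a b j : τ) (n n' r : Matrix (Fin 3) (Fin 3) F) : Prop :=
  k.1 * (embM a (1 + n) * embM b (1 + n') * embM j (1 + r)) = embM a (1 + n) * embM b (1 + n') * embM j (1 + r) * k.1

/-- The involution over a product of two roots. -/
theorem Ctx.exists_trip (C : Ctx M) (h2 : (2 : F) = 0) {a b : τ} (hab : a ≠ b) {g x k : GL (Ix τ 3) F} (hg : g ∈ M)
    (hxM : x ∈ M) (hxv : x.1 = 1 + embM a (e 0 1)) (hk : k = g * x * g⁻¹) (hkm : ¬ Mono k.1)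
    {n n' : Matrix (Fin 3) (Fin 3) F} (hn0 : n ≠ 0) (hn : n * n = 0) (hn0' : n' ≠ 0) (hn' : n' * n' = 0) :
    ∃ (j : τ) (r : Matrix (Fin 3) (Fin 3) F), j ≠ a ∧ j ≠ b ∧ r ≠ 0 ∧ r * r = 0 ∧ Trip k a b j n n' r := by
  have hX : RootAt a (embM a (e 0 1) : Matrix (Ix τ 3) (Ix τ 3) F) := rootAt_e a (by decide)
  have hx2 : x * x = 1 := Ctx.invol_sq h2 hxv (rootAt_sq hX)
  have hxm : Mono x.1 := by
    rw [hxv, ← embM_one (F := F) (m := 3) a, ← embM_add]; exact mono_pure _
  have hkM : k ∈ M := hk ▸ M.mul_mem (M.mul_mem hg hxM) (M.inv_mem hg)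
  have hgm : ¬ Mono g.1 := fun h => hkm (hk ▸ by
    rw [Units.val_mul, Units.val_mul]; exact (h.mul hxm).mul (mono_inv h))
  have hk2 : k * k = 1 := by rw [hk, show g * x * g⁻¹ * (g * x * g⁻¹) = g * (x * x) * g⁻¹ by group, hx2]; group
  set y := embU a (1 + n) (one_add_det_of_sq h2 hn) * embU b (1 + n') (one_add_det_of_sq h2 hn') with hy
  have hyv : y.1 = embM a (1 + n) * embM b (1 + n') := by rw [hy, Units.val_mul, embU_val, embU_val]
  have hyM : y ∈ M := M.mul_mem (C.hyp.embU_mem a _ _) (C.hyp.embU_mem b _ _)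
  have hym : Mono y.1 := by rw [hyv]; exact (mono_pure _).mul (mono_pure _)
  have hy2 : y * y = 1 := Units.ext (by
    rw [Units.val_mul, hyv, Units.val_one, mul_assoc, ← mul_assoc (embM b _), embM_comm hab.symm, mul_assoc (embM a _),
      ← mul_assoc, embM_mul, embM_mul, two_mul_one_add_sq h2 hn, two_mul_one_add_sq h2 hn', embM_one, embM_one,
      one_mul])
  have hCy : ∀ h ∈ M, h * y = y * h → Mono h.1 := fun h hh hc =>
    C.mono_of_commute_two h2 hab hn0 hn hn0' hn' hh (by rw [← hyv, ← Units.val_mul, ← Units.val_mul, hc])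
  rcases dihedral_cases hk2 hy2 with ⟨c, -, hc⟩ | ⟨z, hz, hzz, hz1, hzk, hzy, hcases⟩
  · exfalso
    set A := (restM a (embM b (1 + n') : Matrix (Ix τ 3) (Ix τ 3) F)) with hA
    have hAv : (embM b (1 + n') : Matrix (Ix τ 3) (Ix τ 3) F) = ins a A 1 :=
      (cen_embM hab _).eq_ins
    have hyi : y.1 = ins a A (1 + n) := by
      rw [hyv, hAv, embM_eq_ins, ins_mul, mul_one, one_mul]
    have h1 := le_rank_ins_sub_one (i := a) (A := A) (b := 1 + n)
    rw [← hyi, add_sub_cancel_left] at h1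
    have hn1 : n.rank = 1 := by
      have := rank_pos hn0
      have := two_mul_rank_le hn
      rw [Fintype.card_fin] at this
      omega
    rw [hn1] at h1
    have hA0 : 0 < (A - 1).rank := rank_pos fun h => hn0' (by
      have h3 : (embM b (1 + n') : Matrix (Ix τ 3) (Ix τ 3) F) = embM b 1 := by
        rw [hAv, sub_eq_zero.1 h, ins_one_one, embM_one]
      have := embM_injective b h3
      rwa [add_eq_left] at this)
    have hAr := Matrix.rank_le_card_width (A - 1)
    have h4 : (y.1 - 1).rank ≤ Fintype.card (Ix (Rest a) 3) := by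
      rw [hc, hk, show c * (g * x * g⁻¹) * c⁻¹ = (c * g) * x * (c * g)⁻¹ by group, conj_val (c * g) hxv,
        add_sub_cancel_left, rank_conj]
      exact rootAt_rank hX a
    omega
  have hcl := closure_pair_le hkM hyM
  have hzM : z ∈ M := hcl hz
  have hzm : Mono z.1 := hCy z hzM hzy
  rcases hcases with ⟨⟨c, hc, hck⟩, -⟩ | ⟨-, ⟨c, hc, hcy⟩⟩
  · exact (C.no_even h2 hg hgm hxM hxv hk hzM hzm hzz hz1 hzk (hcl hc) hck).elim
  have hu : (c * g) * x * (c * g)⁻¹ = z * y := by rw [hcy, hk]; group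
  obtain ⟨j, hj⟩ := C.rootAt_of_mono_conj (M.mul_mem (hcl hc) hg) hX
    (by rw [← conj_val (c * g) hxv, hu, Units.val_mul]; exact hzm.mul hym)
  obtain ⟨r, hr, -, hrr, hr0⟩ := hj.det_one
  have hzv : z.1 = embM j (1 + r) * (embM a (1 + n) * embM b (1 + n')) := by
    rw [show z = (z * y) * y by rw [mul_assoc, hy2, mul_one], Units.val_mul, ← hu, conj_val (c * g) hxv, hr, hyv,
      embM_add j, embM_one]
  have hja : j ≠ a := by
    rintro rfl
    have hz3 : z.1 = embM j ((1 + r) * (1 + n)) * embM b (1 + n') := by rw [hzv, ← mul_assoc, embM_mul]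
    have hw : (1 + r) * (1 + n) * ((1 + r) * (1 + n)) = 1 := embM_injective j (by
      have h5 := congrArg Units.val hzz
      rw [Units.val_mul, hz3, Units.val_one, mul_assoc, ← mul_assoc (embM b _), embM_comm hab.symm,
        mul_assoc (embM j _), ← mul_assoc, embM_mul, embM_mul, two_mul_one_add_sq h2 hn', embM_one, mul_one] at h5
      rw [h5, embM_one])
    exact hkm (C.mono_of_commute_invol_root h2 hab hw hn0' hn' hz3 hzz hz1 hkM hzk)
  have hjb : j ≠ b := by
    rintro rfl
    have hz3 : z.1 = embM j ((1 + r) * (1 + n')) * embM a (1 + n) := by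
      rw [hzv, embM_comm hab, ← mul_assoc, embM_mul]
    have hw : (1 + r) * (1 + n') * ((1 + r) * (1 + n')) = 1 := embM_injective j (by
      have h5 := congrArg Units.val hzz
      rw [Units.val_mul, hz3, Units.val_one, mul_assoc, ← mul_assoc (embM a _), embM_comm hab,
        mul_assoc (embM j _), ← mul_assoc, embM_mul, embM_mul, two_mul_one_add_sq h2 hn, embM_one, mul_one] at h5
      rw [h5, embM_one])
    exact hkm (C.mono_of_commute_invol_root h2 hab.symm hw hn0 hn hz3 hzz hz1 hkM hzk)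
  refine ⟨j, r, hja, hjb, hr0, hrr, ?_⟩
  have he : embM a (1 + n) * embM b (1 + n') * embM j (1 + r) = z.1 := by
    rw [hzv, ← mul_assoc (embM j (1 + r)), embM_comm hja, mul_assoc (embM a (1 + n)) (embM j (1 + r)),
      embM_comm hjb, ← mul_assoc]
  show k.1 * _ = _ * k.1
  rw [he, ← Units.val_mul, ← Units.val_mul, hzk]

theorem three_commute {a b : τ} (hab : a ≠ b) {j : τ} (hja : j ≠ a) (hjb : j ≠ b)
    (u u' v v' w w' : Matrix (Fin 3) (Fin 3) F) :
    (embM a u * embM b v * embM j w) * (embM a u' * embM b v' * embM j w') =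
      embM a (u * u') * embM b (v * v') * (embM j (w * w') : Matrix (Ix τ 3) (Ix τ 3) F) := by
  rw [← embM_mul, ← embM_mul, ← embM_mul]
  simp only [mul_assoc]
  rw [← mul_assoc (embM j w) (embM a u'), embM_comm hja, mul_assoc (embM a u') (embM j w),
    ← mul_assoc (embM b v) (embM a u'), embM_comm hab.symm, mul_assoc (embM a u') (embM b v),
    ← mul_assoc (embM j w) (embM b v'), embM_comm hjb, mul_assoc (embM b v') (embM j w)]

/-- The case of characteristic two and `m = 3`. -/
theorem Ctx.allMono_three (C : Ctx M) (h2 : (2 : F) = 0) {g : GL (Ix τ 3) F} (hg : g ∈ M) : Mono g.1 := by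
  classical
  haveI : Nonempty τ := Fintype.card_pos_iff.1 (by have := C.two; omega)
  let a : τ := Classical.arbitrary τ
  obtain ⟨b, hba⟩ := Fintype.exists_ne_of_one_lt_card (show 1 < Fintype.card τ by have := C.two; omega) a
  have hab : a ≠ b := hba.symm
  have he : (e 0 1 : Matrix (Fin 3) (Fin 3) F) * e 0 1 = 0 := e_mul_e_ne (by decide)
  have hX : RootAt a (embM a (e 0 1) : Matrix (Ix τ 3) (Ix τ 3) F) := rootAt_e a (by decide)
  obtain ⟨x, hxM, hxv, -⟩ := C.exists_rootGL hX
  obtain ⟨k, hkM, hkv⟩ := (Rel.refl hg).inM ⟨x, hxM, hxv⟩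
  by_cases hkm : Mono k.1
  · exact C.mono_of_conj_root hg hX (hkv ▸ hkm)
  exfalso
  have hk : k = g * x * g⁻¹ := Units.ext (by rw [conj_val g hxv, hkv])
  let T := {N : Matrix (Fin 3) (Fin 3) F // N ≠ 0 ∧ N * N = 0}
  have data : ∀ p : T × T, ∃ (j : τ) (r : Matrix (Fin 3) (Fin 3) F), j ≠ a ∧ j ≠ b ∧ r ≠ 0 ∧ r * r = 0 ∧
      Trip k a b j p.1.1 p.2.1 r := fun p => C.exists_trip h2 hab hg hxM hxv hk hkm p.1.2.1 p.1.2.2 p.2.2.1 p.2.2.2
  choose f ρ hfa hfb hρ0 hρ hT using data
  have hsame1 : ∀ n n' q : T, n.1 * n'.1 ≠ n'.1 * n.1 → f (n, q) = f (n', q) := by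
    intro n n' q hne
    by_contra hf
    refine hne (C.commute_of_sq h2 hkM hkm a n.2.2 n'.2.2 ?_)
    have c1 : Commute k.1 _ := hT (n, q)
    have c2 : Commute k.1 _ := hT (n', q)
    have c3 := (c1.mul_right c2).mul_right (c1.mul_right c2)
    have u2 := two_mul_one_add_sq h2 q.2.2
    set J := (embM (f (n, q)) (1 + ρ (n, q)) : Matrix (Ix τ 3) (Ix τ 3) F) with hJ
    set J' := (embM (f (n', q)) (1 + ρ (n', q)) : Matrix (Ix τ 3) (Ix τ 3) F) with hJ'
    have e1 : embM a (1 + n.1) * embM b (1 + q.1) * J * (embM a (1 + n'.1) * embM b (1 + q.1) * J') =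
        embM a ((1 + n.1) * (1 + n'.1)) * (J * J') := by
      have a1 : J * embM a (1 + n'.1) = embM a (1 + n'.1) * J := embM_comm (hfa (n, q)) _ _
      have a2 : J * embM b (1 + q.1) = embM b (1 + q.1) * J := embM_comm (hfb (n, q)) _ _
      rw [← embM_mul]
      simp only [mul_assoc]
      rw [← mul_assoc J (embM a _), a1, mul_assoc _ J, ← mul_assoc (embM b _) (embM a _), embM_comm hab.symm,
        mul_assoc (embM a (1 + n'.1)) (embM b (1 + q.1)), ← mul_assoc J (embM b _), a2, mul_assoc _ J J',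
        ← mul_assoc (embM b (1 + q.1)) (embM b (1 + q.1)), embM_mul, u2, embM_one, one_mul]
    have e2 : J * J' * (J * J') = 1 := by
      have a3 : J' * J = J * J' := embM_comm (Ne.symm hf) _ _
      have j1 : J * J = 1 := by rw [hJ, embM_mul, two_mul_one_add_sq h2 (hρ _), embM_one]
      have j2 : J' * J' = 1 := by rw [hJ', embM_mul, two_mul_one_add_sq h2 (hρ _), embM_one]
      rw [mul_assoc, ← mul_assoc J', a3, mul_assoc J J' J', j2, mul_one, j1]
    have e3 : embM a ((1 + n.1) * (1 + n'.1)) * (J * J') * (embM a ((1 + n.1) * (1 + n'.1)) * (J * J')) =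
        embM a ((1 + n.1) * (1 + n'.1) * ((1 + n.1) * (1 + n'.1))) := by
      have a4 : J * J' * embM a ((1 + n.1) * (1 + n'.1)) = embM a ((1 + n.1) * (1 + n'.1)) * (J * J') :=
        ((cen_embM (hfa (n, q)).symm _).mul (cen_embM (hfa (n', q)).symm _) _).symm
      rw [mul_assoc, ← mul_assoc (J * J'), a4, mul_assoc _ (J * J') (J * J'), e2, mul_one, embM_mul]
    rw [e1, e3] at c3
    exact c3.eq
  have hsame2 : ∀ q n n' : T, n.1 * n'.1 ≠ n'.1 * n.1 → f (q, n) = f (q, n') := by
    intro q n n' hne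
    by_contra hf
    refine hne (C.commute_of_sq h2 hkM hkm b n.2.2 n'.2.2 ?_)
    have c1 : Commute k.1 _ := hT (q, n)
    have c2 : Commute k.1 _ := hT (q, n')
    have c3 := (c1.mul_right c2).mul_right (c1.mul_right c2)
    have u2 := two_mul_one_add_sq h2 q.2.2
    set J := (embM (f (q, n)) (1 + ρ (q, n)) : Matrix (Ix τ 3) (Ix τ 3) F) with hJ
    set J' := (embM (f (q, n')) (1 + ρ (q, n')) : Matrix (Ix τ 3) (Ix τ 3) F) with hJ'
    have e1 : embM a (1 + q.1) * embM b (1 + n.1) * J * (embM a (1 + q.1) * embM b (1 + n'.1) * J') =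
        embM b ((1 + n.1) * (1 + n'.1)) * (J * J') := by
      have a1 : J * embM a (1 + q.1) = embM a (1 + q.1) * J := embM_comm (hfa (q, n)) _ _
      have a2 : J * embM b (1 + n'.1) = embM b (1 + n'.1) * J := embM_comm (hfb (q, n)) _ _
      rw [← embM_mul]
      simp only [mul_assoc]
      rw [← mul_assoc J (embM a _), a1, mul_assoc _ J, ← mul_assoc (embM b (1 + n.1)) (embM a _), embM_comm hab.symm,
        mul_assoc (embM a (1 + q.1)) (embM b (1 + n.1)), ← mul_assoc (embM a (1 + q.1)) (embM a (1 + q.1)), embM_mul,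
        u2, embM_one, one_mul, ← mul_assoc J (embM b _), a2, mul_assoc _ J J']
    have e2 : J * J' * (J * J') = 1 := by
      have a3 : J' * J = J * J' := embM_comm (Ne.symm hf) _ _
      have j1 : J * J = 1 := by rw [hJ, embM_mul, two_mul_one_add_sq h2 (hρ _), embM_one]
      have j2 : J' * J' = 1 := by rw [hJ', embM_mul, two_mul_one_add_sq h2 (hρ _), embM_one]
      rw [mul_assoc, ← mul_assoc J', a3, mul_assoc J J' J', j2, mul_one, j1]
    have e3 : embM b ((1 + n.1) * (1 + n'.1)) * (J * J') * (embM b ((1 + n.1) * (1 + n'.1)) * (J * J')) =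
        embM b ((1 + n.1) * (1 + n'.1) * ((1 + n.1) * (1 + n'.1))) := by
      have a4 : J * J' * embM b ((1 + n.1) * (1 + n'.1)) = embM b ((1 + n.1) * (1 + n'.1)) * (J * J') :=
        ((cen_embM (hfb (q, n)).symm _).mul (cen_embM (hfb (q, n')).symm _) _).symm
      rw [mul_assoc, ← mul_assoc (J * J'), a4, mul_assoc _ (J * J') (J * J'), e2, mul_one, embM_mul]
    rw [e1, e3] at c3
    exact c3.eq
  -- the roots with a fixed point
  let W := {p : F × F // p ≠ 0}
  let nm : W → Matrix (Fin 3) (Fin 3) F := fun p => Matrix.vecMulVec (Pi.single 0 1) ![0, p.1.1, p.1.2]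
  have hnm0 : ∀ p, nm p ≠ 0 := fun p h => p.2 (Prod.ext
    (by simpa [nm, Matrix.vecMulVec_apply] using congrFun₂ h 0 1)
    (by simpa [nm, Matrix.vecMulVec_apply] using congrFun₂ h 0 2))
  have hnmm : ∀ p p', nm p * nm p' = 0 := fun p p' => by
    simp only [nm]
    rw [Matrix.vecMulVec_mul_vecMulVec]
    simp
  let em : W → T := fun p => ⟨nm p, hnm0 p, hnmm p p⟩
  have heminj : Function.Injective em := fun p p' h => by
    have h' : nm p = nm p' := congrArg Subtype.val h
    refine Subtype.ext (Prod.ext ?_ ?_)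
    · simpa [nm, Matrix.vecMulVec_apply] using congrFun₂ h' 0 1
    · simpa [nm, Matrix.vecMulVec_apply] using congrFun₂ h' 0 2
  let E : T := ⟨e 1 0, fun h => by simpa using congrFun₂ h 1 0, e_mul_e_ne (by decide)⟩
  have hEne : ∀ p, E.1 * (em p).1 ≠ (em p).1 * E.1 := fun p h => by
    refine p.2 (Prod.ext ?_ ?_)
    · simpa [E, em, nm, Matrix.mul_apply, Fin.sum_univ_three, Matrix.vecMulVec_apply] using congrFun₂ h 1 1
    · simpa [E, em, nm, Matrix.mul_apply, Fin.sum_univ_three, Matrix.vecMulVec_apply] using congrFun₂ h 1 2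
  set j := f (E, E) with hj
  have hconst : ∀ p p' : W, f (em p, em p') = j := fun p p' => by
    rw [← hsame1 E (em p) (em p') (hEne p), ← hsame2 E E (em p') (hEne p')]
  let R : W × W → Matrix (Fin 3) (Fin 3) F := fun pp => ρ (em pp.1, em pp.2)
  have hTr : ∀ pp : W × W, Commute k.1 (embM a (1 + nm pp.1) * embM b (1 + nm pp.2) * embM j (1 + R pp)) := fun pp => by
    have h : Commute k.1 _ := hT (em pp.1, em pp.2)
    rwa [hconst] at h
  have hja : j ≠ a := hfa _
  have hjb : j ≠ b := hfb _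
  have hsum : ∀ p p', (1 + nm p) * (1 + nm p') = 1 + (nm p + nm p') := fun p p' => by
    rw [mul_add, mul_one, add_mul, one_mul, hnmm, add_zero, add_assoc]
  have hsq : ∀ p p', (1 + nm p) * (1 + nm p') * ((1 + nm p) * (1 + nm p')) = 1 := fun p p' => by
    rw [hsum, two_mul_one_add_sq h2]
    simp only [add_mul, mul_add, hnmm, add_zero]
  have hcom : ∀ pp pp', R pp * R pp' = R pp' * R pp := fun pp pp' => by
    refine C.commute_of_sq h2 hkM hkm j (hρ _) (hρ _) ?_
    have c := ((hTr pp).mul_right (hTr pp')).mul_right ((hTr pp).mul_right (hTr pp'))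
    rw [three_commute hab hja hjb, three_commute hab hja hjb, hsq, hsq, embM_one, embM_one, one_mul, one_mul] at c
    exact c.eq
  have hinj : Function.Injective R := by
    intro pp pp' hR
    by_contra hne
    set u := (1 + nm pp.1) * (1 + nm pp'.1) with hu
    set v := (1 + nm pp.2) * (1 + nm pp'.2) with hv
    have c := (hTr pp).mul_right (hTr pp')
    rw [three_commute hab hja hjb, hR, two_mul_one_add_sq h2 (hρ _), embM_one, mul_one, ← hu, ← hv] at c
    have hu2 : u * u = 1 := hsq _ _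
    have hv2 : v * v = 1 := hsq _ _
    have hdet : ∀ w : Matrix (Fin 3) (Fin 3) F, w * w = 1 → w.det = 1 := fun w hw => by
      have := one_add_det_of_sq h2 (N := w - 1) (by rw [sq_of_char_two h2, hw, sub_self])
      rwa [add_sub_cancel] at this
    set z := embU a u (hdet u hu2) * embU b v (hdet v hv2) with hz
    have hzv : z.1 = embM a u * embM b v := by rw [hz, Units.val_mul, embU_val, embU_val]
    have hzk : z * k = k * z := Units.ext ((Units.val_mul _ _).trans
      (((show z.1 * k.1 = k.1 * z.1 by rw [hzv, c.eq])).trans (Units.val_mul _ _).symm))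
    have hzz : z * z = 1 := Units.ext (by
      rw [Units.val_mul, hzv, Units.val_one, mul_assoc, ← mul_assoc (embM b v), embM_comm hab.symm,
        mul_assoc (embM a u), ← mul_assoc, embM_mul, embM_mul, hu2, hv2, embM_one, embM_one, one_mul])
    have hinv : ∀ p p' : W, (1 + nm p) * (1 + nm p') = 1 → p = p' := fun p p' h => by
      rw [hsum, add_eq_left] at h
      have : nm p = nm p' := by
        rw [eq_neg_of_add_eq_zero_left h]
        exact neg_eq_of_add_eq_zero_left (char_two_add_self h2 _)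
      exact heminj (Subtype.ext this)
    by_cases hv1 : v = 1
    · have hu1 : u ≠ 1 := fun h => hne (Prod.ext (hinv _ _ h) (hinv _ _ hv1))
      refine hkm (C.mono_of_commute_single h2 (j := a) (b := u) (by rw [hzv, hv1, embM_one, mul_one]) hzz
        (fun h => hu1 (embM_injective a ?_)) hkM hzk)
      have := congrArg Units.val h
      rw [hzv, hv1, embM_one, mul_one, Units.val_one] at this
      rw [this, embM_one]
    · refine hkm (C.mono_of_commute_invol_root h2 hab hu2 (n := v - 1) (sub_ne_zero.2 hv1)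
        (by rw [sq_of_char_two h2, hv2, sub_self]) (by rw [add_sub_cancel]; exact hzv) hzz (fun h => ?_) hkM hzk)
      have h5 := congrArg Units.val h
      rw [hzv, Units.val_one] at h5
      have h6 : (embM a u : Matrix (Ix τ 3) (Ix τ 3) F) = embM b v := by
        calc embM a u = embM a u * (embM b v * embM b v) := by rw [embM_mul, hv2, embM_one, mul_one]
          _ = embM b v := by rw [← mul_assoc, h5, one_mul]
      obtain ⟨s, hs⟩ := embM_eq_scalar hab.symm h6.symm
      rw [hs, smul_mul_smul_comm, mul_one] at hv2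
      have h01 := congrFun₂ hv2 0 0
      simp at h01
      have hs1 : s = 1 := sub_eq_zero.1 (mul_self_eq_zero.1
        (show (s - 1) * (s - 1) = 0 by linear_combination h01 - (s - 1) * h2))
      exact hv1 (by rw [hs, hs1, one_smul])
  have hle := card_commuting_le (Finset.univ.image R)
    (fun N hN => by
      obtain ⟨pp, -, rfl⟩ := Finset.mem_image.1 hN
      exact ⟨hρ0 _, hρ _⟩)
    (fun N hN N' hN' => by
      obtain ⟨pp, -, rfl⟩ := Finset.mem_image.1 hN
      obtain ⟨pp', -, rfl⟩ := Finset.mem_image.1 hN'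
      exact hcom pp pp')
  rw [Finset.card_image_of_injective _ hinj, Finset.card_univ, Fintype.card_prod, Fintype.card_subtype_compl,
    Fintype.card_subtype_eq, Fintype.card_prod, ← pow_two (Fintype.card F)] at hle
  have hq : 4 ≤ Fintype.card F ^ 2 := by
    have := Fintype.one_lt_card (α := F)
    nlinarith
  obtain ⟨t, ht⟩ : ∃ t, Fintype.card F ^ 2 - 1 = t + 3 := ⟨Fintype.card F ^ 2 - 4, by omega⟩
  rw [ht] at hle
  nlinarith

end CfsgLib.Classical.TensorWreath
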