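import Cfsg.Agent.Lib.Classical.TensorWreath.Four

set_option autoImplicit false
set_option linter.unusedSectionVars false

/-!
Components at one factor, and facts on square zero matrices of size three.
-/

namespace CfsgLib.Classical.TensorWreath

open Matrix
open scoped MatrixGroups Kronecker

variable {F : Type*} [Field F] {m : ℕ}

theorem char_two_add_self {R : Type*} [AddCommGroup R] [Module F R] (h2 : (2 : F) = 0) (x : R) : x + x = 0 := by
  rw [← two_smul F x, h2, zero_smul]

theorem one_add_sq {R : Type*} [Ring R] [Module F R] (h2 : (2 : F) = 0) (x : R) :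
    (1 + x) * (1 + x) = 1 + x * x := by
  rw [show (1 + x) * (1 + x) = 1 + (x + x) + x * x by noncomm_ring, char_two_add_self h2, add_zero]

variable {τ : Type} [Fintype τ] [DecidableEq τ]

theorem split_mono {h : τ → Matrix (Fin m) (Fin m) F} {σ : Equiv.Perm τ} {i : τ} (hσ : σ i = i) :
    pureM h * permM F m σ = embM i (h i) * (pureM (Function.update h i 1) * permM F m σ) ∧
      Cen i (pureM (Function.update h i 1) * permM F m σ) := by
  refine ⟨?_, fun b => ?_⟩
  · rw [← mul_assoc]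
    congr 1
    rw [embM, pureM_mul, ← Function.update_mul, one_mul, mul_one, Function.update_eq_self]
  · have h1 := mono_mul_embM (g := Function.update h i 1) (g' := fun _ => 1) σ i (by simp [hσ]) b
    rw [hσ, Function.update_self, one_mul, mul_one] at h1
    exact h1.symm

theorem exists_split_invol [Finite F] (hm : 3 ≤ m) (h2 : (2 : F) = 0) {h : τ → Matrix (Fin m) (Fin m) F}
    {σ : Equiv.Perm τ} {i : τ} (hz : pureM h * permM F m σ * (pureM h * permM F m σ) = 1) (hσ : σ i = i) :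
    ∃ (n : Matrix (Fin m) (Fin m) F) (A : Matrix (Ix τ m) (Ix τ m) F), n * n = 0 ∧
      pureM h * permM F m σ = embM i (1 + n) * A ∧ Cen i A ∧ IsUnit A := by
  haveI : NeZero m := ⟨by omega⟩
  haveI : Nonempty (Fin m) := ⟨0⟩
  have hd : (pureM h).det ≠ 0 := fun h0 => by
    have := congrArg Matrix.det hz
    rw [Matrix.det_mul, Matrix.det_mul, h0, zero_mul, zero_mul, Matrix.det_one] at this
    exact zero_ne_one this
  obtain ⟨e1, hA⟩ := split_mono (h := h) hσ
  have hu : IsUnit (pureM h * permM F m σ) := IsUnit.of_mul_eq_one _ hz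
  have hsc := hz
  rw [mono_mul_self] at hsc
  obtain ⟨c, hc⟩ := (eq_one_of_pure_perm hm hsc).2 i
  rw [Pi.mul_apply, show σ.symm i = i by rw [Equiv.symm_apply_eq, hσ]] at hc
  obtain ⟨d, hd'⟩ := exists_sq h2 c
  have hd0 : d ≠ 0 := fun h0 => by
    rw [← hd', h0, mul_zero, zero_smul] at hc
    have := congrArg Matrix.det hc
    rw [Matrix.det_mul, Matrix.det_zero] at this
    exact det_ne_zero_of_pureM hd i (mul_self_eq_zero.1 this)
  refine ⟨d⁻¹ • h i - 1, d • (pureM (Function.update h i 1) * permM F m σ), ?_, ?_, hA.smul d, ?_⟩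
  · rw [sq_of_char_two h2, smul_mul_smul_comm, hc, smul_smul, ← hd', ← mul_inv,
      inv_mul_cancel₀ (mul_ne_zero hd0 hd0), one_smul, sub_self]
  · rw [add_sub_cancel, embM_smul, smul_mul_smul_comm, inv_mul_cancel₀ hd0, one_smul, ← e1]
  · have h1 := (Matrix.isUnit_iff_isUnit_det _).1 hu
    rw [e1, Matrix.det_mul] at h1
    refine (Matrix.isUnit_iff_isUnit_det _).2 ?_
    rw [Matrix.det_smul]
    exact ((IsUnit.mk0 d hd0).pow _).mul (isUnit_of_mul_isUnit_right h1)

theorem exists_smul_of_ins_eq [NeZero m] {i : τ} {X X' : Matrix (Ix (Rest i) m) (Ix (Rest i) m) F}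
    {b b' : Matrix (Fin m) (Fin m) F} (hX : X ≠ 0) (h : ins i X b = ins i X' b') : ∃ s : F, b = s • b' := by
  obtain ⟨p, q, hpq⟩ : ∃ p q, X p q ≠ 0 := by
    by_contra hh
    push Not at hh
    exact hX (Matrix.ext hh)
  refine ⟨(X p q)⁻¹ * X' p q, Matrix.ext fun x y => ?_⟩
  have h1 := congrFun₂ h ((spl i).symm (p, x)) ((spl i).symm (q, y))
  simp only [ins, Matrix.submatrix_apply, Equiv.apply_symm_apply, Matrix.kronecker_apply] at h1
  rw [Matrix.smul_apply, smul_eq_mul, mul_assoc, ← h1, ← mul_assoc, inv_mul_cancel₀ hpq, one_mul]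

/-- Commuting elements: the components of an involution at a fixed factor commute. -/
theorem comm_component [NeZero m] (h2 : (2 : F) = 0) {i : τ} {c n : Matrix (Fin m) (Fin m) F}
    {A P' : Matrix (Ix τ m) (Ix τ m) F} (hn : n * n = 0) (hA : Cen i A) (hAu : IsUnit A) (hP : Cen i P')
    (hPu : IsUnit (embM i c * P'))
    (h : embM i c * P' * (embM i (1 + n) * A) = embM i (1 + n) * A * (embM i c * P')) :
    embM i c * P' * embM i n = embM i n * (embM i c * P') := by
  haveI : Nonempty (Ix τ m) := ⟨fun _ => 0⟩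
  have h1 : embM i (c * (1 + n)) * (P' * A) = embM i ((1 + n) * c) * (A * P') := by
    have e1 : embM i c * P' * (embM i (1 + n) * A) = embM i (c * (1 + n)) * (P' * A) := by
      rw [mul_assoc, ← mul_assoc P', ← hP, ← embM_mul]
      simp only [mul_assoc]
    have e2 : embM i (1 + n) * A * (embM i c * P') = embM i ((1 + n) * c) * (A * P') := by
      rw [mul_assoc, ← mul_assoc A, ← hA, ← embM_mul]
      simp only [mul_assoc]
    rwa [e1, e2] at h
  have hdP := (Matrix.isUnit_iff_isUnit_det _).1 hPu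
  rw [Matrix.det_mul] at hdP
  have hPA : IsUnit (P' * A) := ((Matrix.isUnit_iff_isUnit_det _).2 (isUnit_of_mul_isUnit_right hdP)).mul hAu
  have h2' := h1
  rw [(hP.mul hA).eq_ins, (hA.mul hP).eq_ins, embM_eq_ins, embM_eq_ins, ins_mul, ins_mul, one_mul, one_mul, mul_one,
    mul_one] at h2'
  obtain ⟨s, hs⟩ := exists_smul_of_ins_eq (fun h0 => by
    have := (hP.mul hA).eq_ins
    rw [h0] at this
    refine hPA.ne_zero ?_
    rw [this]
    ext x y
    simp [ins_apply]) h2'
  have hc0 : c ≠ 0 := fun h0 => by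
    rw [h0, embM_zero, zero_mul] at hPu
    exact hPu.ne_zero rfl
  have hu := two_mul_one_add_sq h2 hn
  have e3 : c = (s * s) • c := by
    calc c = c * (1 + n) * (1 + n) := by rw [mul_assoc, hu, mul_one]
      _ = (s * s) • ((1 + n) * (1 + n) * c) := by
        rw [hs, smul_mul_assoc, mul_assoc (1 + n) c (1 + n), hs, mul_smul_comm, smul_smul, ← mul_assoc]
      _ = _ := by rw [hu, one_mul]
  have hs1 : s = 1 := by
    obtain ⟨x, y, hxy⟩ : ∃ x y, c x y ≠ 0 := by
      by_contra hh
      push Not at hh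
      exact hc0 (Matrix.ext hh)
    have := congrFun₂ e3 x y
    rw [Matrix.smul_apply, smul_eq_mul] at this
    have h3 : s * s = 1 := by
      have h4 : (s * s - 1) * c x y = 0 := by rw [sub_mul, ← this, one_mul, sub_self]
      exact sub_eq_zero.1 ((mul_eq_zero.1 h4).resolve_right hxy)
    exact sub_eq_zero.1 (mul_self_eq_zero.1 (show (s - 1) * (s - 1) = 0 by linear_combination h3 - (s - 1) * h2))
  rw [hs1, one_smul, mul_add, add_mul, mul_one, one_mul, add_right_inj] at hs
  rw [mul_assoc, ← hP, ← mul_assoc, embM_mul, hs, ← embM_mul, mul_assoc]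

theorem cen_blk_of_cen {i j : τ} (hij : j ≠ i) (a b : Fin m) {X : Matrix (Ix τ m) (Ix τ m) F} (hX : Cen j X) :
    Cen j (blk i a b X) :=
  Cen.sum _ fun x _ => ((cen_embM hij _).mul hX).mul (cen_embM hij _)

theorem eq_embM_of_cen_off [NeZero m] {o : τ} {Y : Matrix (Ix τ m) (Ix τ m) F} (h : ∀ j, j ≠ o → Cen j Y) :
    ∃ v, Y = embM o v := by
  have key : ∀ u v : Fin m, ∃ c : F, embM o (e u u) * Y * embM o (e v v) = c • embM o (e u v) := fun u v => by
    obtain ⟨c, hc⟩ := exists_eq_smul_one_of_cen (Y := blk o u v Y) fun j => by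
      by_cases hj : j = o
      · subst hj; exact cen_blk _ _ _ _
      · exact cen_blk_of_cen hj _ _ (h j hj)
    exact ⟨c, by rw [← e_mul_blk, hc, mul_smul_comm, mul_one]⟩
  choose c hc using key
  refine ⟨∑ u, ∑ v, c u v • e u v, ?_⟩
  conv_lhs => rw [← one_mul Y, ← mul_one (1 * Y), ← sum_e_diag o, Finset.sum_mul, Finset.sum_mul]
  rw [embM_sum]
  refine Finset.sum_congr rfl fun u _ => ?_
  rw [Finset.mul_sum, embM_sum]
  exact Finset.sum_congr rfl fun v _ => by rw [hc, embM_smul]

theorem eq_zero_of_e_mul {i : τ} {Z : Matrix (Ix τ m) (Ix τ m) F} (hZ : Cen i Z) {c : Fin m}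
    (h : embM i (e c c) * Z = 0) : Z = 0 := by
  rw [← one_mul Z, ← sum_e_diag i, Finset.sum_mul]
  refine Finset.sum_eq_zero fun x _ => ?_
  rw [← embM_e_mul i x c x, mul_assoc, hZ (e c x), ← mul_assoc, ← embM_e_mul i x c c, mul_assoc _ (embM i (e c c)) Z,
    h, mul_zero, zero_mul]

theorem rank_add_le' {ι : Type} [Fintype ι] (A B : Matrix ι ι F) : (A + B).rank ≤ A.rank + B.rank := by
  refine le_trans (Submodule.finrank_mono ?_) (Submodule.finrank_add_le_finrank_add_finrank _ _)
  rintro _ ⟨v, rfl⟩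
  rw [Matrix.mulVecLin_apply, Matrix.add_mulVec]
  exact Submodule.add_mem_sup ⟨v, rfl⟩ ⟨v, rfl⟩

theorem rank_ins_one_le (i : τ) (R : Matrix (Ix (Rest i) m) (Ix (Rest i) m) F) :
    (ins i R 1).rank ≤ m * R.rank := by
  have h1 : (1 : Matrix (Fin m) (Fin m) F) = ∑ a, Matrix.vecMulVec (Pi.single a 1) (Pi.single a 1) := by
    ext x y
    rw [Matrix.sum_apply]
    simp [Matrix.vecMulVec_apply, Pi.single_apply, Matrix.one_apply, eq_comm]
  have h3 : ∀ s : Finset (Fin m),
      (ins i R (∑ a ∈ s, Matrix.vecMulVec (Pi.single a 1) (Pi.single a 1))).rank ≤ s.card * R.rank := fun s => by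
    classical
    induction s using Finset.induction with
    | empty =>
      rw [Finset.sum_empty, show ins i R (0 : Matrix (Fin m) (Fin m) F) = 0 by ext x y; simp [ins_apply]]
      simp
    | insert a s ha IH =>
      rw [Finset.sum_insert ha, ins_add_right, Finset.card_insert_of_notMem ha, add_mul, one_mul, add_comm (s.card * _)]
      exact (rank_add_le' _ _).trans (add_le_add (rank_ins_vecMulVec_le i _ _ _) IH)
  have := h3 Finset.univ
  rwa [← h1, Finset.card_univ, Fintype.card_fin] at this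

theorem isPGroup_two_of_pow {G : Type*} [Group G] {a b : G} (ha : a * a = 1) (hb : b * b = 1) {s : ℕ}
    (h : (a * b) ^ (2 ^ s) = 1) : IsPGroup 2 (Subgroup.closure ({a, b} : Set G)) := by
  have hai : a⁻¹ = a := inv_eq_of_mul_eq_one_right ha
  have hbi : b⁻¹ = b := inv_eq_of_mul_eq_one_right hb
  set c := a * b with hc
  have hca : a * c * a⁻¹ = c⁻¹ := by rw [hc, _root_.mul_inv_rev, hai, hbi, ← mul_assoc a a, ha, one_mul]
  have key : ∀ n : ℤ, a * c ^ n = c ^ (-n) * a := fun n => by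
    rw [← mul_inv_eq_iff_eq_mul, ← conj_zpow, hca, _root_.inv_zpow, _root_.zpow_neg]
  have main : ∀ w ∈ Subgroup.closure ({a, b} : Set G), ∃ n : ℤ, w = c ^ n ∨ w = c ^ n * a := by
    intro w hw
    induction hw using Subgroup.closure_induction with
    | mem w hw =>
      rcases hw with rfl | rfl
      · exact ⟨0, Or.inr (by rw [_root_.zpow_zero, one_mul])⟩
      · exact ⟨-1, Or.inr (by rw [_root_.zpow_neg_one, hc, _root_.mul_inv_rev, hai, hbi, mul_assoc, ha, mul_one])⟩
    | one => exact ⟨0, Or.inl (_root_.zpow_zero _).symm⟩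
    | mul u v _ _ h1 h2 =>
      obtain ⟨n, rfl | rfl⟩ := h1 <;> obtain ⟨l, rfl | rfl⟩ := h2
      · exact ⟨n + l, Or.inl (_root_.zpow_add c n l).symm⟩
      · exact ⟨n + l, Or.inr (by rw [_root_.zpow_add, mul_assoc])⟩
      · exact ⟨n + -l, Or.inr (by rw [mul_assoc, key, ← mul_assoc, ← _root_.zpow_add])⟩
      · exact ⟨n + -l, Or.inl (by rw [mul_assoc, ← mul_assoc a, key, mul_assoc (c ^ (-l)), ha, mul_one, ← _root_.zpow_add])⟩
    | inv u _ h1 =>
      obtain ⟨n, rfl | rfl⟩ := h1
      · exact ⟨-n, Or.inl (_root_.zpow_neg c n).symm⟩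
      · exact ⟨n, Or.inr (by rw [_root_.mul_inv_rev, hai, ← _root_.zpow_neg, key, neg_neg])⟩
  intro w
  obtain ⟨n, hn | hn⟩ := main w.1 w.2
  · refine ⟨s, Subtype.ext ?_⟩
    rw [SubmonoidClass.coe_pow, hn, ← _root_.zpow_natCast, ← _root_.zpow_mul, mul_comm, _root_.zpow_mul, _root_.zpow_natCast, h,
      _root_.one_zpow]
    rfl
  · refine ⟨1, Subtype.ext ?_⟩
    rw [SubmonoidClass.coe_pow, hn, pow_one, pow_two, mul_assoc, ← mul_assoc a, key, mul_assoc (c ^ (-n)), ha, mul_one,
      ← _root_.zpow_add, add_neg_cancel, _root_.zpow_zero]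
    rfl

section Three

theorem rootMat_of_sq [Fintype F] {n : Matrix (Fin 3) (Fin 3) F} (h0 : n ≠ 0) (hn : n * n = 0) : RootMat n := by
  have hr : n.rank ≤ 1 := by
    have := two_mul_rank_le hn
    rw [Fintype.card_fin] at this
    omega
  obtain ⟨u, v, huv⟩ := exists_vecMulVec_of_rank_le_one hr
  have hu : u ≠ 0 := fun e => h0 (by rw [huv, e, Matrix.zero_vecMulVec])
  have hv : v ≠ 0 := fun e => h0 (by rw [huv, e, Matrix.vecMulVec_zero])
  refine ⟨u, v, hu, hv, ?_, huv⟩
  rw [huv, Matrix.vecMulVec_mul_vecMulVec] at hn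
  rcases Matrix.vecMulVec_eq_zero.1 hn with h | h
  · exact absurd h hu
  · exact (smul_eq_zero.1 h).resolve_right hv

theorem shape_three {n : Matrix (Fin 3) (Fin 3) F} (hc : n * e 0 1 = e 0 1 * n) (hn : n * n = 0) :
    n 0 0 = 0 ∧ n 1 0 = 0 ∧ n 2 0 = 0 ∧ n 1 1 = 0 ∧ n 1 2 = 0 ∧ n 2 2 = 0 ∧ n 0 2 * n 2 1 = 0 := by
  have c20 : n 2 0 = 0 := by simpa [Matrix.mul_apply, Fin.sum_univ_three] using congrFun₂ hc 2 1
  have c10 : n 1 0 = 0 := by simpa [Matrix.mul_apply, Fin.sum_univ_three] using congrFun₂ hc 1 1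
  have c12 : n 1 2 = 0 := by simpa [Matrix.mul_apply, Fin.sum_univ_three] using (congrFun₂ hc 0 2).symm
  have c11 : n 0 0 = n 1 1 := by simpa [Matrix.mul_apply, Fin.sum_univ_three] using congrFun₂ hc 0 1
  have e00 : n 0 0 = 0 := by simpa [Matrix.mul_apply, Fin.sum_univ_three, c10, c20] using congrFun₂ hn 0 0
  have e22 : n 2 2 = 0 := by simpa [Matrix.mul_apply, Fin.sum_univ_three, c12, c20] using congrFun₂ hn 2 2
  have e11 : n 1 1 = 0 := c11 ▸ e00
  exact ⟨e00, c10, c20, e11, c12, e22, by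
    simpa [Matrix.mul_apply, Fin.sum_univ_three, e00, e11] using congrFun₂ hn 0 1⟩

theorem card_commuting_le [Fintype F] [DecidableEq F] (S : Finset (Matrix (Fin 3) (Fin 3) F))
    (hS : ∀ N ∈ S, N ≠ 0 ∧ N * N = 0) (hc : ∀ N ∈ S, ∀ N' ∈ S, N * N' = N' * N) :
    S.card ≤ Fintype.card F ^ 2 - 1 := by
  rcases S.eq_empty_or_nonempty with rfl | ⟨N0, hN0⟩
  · simp
  obtain ⟨u, v, hu, hv, h0, hN⟩ := rootMat_of_sq (hS N0 hN0).1 (hS N0 hN0).2
  obtain ⟨q, q', -, hqq, hq⟩ := exists_conj_rankone (le_refl 3) hu hv h0 (show (0 : Fin 3) ≠ 1 by decide)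
  rw [← hN] at hq
  have hq'q : q' * q = 1 := mul_eq_one_comm.1 hqq
  let f : Matrix (Fin 3) (Fin 3) F → F × F := fun N => ((q * N * q') 0 1, (q * N * q') 0 2 + (q * N * q') 2 1)
  have hmul : ∀ A B : Matrix (Fin 3) (Fin 3) F, q * A * q' * (q * B * q') = q * (A * B) * q' := fun A B => by
    simp only [mul_assoc]
    rw [← mul_assoc q' q, hq'q, one_mul]
  have hsh : ∀ N ∈ S, _ := fun N hN' => shape_three (n := q * N * q')
    (by
      have h := congrArg (fun W => q * W * q') (hc N hN' N0 hN0)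
      simp only [← hmul, hq] at h
      exact h)
    (by rw [hmul, (hS N hN').2, mul_zero, zero_mul])
  have hback : ∀ A B : Matrix (Fin 3) (Fin 3) F, q * A * q' = q * B * q' → A = B := fun A B h => by
    have := congrArg (fun W => q' * W * q) h
    simp only [mul_assoc, hq'q, mul_one] at this
    simpa only [← mul_assoc, hq'q, one_mul] using this
  refine le_trans (Finset.card_le_card_of_injOn f (t := Finset.univ.erase (0 : F × F)) ?_ ?_) (le_of_eq ?_)
  · intro N hN'
    rw [Finset.mem_coe] at hN'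
    obtain ⟨a00, a10, a20, a11, a12, a22, a2⟩ := hsh N hN'
    rw [Finset.mem_coe, Finset.mem_erase]
    refine ⟨fun h => (hS N hN').1 (hback N 0 ?_), Finset.mem_univ _⟩
    simp only [f, Prod.ext_iff, Prod.fst_zero, Prod.snd_zero] at h
    have e : (q * N * q') 0 2 = -(q * N * q') 2 1 := eq_neg_of_add_eq_zero_left h.2
    have e21 : (q * N * q') 2 1 = 0 := by
      rw [e, neg_mul, neg_eq_zero] at a2
      exact mul_self_eq_zero.1 a2
    rw [e21, neg_zero] at e
    rw [mul_zero, zero_mul]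
    ext x y
    fin_cases x <;> fin_cases y <;> simp [a00, a10, a20, a11, a12, a22, h.1, e, e21]
  · intro N hN1 N' hN2 hff
    rw [Finset.mem_coe] at hN1 hN2
    obtain ⟨a00, a10, a20, a11, a12, a22, a2⟩ := hsh N hN1
    obtain ⟨b00, b10, b20, b11, b12, b22, b2⟩ := hsh N' hN2
    simp only [f, Prod.ext_iff] at hff
    have hcc : (q * N * q') 0 2 * (q * N' * q') 2 1 = (q * N' * q') 0 2 * (q * N * q') 2 1 := by
      have h := congrArg (fun W => q * W * q') (hc N hN1 N' hN2)
      simp only [← hmul] at h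
      have := congrFun₂ h 0 1
      simpa [Matrix.mul_apply (M := q * N * q'), Matrix.mul_apply (M := q * N' * q'), Fin.sum_univ_three, a00, a11, b00,
        b11] using this
    have key : (q * N * q') 0 2 = (q * N' * q') 0 2 ∧ (q * N * q') 2 1 = (q * N' * q') 2 1 := by
      have h1 := hff.2
      rcases mul_eq_zero.1 a2 with ha | ha <;> rcases mul_eq_zero.1 b2 with hb | hb
      · refine ⟨ha.trans hb.symm, ?_⟩; simpa [ha, hb] using h1
      · simp only [ha, hb, zero_add, add_zero, zero_mul] at h1 hcc ⊢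
        rw [← h1, eq_comm, mul_self_eq_zero] at hcc
        exact ⟨(h1.symm.trans hcc).symm, hcc⟩
      · simp only [ha, hb, zero_add, add_zero, zero_mul, mul_zero] at h1 hcc ⊢
        rw [← h1, mul_self_eq_zero] at hcc
        exact ⟨hcc, (h1.symm.trans hcc).symm⟩
      · refine ⟨?_, ha.trans hb.symm⟩; simpa [ha, hb] using h1
    refine hback N N' ?_
    ext x y
    fin_cases x <;> fin_cases y <;>
      simp [a00, a10, a20, a11, a12, a22, b00, b10, b20, b11, b12, b22, hff.1, key.1, key.2]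
  · rw [Finset.card_erase_of_mem (Finset.mem_univ _), Finset.card_univ, Fintype.card_prod, pow_two]

end Three

end CfsgLib.Classical.TensorWreath
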