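import Cfsg.Agent.Lib.Classical.TensorWreath.ThreeBase

set_option autoImplicit false
set_option linter.unusedSectionVars false

/-!
Characteristic two, factors of dimension three: the centraliser of a product of two roots is monomial.
-/

namespace CfsgLib.Classical.TensorWreath

open Matrix
open scoped MatrixGroups Kronecker

variable {F : Type*} [Field F] {τ : Type} [Fintype τ] [DecidableEq τ]

/-- The offset of the product of two standard roots. -/
def yOff (a b : τ) : Matrix (Ix τ 3) (Ix τ 3) F :=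
  embM a (e 0 1) + embM b (e 0 1) + embM a (e 0 1) * embM b (e 0 1)

/-- The offset maps the kernel of `Y` into its range. -/
def KerToRange (Y X : Matrix (Ix τ 3) (Ix τ 3) F) : Prop := ∀ v, Y *ᵥ v = 0 → ∃ w, X *ᵥ v = Y *ᵥ w

theorem KerToRange.add {Y X X' : Matrix (Ix τ 3) (Ix τ 3) F} (h : KerToRange Y X) (h' : KerToRange Y X') :
    KerToRange Y (X + X') := fun v hv => by
  obtain ⟨w, hw⟩ := h v hv
  obtain ⟨w', hw'⟩ := h' v hv
  exact ⟨w + w', by rw [Matrix.add_mulVec, hw, hw', Matrix.mulVec_add]⟩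

theorem KerToRange.smul {Y X : Matrix (Ix τ 3) (Ix τ 3) F} (s : F) (h : KerToRange Y X) : KerToRange Y (s • X) :=
  fun v hv => by
  obtain ⟨w, hw⟩ := h v hv
  exact ⟨s • w, by rw [Matrix.smul_mulVec, hw, Matrix.mulVec_smul]⟩

theorem KerToRange.conj {Y X : Matrix (Ix τ 3) (Ix τ 3) F} {c : GL (Ix τ 3) F} (hc : c.1 * Y = Y * c.1)
    (h : KerToRange Y X) : KerToRange Y (c.1 * X * (c⁻¹).1) := fun v hv => by
  obtain ⟨w, hw⟩ := h ((c⁻¹).1 *ᵥ v) (by
    rw [Matrix.mulVec_mulVec, ← commute_inv c hc, ← Matrix.mulVec_mulVec, hv, Matrix.mulVec_zero])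
  refine ⟨c.1 *ᵥ w, ?_⟩
  rw [← Matrix.mulVec_mulVec, ← Matrix.mulVec_mulVec, hw, Matrix.mulVec_mulVec, hc, ← Matrix.mulVec_mulVec]

theorem KerToRange.mul {Y : Matrix (Ix τ 3) (Ix τ 3) F} {u v : GL (Ix τ 3) F} (hu : u.1 * Y = Y * u.1)
    (h : KerToRange Y (u.1 - 1)) (h' : KerToRange Y (v.1 - 1)) : KerToRange Y ((u * v).1 - 1) := fun x hx => by
  obtain ⟨w, hw⟩ := h x hx
  obtain ⟨w', hw'⟩ := h' x hx
  refine ⟨u.1 *ᵥ w' + w, ?_⟩
  rw [Units.val_mul, show u.1 * v.1 - 1 = u.1 * (v.1 - 1) + (u.1 - 1) by noncomm_ring, Matrix.add_mulVec,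
    ← Matrix.mulVec_mulVec, hw', hw, Matrix.mulVec_mulVec, hu, ← Matrix.mulVec_mulVec, Matrix.mulVec_add]

theorem KerToRange.kill {Y X E : Matrix (Ix τ 3) (Ix τ 3) F} (h : KerToRange Y X) (hEY : E * Y = 0)
    (hYE : Y * E = 0) : E * X * E = 0 := Matrix.ext_of_mulVec_single fun y => by
  obtain ⟨w, hw⟩ := h (E *ᵥ Pi.single y 1) (by rw [Matrix.mulVec_mulVec, hYE, Matrix.zero_mulVec])
  rw [← Matrix.mulVec_mulVec, ← Matrix.mulVec_mulVec, hw, Matrix.mulVec_mulVec, hEY, Matrix.zero_mulVec,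
    Matrix.zero_mulVec]

variable {a b : τ}

theorem one_add_yOff (a b : τ) :
    (1 + yOff a b : Matrix (Ix τ 3) (Ix τ 3) F) = embM a (1 + e 0 1) * embM b (1 + e 0 1) := by
  rw [yOff, embM_add, embM_one, embM_add, embM_one]
  noncomm_ring

theorem yOff_comm (hab : a ≠ b) : (yOff a b : Matrix (Ix τ 3) (Ix τ 3) F) = yOff b a := by
  rw [yOff, yOff, embM_comm hab, add_comm (embM a _)]

theorem yOff_sq (h2 : (2 : F) = 0) (hab : a ≠ b) : (yOff a b : Matrix (Ix τ 3) (Ix τ 3) F) * yOff a b = 0 := by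
  have hu : ((1 : Matrix (Fin 3) (Fin 3) F) + e 0 1) * (1 + e 0 1) = 1 :=
    two_mul_one_add_sq h2 (e_mul_e_ne (by decide))
  have h := one_add_sq h2 (yOff a b : Matrix (Ix τ 3) (Ix τ 3) F)
  rw [one_add_yOff, mul_assoc, ← mul_assoc (embM b _), embM_comm hab.symm, mul_assoc, ← mul_assoc (embM a _),
    embM_mul, embM_mul, hu, embM_one, embM_one, mul_one, left_eq_add] at h
  exact h

theorem embM_mul_yOff (hab : a ≠ b) {x : Matrix (Fin 3) (Fin 3) F} (h : x * e 0 1 = 0) :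
    (embM a x * yOff a b : Matrix (Ix τ 3) (Ix τ 3) F) = embM a x * embM b (e 0 1) := by
  rw [yOff, mul_add, mul_add, ← mul_assoc, embM_mul, h, embM_zero, zero_mul, zero_add, add_zero]

theorem N_mul_yOff (hab : a ≠ b) :
    (embM a (e 0 1) * yOff a b : Matrix (Ix τ 3) (Ix τ 3) F) = embM a (e 0 1) * embM b (e 0 1) :=
  embM_mul_yOff hab (e_mul_e_ne (by decide))

theorem yOff_mul_N (hab : a ≠ b) :
    (yOff a b * embM a (e 0 1) : Matrix (Ix τ 3) (Ix τ 3) F) = embM a (e 0 1) * embM b (e 0 1) := by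
  rw [yOff, add_mul, add_mul, mul_assoc, embM_mul, embM_comm hab.symm, ← mul_assoc, embM_mul,
    e_mul_e_ne (show (1 : Fin 3) ≠ 0 by decide), embM_zero, zero_mul, zero_add, add_zero]

theorem N_commute_yOff (hab : a ≠ b) :
    (embM a (e 0 1) * yOff a b : Matrix (Ix τ 3) (Ix τ 3) F) = yOff a b * embM a (e 0 1) := by
  rw [N_mul_yOff hab, yOff_mul_N hab]

theorem yOff_mul_lift (hab : a ≠ b) :
    (yOff a b * (embM a (e 0 1) * (embM a (e 1 0) * embM b (e 1 0))) : Matrix (Ix τ 3) (Ix τ 3) F) =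
      embM a (e 0 0) * embM b (e 0 0) := by
  rw [← mul_assoc, yOff_mul_N hab, mul_assoc (embM a (e 0 1)), ← mul_assoc (embM b (e 0 1)), embM_comm hab.symm,
    mul_assoc (embM a (e 1 0)), embM_e_mul, ← mul_assoc, embM_e_mul]

theorem kerToRange_N (h2 : (2 : F) = 0) (hab : a ≠ b) :
    KerToRange (yOff a b) (embM a (e 0 1) : Matrix (Ix τ 3) (Ix τ 3) F) ∧
      ∀ v, yOff a b *ᵥ v = 0 → (embM a (e 0 1) : Matrix (Ix τ 3) (Ix τ 3) F) *ᵥ v = embM b (e 0 1) *ᵥ v := by
  have key : ∀ v, yOff a b *ᵥ v = 0 →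
      (embM a (e 0 1) : Matrix (Ix τ 3) (Ix τ 3) F) *ᵥ v = embM b (e 0 1) *ᵥ v := fun v hv => by
    have h1 : (embM a (e 0 1) * embM b (e 0 1) : Matrix (Ix τ 3) (Ix τ 3) F) *ᵥ v = 0 := by
      rw [← N_mul_yOff hab, ← Matrix.mulVec_mulVec, hv, Matrix.mulVec_zero]
    rw [yOff, Matrix.add_mulVec, Matrix.add_mulVec, h1, add_zero] at hv
    have hn : ∀ x : Ix τ 3 → F, -x = x := fun x => neg_eq_of_add_eq_zero_left (char_two_add_self h2 x)
    rw [eq_neg_of_add_eq_zero_left hv, hn]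
  refine ⟨fun v hv => ⟨(embM a (e 0 1) * (embM a (e 1 0) * embM b (e 1 0))) *ᵥ (embM a (e 0 1) *ᵥ v), ?_⟩, key⟩
  rw [Matrix.mulVec_mulVec, yOff_mul_lift hab, ← Matrix.mulVec_mulVec (M := embM a (e 0 0)), key v hv,
    Matrix.mulVec_mulVec v (embM b (e 0 0)), embM_e_mul, ← key v hv, Matrix.mulVec_mulVec, embM_e_mul]

theorem kerToRange_e02 (h2 : (2 : F) = 0) (hab : a ≠ b) :
    KerToRange (yOff a b) (embM a (e 0 2) : Matrix (Ix τ 3) (Ix τ 3) F) := fun v hv => by
  have key := (kerToRange_N h2 hab).2 v hv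
  refine ⟨(embM a (e 0 1) * (embM a (e 1 0) * embM b (e 1 0))) *ᵥ (embM a (e 0 2) *ᵥ v) +
    (embM a (e 1 2) * embM b (e 2 2)) *ᵥ v, ?_⟩
  rw [Matrix.mulVec_add, Matrix.mulVec_mulVec, yOff_mul_lift hab, Matrix.mulVec_mulVec, Matrix.mulVec_mulVec]
  have h00 : (embM a (e 0 0) * embM b (e 0 0) * embM a (e 0 2) : Matrix (Ix τ 3) (Ix τ 3) F) =
      embM a (e 0 2) * embM b (e 0 0) := by
    rw [mul_assoc, embM_comm hab.symm, ← mul_assoc, embM_e_mul]
  have h22 : (yOff a b * (embM a (e 1 2) * embM b (e 2 2)) : Matrix (Ix τ 3) (Ix τ 3) F) =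
      embM a (e 0 2) * embM b (e 2 2) := by
    have e1 : (embM b (e 0 1) * (embM a (e 1 2) * embM b (e 2 2)) : Matrix (Ix τ 3) (Ix τ 3) F) = 0 := by
      rw [← mul_assoc, embM_comm hab.symm, mul_assoc, embM_e_mul_ne b (by decide), mul_zero]
    rw [yOff, add_mul, add_mul, mul_assoc (embM a (e 0 1)) (embM b (e 0 1)), e1, mul_zero, add_zero, add_zero,
      ← mul_assoc, embM_e_mul]
  have h11 : (embM a (e 0 2) * embM b (e 1 1) : Matrix (Ix τ 3) (Ix τ 3) F) *ᵥ v = 0 := by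
    have : (embM a (e 0 2) * embM b (e 1 0) * embM a (e 0 1) : Matrix (Ix τ 3) (Ix τ 3) F) = 0 := by
      rw [mul_assoc, embM_comm hab.symm, ← mul_assoc, embM_e_mul_ne a (by decide), zero_mul]
    rw [← embM_e_mul b 1 0 1, ← mul_assoc, ← Matrix.mulVec_mulVec, ← key, Matrix.mulVec_mulVec, this,
      Matrix.zero_mulVec]
  rw [h00, h22]
  conv_lhs => rw [← mul_one (embM a (e 0 2)), ← sum_e_diag b, Fin.sum_univ_three, mul_add, mul_add,
    Matrix.add_mulVec, Matrix.add_mulVec, h11, add_zero]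

theorem E_mul_yOff (a b : τ) (hab : a ≠ b) :
    (embM a (e 2 2) * embM b (e 2 2) * yOff a b : Matrix (Ix τ 3) (Ix τ 3) F) = 0 ∧
      yOff a b * (embM a (e 2 2) * embM b (e 2 2)) = (0 : Matrix (Ix τ 3) (Ix τ 3) F) := by
  have l1 : (embM a (e 2 2) * embM b (e 2 2) * embM a (e 0 1) : Matrix (Ix τ 3) (Ix τ 3) F) = 0 := by
    rw [mul_assoc, embM_comm hab.symm, ← mul_assoc, embM_e_mul_ne a (by decide), zero_mul]
  have l2 : (embM a (e 2 2) * embM b (e 2 2) * embM b (e 0 1) : Matrix (Ix τ 3) (Ix τ 3) F) = 0 := by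
    rw [mul_assoc, embM_e_mul_ne b (by decide), mul_zero]
  have r1 : (embM a (e 0 1) * (embM a (e 2 2) * embM b (e 2 2)) : Matrix (Ix τ 3) (Ix τ 3) F) = 0 := by
    rw [← mul_assoc, embM_e_mul_ne a (by decide), zero_mul]
  have r2 : (embM b (e 0 1) * (embM a (e 2 2) * embM b (e 2 2)) : Matrix (Ix τ 3) (Ix τ 3) F) = 0 := by
    rw [← mul_assoc, embM_comm hab.symm, mul_assoc, embM_e_mul_ne b (by decide), mul_zero]
  refine ⟨?_, ?_⟩
  · rw [yOff, mul_add, mul_add, ← mul_assoc _ (embM a (e 0 1)) (embM b (e 0 1)), l1, l2, zero_mul, add_zero, add_zero]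
  · rw [yOff, add_mul, add_mul, mul_assoc (embM a (e 0 1)) (embM b (e 0 1)), r1, r2, mul_zero, add_zero, add_zero]

theorem commute_E {a b l : τ} (hla : l ≠ a) (hlb : l ≠ b) (x : Matrix (Fin 3) (Fin 3) F) :
    (embM l x * (embM a (e 2 2) * embM b (e 2 2)) : Matrix (Ix τ 3) (Ix τ 3) F) =
      embM a (e 2 2) * embM b (e 2 2) * embM l x := by
  rw [← mul_assoc, embM_comm hla, mul_assoc, embM_comm hlb, ← mul_assoc]

theorem E_idem (hab : a ≠ b) :
    (embM a (e 2 2) * embM b (e 2 2) * (embM a (e 2 2) * embM b (e 2 2)) : Matrix (Ix τ 3) (Ix τ 3) F) =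
      embM a (e 2 2) * embM b (e 2 2) := by
  rw [mul_assoc, ← mul_assoc (embM b _), embM_comm hab.symm, mul_assoc (embM a _), embM_e_mul, ← mul_assoc,
    embM_e_mul]

theorem root_commute_yOff (h2 : (2 : F) = 0) (hab : a ≠ b) {ρ : Matrix (Fin 3) (Fin 3) F} (hρ : ρ * ρ = 0)
    (hc : (embM a ρ * yOff a b : Matrix (Ix τ 3) (Ix τ 3) F) = yOff a b * embM a ρ) :
    ρ * e 0 1 = e 0 1 * ρ ∧
      (embM a (e 2 2) * embM b (e 2 2) * embM a ρ * (embM a (e 2 2) * embM b (e 2 2)) : Matrix (Ix τ 3) (Ix τ 3) F) = 0 := by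
  have h1 : ρ * e 0 1 = e 0 1 * ρ := by
    have hu : IsUnit (embM b (1 + e 0 1) : Matrix (Ix τ 3) (Ix τ 3) F) :=
      IsUnit.of_mul_eq_one _ (by
        rw [embM_mul, two_mul_one_add_sq h2 (e_mul_e_ne (show (1 : Fin 3) ≠ 0 by decide)), embM_one])
    have h3 : (embM a ρ * (1 + yOff a b) : Matrix (Ix τ 3) (Ix τ 3) F) = (1 + yOff a b) * embM a ρ := by
      rw [mul_add, mul_one, add_mul, one_mul, hc]
    rw [one_add_yOff, mul_assoc (embM a (1 + e 0 1)), embM_comm hab.symm, ← mul_assoc, ← mul_assoc, embM_mul,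
      embM_mul] at h3
    have h4 := embM_injective a (hu.mul_right_cancel h3)
    rwa [mul_add, mul_one, add_mul, one_mul, add_right_inj] at h4
  refine ⟨h1, ?_⟩
  obtain ⟨-, -, -, -, -, h22, -⟩ := shape_three h1 hρ
  have : (e 2 2 * ρ * e 2 2 : Matrix (Fin 3) (Fin 3) F) = 0 := by
    ext x y
    fin_cases x <;> fin_cases y <;> simp [Matrix.mul_apply, Fin.sum_univ_three, h22]
  rw [mul_assoc (embM a (e 2 2)) (embM b (e 2 2)) (embM a ρ), embM_comm hab.symm, ← mul_assoc (embM a (e 2 2)),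
    embM_mul, mul_assoc, ← mul_assoc (embM b (e 2 2)), embM_comm hab.symm, mul_assoc (embM a (e 2 2)), embM_e_mul,
    ← mul_assoc, embM_mul, this, embM_zero, zero_mul]

theorem sandwich_scalar (hab : a ≠ b) (huniv : ∀ j, j = a ∨ j = b) (W : Matrix (Ix τ 3) (Ix τ 3) F) :
    ∃ s : F, embM a (e 0 0) * embM b (e 0 0) * W * (embM a (e 1 1) * embM b (e 1 1)) =
      s • (embM a (e 0 1) * embM b (e 0 1)) := by
  set W' := embM b (e 0 0) * W * embM b (e 1 1) with hW'
  obtain ⟨s, hs⟩ := exists_eq_smul_one_of_cen (Y := blk b 0 1 (blk a 0 1 W)) fun j => by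
    rcases huniv j with rfl | rfl
    · exact cen_blk_of_cen hab _ _ (cen_blk _ _ _ _)
    · exact cen_blk _ _ _ _
  refine ⟨s, ?_⟩
  have h1 : blk a 0 1 W' = embM b (e 0 0) * blk a 0 1 W * embM b (e 1 1) := by
    rw [blk, blk, hW', Finset.mul_sum, Finset.sum_mul]
    refine Finset.sum_congr rfl fun x _ => ?_
    simp only [← mul_assoc]
    rw [← embM_comm hab (e x 0) (e 0 0), mul_assoc _ (embM b (e 1 1)), ← embM_comm hab, ← mul_assoc]
  calc embM a (e 0 0) * embM b (e 0 0) * W * (embM a (e 1 1) * embM b (e 1 1))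
      = embM a (e 0 0) * W' * embM a (e 1 1) := by
        rw [hW', embM_comm hab (e 1 1) (e 1 1)]
        simp only [mul_assoc]
    _ = embM a (e 0 1) * blk a 0 1 W' := (e_mul_blk a 0 1 0 1 W').symm
    _ = embM a (e 0 1) * (embM b (e 0 1) * blk b 0 1 (blk a 0 1 W)) := by rw [h1, e_mul_blk b 0 1 0 1 (blk a 0 1 W)]
    _ = _ := by rw [hs, mul_smul_comm, mul_one, mul_smul_comm]

variable [Fintype F] {M : Subgroup (GL (Ix τ 3) F)}

/-- Two factors. -/
theorem Ctx.cent_two_small (C : Ctx M) (h2 : (2 : F) = 0) (hab : a ≠ b) (huniv : ∀ j, j = a ∨ j = b)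
    {h k : GL (Ix τ 3) F} (hc : h.1 * yOff a b = yOff a b * h.1) (hkM : k ∈ M)
    (hkv : k.1 = 1 + h.1 * embM a (e 0 1) * (h⁻¹).1) : Mono k.1 := by
  set Y := (yOff a b : Matrix (Ix τ 3) (Ix τ 3) F)
  set Na := (embM a (e 0 1) : Matrix (Ix τ 3) (Ix τ 3) F)
  set Nb := (embM b (e 0 1) : Matrix (Ix τ 3) (Ix τ 3) F)
  set K := h.1 * Na * (h⁻¹).1
  have hKY : K * Y = Y * K := by
    show h.1 * Na * (h⁻¹).1 * Y = Y * (h.1 * Na * (h⁻¹).1)
    rw [mul_assoc _ (h⁻¹).1 Y, commute_inv h hc, ← mul_assoc, mul_assoc h.1 Na Y, N_commute_yOff hab, ← mul_assoc h.1,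
      hc]
    simp only [mul_assoc]
    rfl
  obtain ⟨s1, hs1⟩ : ∃ s : F, Na * h.1 * (Na * Nb) = s • (Na * Nb) := by
    obtain ⟨s, hs⟩ := sandwich_scalar hab huniv (Na * h.1 * (Na * Nb))
    refine ⟨s, ?_⟩
    rw [← hs]
    have e1 : Na * h.1 * (Na * Nb) = Na * Nb * (h.1 * Na) := by
      rw [show Na * Nb = Y * Na from (yOff_mul_N hab).symm, mul_assoc Na h.1, ← mul_assoc h.1 Y Na, hc,
        mul_assoc Y h.1 Na, ← mul_assoc Na Y, N_commute_yOff hab]
    have e2 : Na * Nb * (embM a (e 1 1) * embM b (e 1 1)) = Na * Nb := by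
      rw [mul_assoc, ← mul_assoc Nb, embM_comm hab.symm, mul_assoc (embM a (e 1 1)), embM_e_mul, ← mul_assoc,
        embM_e_mul]
    have e3 : embM a (e 0 0) * embM b (e 0 0) * (Na * Nb) = Na * Nb := by
      rw [mul_assoc, ← mul_assoc (embM b (e 0 0)), embM_comm hab.symm, mul_assoc (embM a (e 0 1)), embM_e_mul,
        ← mul_assoc, embM_e_mul]
    rw [mul_assoc (embM a (e 0 0) * embM b (e 0 0)),
      show Na * h.1 * (Na * Nb) * (embM a (e 1 1) * embM b (e 1 1)) = Na * h.1 * (Na * Nb) by rw [mul_assoc, e2], e1,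
      ← mul_assoc (embM a (e 0 0) * embM b (e 0 0)) (Na * Nb), e3]
  obtain ⟨s2, hs2⟩ : ∃ s : F, embM a (e 0 2) * h.1 * (Na * Nb) = s • (Na * Nb) := by
    obtain ⟨s, hs⟩ := sandwich_scalar hab huniv (embM a (e 0 2) * h.1 * (Na * Nb))
    refine ⟨s, ?_⟩
    rw [← hs]
    have e1 : embM a (e 0 2) * h.1 * (Na * Nb) = embM a (e 0 2) * Nb * (h.1 * Na) := by
      rw [show Na * Nb = Y * Na from (yOff_mul_N hab).symm, mul_assoc _ h.1, ← mul_assoc h.1 Y Na, hc,
        mul_assoc Y h.1 Na, ← mul_assoc _ Y, embM_mul_yOff hab (e_mul_e_ne (by decide))]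
    have e2 : Na * Nb * (embM a (e 1 1) * embM b (e 1 1)) = Na * Nb := by
      rw [mul_assoc, ← mul_assoc Nb, embM_comm hab.symm, mul_assoc (embM a (e 1 1)), embM_e_mul, ← mul_assoc,
        embM_e_mul]
    have e3 : embM a (e 0 0) * embM b (e 0 0) * (embM a (e 0 2) * Nb) = embM a (e 0 2) * Nb := by
      rw [mul_assoc, ← mul_assoc (embM b (e 0 0)), embM_comm hab.symm, mul_assoc (embM a (e 0 2)), embM_e_mul,
        ← mul_assoc, embM_e_mul]
    rw [mul_assoc (embM a (e 0 0) * embM b (e 0 0))]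
    rw [show embM a (e 0 2) * h.1 * (Na * Nb) * (embM a (e 1 1) * embM b (e 1 1)) = embM a (e 0 2) * h.1 * (Na * Nb) by
      rw [mul_assoc, e2], e1, ← mul_assoc (embM a (e 0 0) * embM b (e 0 0)) (embM a (e 0 2) * Nb), e3]
  obtain ⟨p1, p2, hp, hps⟩ : ∃ p1 p2 : F, (p1 ≠ 0 ∨ p2 ≠ 0) ∧ p1 * s1 + p2 * s2 = 0 := by
    by_cases h0 : s1 = 0
    · exact ⟨1, 0, Or.inl one_ne_zero, by rw [h0, mul_zero, zero_mul, add_zero]⟩
    · refine ⟨s2, s1, Or.inr h0, ?_⟩
      rw [mul_comm, ← two_mul, h2, zero_mul]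
  set w : Fin 3 → F := ![0, p1, p2] with hw
  set X := (embM a (Matrix.vecMulVec (Pi.single 0 1) w) : Matrix (Ix τ 3) (Ix τ 3) F) with hX
  have hXr : RootAt a X := ⟨Pi.single 0 1, w, by simp, fun h => hp.elim
    (fun hh => hh (by simpa [hw] using congrFun h 1)) (fun hh => hh (by simpa [hw] using congrFun h 2)),
    by simp [hw], rfl⟩
  have hXe : X = p1 • Na + p2 • embM a (e 0 2) := by
    rw [hX, ← embM_smul, ← embM_smul, ← embM_add]
    congr 1
    ext x y
    fin_cases x <;> fin_cases y <;> simp [hw, Matrix.vecMulVec_apply]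
  have hXK : X * (K * Y) = 0 := by
    have e1 : K * Y = h.1 * (Na * Nb) * (h⁻¹).1 := by
      show h.1 * Na * (h⁻¹).1 * Y = _
      rw [mul_assoc _ (h⁻¹).1 Y, commute_inv h hc, ← mul_assoc, mul_assoc h.1 Na Y, N_mul_yOff hab]
    rw [e1, ← mul_assoc, ← mul_assoc, hXe, add_mul, add_mul, smul_mul_assoc, smul_mul_assoc, smul_mul_assoc,
      smul_mul_assoc, hs1, hs2, smul_smul, smul_smul, ← add_smul, hps, zero_smul, zero_mul]
  have hXY : X * Y = Y * X := by
    have e4 : Nb * embM a (e 0 2) = embM a (e 0 2) * Nb := embM_comm hab.symm _ _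
    have e5 : embM a (e 0 2) * Y = Y * embM a (e 0 2) := by
      show _ * yOff a b = yOff a b * _
      rw [embM_mul_yOff hab (e_mul_e_ne (by decide)), yOff, add_mul, add_mul, mul_assoc (embM a (e 0 1)) (embM b (e 0 1)),
        e4, ← mul_assoc, embM_e_mul_ne a (show (1 : Fin 3) ≠ 0 by decide), zero_mul, zero_add, add_zero]
    rw [hXe, add_mul, mul_add, smul_mul_assoc, smul_mul_assoc, mul_smul_comm, mul_smul_comm, e5,
      show Na * Y = Y * Na from N_commute_yOff hab]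
  have hXT : KerToRange Y X := hXe ▸ ((kerToRange_N h2 hab).1.smul p1).add ((kerToRange_e02 h2 hab).smul p2)
  have hKT : KerToRange Y K := (kerToRange_N h2 hab).1.conj hc
  obtain ⟨x, hxM, hxv, hxm⟩ := C.exists_rootGL hXr
  have hXX : X * X = 0 := rootAt_sq hXr
  have hKK : K * K = 0 := by
    show h.1 * Na * (h⁻¹).1 * (h.1 * Na * (h⁻¹).1) = 0
    rw [mul_inv_cancel_mid, rootAt_sq (rootAt_e a (show (0 : Fin 3) ≠ 1 by decide)), mul_zero, zero_mul]
  have hxY : x.1 * Y = Y * x.1 := by rw [hxv, add_mul, one_mul, mul_add, mul_one, hXY]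
  have hHT : KerToRange Y ((x * k).1 - 1) := KerToRange.mul hxY (by rw [hxv, add_sub_cancel_left]; exact hXT)
    (by rw [hkv, add_sub_cancel_left]; exact hKT)
  set H := X + K + X * K with hH
  have hval : (x * k).1 = 1 + H := by
    rw [Units.val_mul, hxv, hkv, hH]
    noncomm_ring
  rw [hval, add_sub_cancel_left] at hHT
  have hHY : H * Y = Y * H := by
    simp only [hH, add_mul, mul_add, mul_assoc, hXY, hKY]
    rw [← mul_assoc X Y K, hXY, mul_assoc]
  have hXKXY : X * (K * (X * Y)) = 0 := by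
    rw [hXY, ← mul_assoc K, ← mul_assoc, hXK, zero_mul]
  have hH3Y : H * (H * (H * Y)) = 0 := by
    have e1 : H * Y = X * Y + K * Y := by
      rw [hH, add_mul, add_mul, mul_assoc X K Y, hXK, add_zero]
    have e2 : H * (H * Y) = K * (X * Y) := by
      rw [e1, hH]
      simp only [add_mul, mul_add, mul_assoc]
      rw [← mul_assoc X X Y, hXX, zero_mul, hXKXY, ← mul_assoc K K Y, hKK, zero_mul, hXK, mul_zero]
      simp only [add_zero, zero_add]
    rw [e2, hH]
    simp only [add_mul, mul_assoc]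
    rw [hXKXY, ← mul_assoc K K, hKK, zero_mul, mul_zero]
    simp only [add_zero]
  have hH3Y' : H ^ 3 * Y = 0 := by
    rw [pow_succ, pow_two, mul_assoc, mul_assoc]
    exact hH3Y
  have hH4 : ∀ v, Y *ᵥ v = 0 → H ^ 4 *ᵥ v = 0 := fun v hv => by
    obtain ⟨u, hu⟩ := hHT v hv
    rw [pow_succ, ← Matrix.mulVec_mulVec, hu, Matrix.mulVec_mulVec, hH3Y', Matrix.zero_mulVec]
  have hH7 : H ^ 7 = 0 := Matrix.ext_of_mulVec_single fun y => by
    rw [Matrix.zero_mulVec, show H ^ 7 = H ^ 4 * H ^ 3 from pow_add H 4 3, ← Matrix.mulVec_mulVec]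
    refine hH4 _ ?_
    rw [Matrix.mulVec_mulVec, ← (Commute.pow_left hHY 3).eq, hH3Y', Matrix.zero_mulVec]
  have h8 : (x * k) ^ (2 ^ 3) = 1 := Units.ext (by
    rw [Units.val_pow_eq_pow_val, hval, Units.val_one, show (2 : ℕ) ^ 3 = 2 * 2 * 2 by norm_num, _root_.pow_mul,
      _root_.pow_mul, pow_two, pow_two, pow_two, one_add_sq h2, one_add_sq h2, one_add_sq h2,
      show H * H * (H * H) * (H * H * (H * H)) = H ^ 7 * H by noncomm_ring, hH7, zero_mul, add_zero])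
  haveI : Fact (Nat.Prime 2) := ⟨Nat.prime_two⟩
  exact C.mono_of_pGroup hXr hxM hxv hxm hkM
    (isPGroup_two_of_pow (Ctx.invol_sq h2 hxv hXX) (Ctx.invol_sq h2 hkv hKK) h8)

/-- The centraliser of the product of two standard roots. -/
theorem Ctx.mono_of_commute_std (C : Ctx M) (h2 : (2 : F) = 0) (hab : a ≠ b) {h : GL (Ix τ 3) F} (hh : h ∈ M)
    (hc : h.1 * yOff a b = yOff a b * h.1) : Mono h.1 := by
  classical
  set Y := (yOff a b : Matrix (Ix τ 3) (Ix τ 3) F) with hY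
  set Na := (embM a (e 0 1) : Matrix (Ix τ 3) (Ix τ 3) F)
  set E := (embM a (e 2 2) * embM b (e 2 2) : Matrix (Ix τ 3) (Ix τ 3) F) with hE
  have hNa : RootAt a Na := rootAt_e a (by decide)
  obtain ⟨x, hxM, hxv, hxm⟩ := C.exists_rootGL hNa
  obtain ⟨k, hkM, hkv⟩ := (Rel.refl hh).inM ⟨x, hxM, hxv⟩
  by_cases hkm : Mono k.1
  · exact C.mono_of_conj_root hh hNa (hkv ▸ hkm)
  exfalso
  by_cases huniv : ∀ j, j = a ∨ j = b
  · exact hkm (C.cent_two_small h2 hab huniv hc hkM hkv)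
  push Not at huniv
  obtain ⟨l, hla, hlb⟩ := huniv
  obtain ⟨hEY, hYE⟩ := E_mul_yOff (F := F) a b hab
  have hkx : k = h * x * h⁻¹ := Units.ext (by rw [conj_val h hxv, hkv])
  have hKT : KerToRange Y (k.1 - 1) := by
    rw [hkv, add_sub_cancel_left]
    exact (kerToRange_N h2 hab).1.conj hc
  have hxY : x.1 * Y = Y * x.1 := by
    rw [hxv, add_mul, one_mul, mul_add, mul_one, N_commute_yOff hab]
  let S : Subgroup (GL (Ix τ 3) F) :=
    { carrier := {w | w.1 * Y = Y * w.1}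
      mul_mem' := fun {u v} hu hv => by
        show (u * v).1 * Y = Y * (u * v).1
        rw [Units.val_mul, mul_assoc, hv, ← mul_assoc, hu, mul_assoc]
      one_mem' := by show (1 : GL (Ix τ 3) F).1 * Y = Y * 1; rw [Units.val_one, one_mul, mul_one]
      inv_mem' := fun {u} hu => commute_inv u hu }
  have hkS : k ∈ S := hkx ▸ S.mul_mem (S.mul_mem hc hxY) (S.inv_mem hc)
  have hk2 : k * k = 1 := Ctx.invol_sq h2 hkv (by rw [mul_inv_cancel_mid, rootAt_sq hNa, mul_zero, zero_mul])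
  have hconjT : ∀ c ∈ S, KerToRange Y ((c * k * c⁻¹).1 - 1) := fun c hcS => by
    have := hKT.conj hcS
    rwa [mul_sub, mul_one, sub_mul, c.mul_inv, ← Units.val_mul, ← Units.val_mul] at this
  have data : ∀ N : {N : Matrix (Fin 3) (Fin 3) F // N ≠ 0 ∧ N * N = 0}, ∃ (j : τ) (n : Matrix (Fin 3) (Fin 3) F),
      j ≠ l ∧ n ≠ 0 ∧ n * n = 0 ∧ e 0 1 * n = n * e 0 1 ∧
      k.1 * (embM j (1 + n) * embM l (1 + N.1)) = embM j (1 + n) * embM l (1 + N.1) * k.1 := by
    rintro ⟨N, hN0, hN⟩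
    obtain ⟨u, v, hu, hv, h0, hNuv⟩ := rootMat_of_sq hN0 hN
    set X3 := (embM l N : Matrix (Ix τ 3) (Ix τ 3) F) with hX3
    have hR3 : RootAt l X3 := ⟨u, v, hu, hv, h0, by rw [hX3, hNuv]⟩
    obtain ⟨x3, hx3M, hx3v, hx3m⟩ := C.exists_rootGL hR3
    have hx3S : x3 ∈ S := by
      show x3.1 * Y = Y * x3.1
      rw [hx3v, add_mul, one_mul, mul_add, mul_one, hY, yOff, hX3]
      simp only [mul_add, add_mul, ← mul_assoc]
      rw [embM_comm hla, embM_comm hlb, mul_assoc (embM a (e 0 1)), embM_comm hlb, ← mul_assoc]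
    have hx32 : x3 * x3 = 1 := Ctx.invol_sq h2 hx3v (rootAt_sq hR3)
    have hE3 : X3 * E = E * X3 := commute_E hla hlb N
    have off_cen : ∀ {j : τ} (n : Matrix (Fin 3) (Fin 3) F), j ≠ a → j ≠ b →
        Cen a (embM j n : Matrix (Ix τ 3) (Ix τ 3) F) ∧ Cen b (embM j n : Matrix (Ix τ 3) (Ix τ 3) F) :=
      fun n hja hjb => ⟨cen_embM hja.symm n, cen_embM hjb.symm n⟩
    have vanish : ∀ Z : Matrix (Ix τ 3) (Ix τ 3) F, Cen a Z → Cen b Z → E * Z * E = 0 → Z = 0 := by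
      intro Z hZa hZb h0
      have h1 : E * Z = 0 := by
        have hEZ : E * Z = Z * E := by
          rw [hE, mul_assoc, hZb, ← mul_assoc, hZa, mul_assoc]
        rwa [mul_assoc, ← hEZ, ← mul_assoc, E_idem hab] at h0
      rw [hE, mul_assoc] at h1
      exact eq_zero_of_e_mul hZb (eq_zero_of_e_mul ((cen_embM hab _).mul hZa) h1)
    have hX30 : X3 ≠ 0 := rootAt_ne_zero hR3
    have hcl := closure_pair_le hkM hx3M
    have hclS : Subgroup.closure ({k, x3} : Set (GL (Ix τ 3) F)) ≤ S := closure_pair_le hkS hx3S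
    rcases dihedral_cases hk2 hx32 with ⟨c, hcD, hc'⟩ | ⟨z, hz, hzz, hz1, hzk, hzx, hcases⟩
    · exfalso
      have hT := hconjT c (hclS hcD)
      rw [← hc', hx3v, add_sub_cancel_left] at hT
      exact hX30 (vanish X3 (cen_embM hla.symm N) (cen_embM hlb.symm N) (hT.kill hEY hYE))
    have hzm : Mono z.1 := C.mono_of_commute_root (hcl hz) hR3 ((commute_val_iff hx3v).1 hzx)
    have hzx3m : Mono (z * x3).1 := by rw [Units.val_mul]; exact hzm.mul hx3m
    have hz_eq : z = (z * x3) * x3 := by rw [mul_assoc, hx32, mul_one]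
    rcases hcases with ⟨⟨c, hcD, hck⟩, ⟨c', hc'D, hcx⟩⟩ | ⟨-, ⟨c, hcD, hcx⟩⟩
    · exfalso
      have hzT : KerToRange Y (z.1 - 1) := by
        have h1 := KerToRange.mul (u := z * k) (v := k) (S.mul_mem (hclS hz) hkS) (hck ▸ hconjT c (hclS hcD)) hKT
        rwa [mul_assoc, hk2, mul_one] at h1
      have hkill := hzT.kill hEY hYE
      obtain ⟨j, hj⟩ := C.rootAt_of_mono_conj (hcl hc'D) hR3 (by rw [← conj_val c' hx3v, ← hcx]; exact hzx3m)
      obtain ⟨n, hn, -, hnn, -⟩ := hj.det_one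
      have hzv : z.1 - 1 = embM j n + X3 + embM j n * X3 := by
        rw [hz_eq, Units.val_mul, hcx, conj_val c' hx3v, hn, hx3v]
        noncomm_ring
      have hnY : (embM j n : Matrix (Ix τ 3) (Ix τ 3) F) * Y = Y * embM j n := by
        have h1 : (z * x3).1 * Y = Y * (z * x3).1 := S.mul_mem (hclS hz) hx3S
        rw [hcx, conj_val c' hx3v, hn, add_mul, one_mul, mul_add, mul_one, add_right_inj] at h1
        exact h1
      by_cases hjab : j = a ∨ j = b
      · have hρ : E * embM j n * E = 0 := by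
          rcases hjab with rfl | rfl
          · exact (root_commute_yOff h2 hab hnn hnY).2
          · rw [hY, yOff_comm hab] at hnY
            rw [hE, embM_comm hab]
            exact (root_commute_yOff h2 hab.symm hnn hnY).2
        rw [hzv, mul_add, mul_add, add_mul, add_mul, ← mul_assoc E (embM j n) X3, mul_assoc (E * embM j n) X3 E, hE3,
          ← mul_assoc (E * embM j n) E X3, hρ, zero_mul, add_zero, zero_add] at hkill
        exact hX30 (vanish X3 (cen_embM hla.symm N) (cen_embM hlb.symm N) hkill)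
      · push Not at hjab
        obtain ⟨c1, c2⟩ := off_cen n hjab.1 hjab.2
        have c3 : Cen a X3 := cen_embM hla.symm N
        have c4 : Cen b X3 := cen_embM hlb.symm N
        have h0 := vanish (z.1 - 1) (hzv ▸ ((c1.add c3).add (c1.mul c3))) (hzv ▸ ((c2.add c4).add (c2.mul c4))) hkill
        exact hz1 (Units.ext (by rw [sub_eq_zero.1 h0, Units.val_one]))
    · have hu : (c * h) * x * (c * h)⁻¹ = z * x3 := by rw [hcx, hkx]; group
      obtain ⟨j, hj⟩ := C.rootAt_of_mono_conj (M.mul_mem (hcl hcD) hh) hNa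
        (by rw [← conj_val (c * h) hxv, hu]; exact hzx3m)
      obtain ⟨n, hn, -, hnn, hn0⟩ := hj.det_one
      have hzx3v : (z * x3).1 = 1 + embM j n := by rw [← hu, conj_val (c * h) hxv, hn]
      have hT : KerToRange Y (embM j n) := by
        have h1 := hconjT c (hclS hcD)
        rwa [← hcx, hzx3v, add_sub_cancel_left] at h1
      have hjab : j = a ∨ j = b := by
        by_contra hh'
        push Not at hh'
        obtain ⟨c1, c2⟩ := off_cen n hh'.1 hh'.2
        exact hn0 (embM_injective j (by rw [embM_zero]; exact vanish _ c1 c2 (hT.kill hEY hYE)))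
      have hnY : (embM j n : Matrix (Ix τ 3) (Ix τ 3) F) * Y = Y * embM j n := by
        have h1 : (z * x3).1 * Y = Y * (z * x3).1 := S.mul_mem (hclS hz) hx3S
        rw [hzx3v, add_mul, one_mul, mul_add, mul_one, add_right_inj] at h1
        exact h1
      refine ⟨j, n, fun hjl => ?_, hn0, hnn, ?_, ?_⟩
      · rcases hjab with h | h
        · exact hla (hjl ▸ h)
        · exact hlb (hjl ▸ h)
      · rcases hjab with rfl | rfl
        · exact (root_commute_yOff h2 hab hnn hnY).1.symm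
        · rw [hY, yOff_comm hab] at hnY
          exact (root_commute_yOff h2 hab.symm hnn hnY).1.symm
      · have hzv : z.1 = embM j (1 + n) * embM l (1 + N) := by
          rw [hz_eq, Units.val_mul, hzx3v, hx3v, embM_add, embM_one, embM_add, embM_one]
        rw [← hzv, ← Units.val_mul, ← Units.val_mul, hzk]
  choose f nf hf1 hf0 hf2 hfc hf3 using data
  obtain ⟨-, hinj⟩ := C.gamma h2 hkM hkm l (fun N => N ≠ 0 ∧ N * N = 0) (fun N h => h.2) (fun N h => h.1)
    (fun N hN A => by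
      have h1 : (A⁻¹).1 * A.1 = 1 := congrArg Subtype.val (inv_mul_cancel A)
      refine ⟨fun h0 => hN.1 ?_, ?_⟩
      · have := congrArg (fun W => (A⁻¹).1 * W * A.1) h0
        simp only [mul_zero, zero_mul, mul_assoc, h1, mul_one] at this
        simpa only [← mul_assoc, h1, one_mul] using this
      · rw [show A.1 * N * (A⁻¹).1 * (A.1 * N * (A⁻¹).1) = A.1 * N * ((A⁻¹).1 * A.1) * N * (A⁻¹).1 by
          simp only [mul_assoc], h1, mul_one, mul_assoc A.1, hN.2, mul_zero, zero_mul])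
    ⟨e 0 1, fun h => by simpa using congrFun₂ h 0 1, e_mul_e_ne (by decide)⟩ f nf hf1 hf2 hf3
  refine no_inj_roots (le_refl 3) (N0 := e 0 1) (fun h => by simpa using congrFun₂ h 0 1) (e_mul_e_ne (by decide))
    (fun N => if h : N ≠ 0 ∧ N * N = 0 then nf ⟨N, h⟩ else 0) (fun N h0 hN => ?_) fun N N' h0 hN h0' hN' hff => ?_
  · rw [dif_pos ⟨h0, hN⟩]
    exact ⟨hf0 _, hf2 _, hfc _⟩
  · rw [dif_pos (⟨h0, hN⟩ : N ≠ 0 ∧ N * N = 0), dif_pos (⟨h0', hN'⟩ : N' ≠ 0 ∧ N' * N' = 0)] at hff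
    exact congrArg Subtype.val (hinj _ _ hff)

/-- The centraliser of a product of two roots at different factors is monomial. -/
theorem Ctx.mono_of_commute_two (C : Ctx M) (h2 : (2 : F) = 0) (hab : a ≠ b) {n1 n2 : Matrix (Fin 3) (Fin 3) F}
    (hn1 : n1 ≠ 0) (hs1 : n1 * n1 = 0) (hn2 : n2 ≠ 0) (hs2 : n2 * n2 = 0) {h : GL (Ix τ 3) F} (hh : h ∈ M)
    (hc : h.1 * (embM a (1 + n1) * embM b (1 + n2)) = embM a (1 + n1) * embM b (1 + n2) * h.1) : Mono h.1 := by
  obtain ⟨u, v, hu, hv, h0, rfl⟩ := rootMat_of_sq hn1 hs1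
  obtain ⟨u', v', hu', hv', h0', rfl⟩ := rootMat_of_sq hn2 hs2
  obtain ⟨q, q', hq, hqq, hqe⟩ := exists_conj_rankone (le_refl 3) hu hv h0 (show (0 : Fin 3) ≠ 1 by decide)
  obtain ⟨p, p', hp, hpp, hpe⟩ := exists_conj_rankone (le_refl 3) hu' hv' h0' (show (0 : Fin 3) ≠ 1 by decide)
  set Q := embU a q hq * embU b p hp with hQ
  have hQM : Q ∈ M := M.mul_mem (C.hyp.embU_mem a q hq) (C.hyp.embU_mem b p hp)
  have hQv : Q.1 = embM a q * embM b p := by rw [hQ, Units.val_mul, embU_val, embU_val]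
  have hQm : Mono Q.1 := by rw [hQv]; exact (mono_pure _).mul (mono_pure _)
  have hconj : Q.1 * (embM a (1 + Matrix.vecMulVec u v) * embM b (1 + Matrix.vecMulVec u' v')) * (Q⁻¹).1 =
      1 + yOff a b := by
    have hq'q : q' * q = 1 := mul_eq_one_comm.1 hqq
    have hp'p : p' * p = 1 := mul_eq_one_comm.1 hpp
    have e1 : q * (1 + Matrix.vecMulVec u v) = (1 + e 0 1) * q := by
      rw [mul_add, mul_one, add_mul, one_mul, ← hqe, mul_assoc _ q' q, hq'q, mul_one]
    have e2 : p * (1 + Matrix.vecMulVec u' v') = (1 + e 0 1) * p := by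
      rw [mul_add, mul_one, add_mul, one_mul, ← hpe, mul_assoc _ p' p, hp'p, mul_one]
    have : Q.1 * (embM a (1 + Matrix.vecMulVec u v) * embM b (1 + Matrix.vecMulVec u' v')) = (1 + yOff a b) * Q.1 := by
      rw [one_add_yOff, hQv, mul_assoc, ← mul_assoc (embM b p), embM_comm hab.symm, mul_assoc (embM a (1 + _)),
        ← mul_assoc (embM a q), embM_mul, embM_mul, e1, e2, ← embM_mul, ← embM_mul,
        mul_assoc (embM a (1 + e 0 1)), ← mul_assoc (embM a q), embM_comm hab, mul_assoc (embM b (1 + e 0 1)),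
        ← mul_assoc]
    rw [this, mul_assoc, Q.mul_inv, mul_one]
  have key : Mono (Q * h * Q⁻¹).1 := by
    refine C.mono_of_commute_std h2 hab (M.mul_mem (M.mul_mem hQM hh) (M.inv_mem hQM)) ?_
    have h1 : (Q * h * Q⁻¹).1 * (1 + yOff a b) = (1 + yOff a b) * (Q * h * Q⁻¹).1 := by
      rw [← hconj, Units.val_mul, Units.val_mul, mul_inv_cancel_mid, mul_inv_cancel_mid, hc]
    rwa [mul_add, mul_one, add_mul, one_mul, add_right_inj] at h1
  have e3 : h = Q⁻¹ * (Q * h * Q⁻¹) * Q := by group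
  rw [e3, Units.val_mul, Units.val_mul]
  exact ((mono_inv hQm).mul key).mul hQm

end CfsgLib.Classical.TensorWreath
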