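import Cfsg.Agent.Lib.Classical.TensorWreath.ThreeCent

set_option autoImplicit false
set_option linter.unusedSectionVars false

/-!
Characteristic two, factors of dimension three: an involution commuting with a conjugate of a root and exchanging
factors.
-/

namespace CfsgLib.Classical.TensorWreath

open Matrix
open scoped MatrixGroups Kronecker commutatorElement

section Group

variable {G H : Type*} [Group G] [Group H]

theorem hom_eq_one_of_comm (hperf : commutator G = ⊤) (f : G →* H) (hc : ∀ x y, f x * f y = f y * f x) (x : G) :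
    f x = 1 := by
  have hle : commutator G ≤ f.ker := by
    rw [_root_.commutator_def, Subgroup.commutator_le]
    intro u _ v _
    rw [MonoidHom.mem_ker, map_commutatorElement, commutatorElement_eq_one_iff_mul_comm]
    exact hc u v
  exact hle (hperf ▸ Subgroup.mem_top x)

theorem perm_fin_four_comm : ∀ x y : Equiv.Perm (Fin 4),
    Equiv.Perm.sign x = 1 → Equiv.Perm.sign y = 1 → x * x = 1 → y * y = 1 → x * y = y * x := by
  decide +kernel

theorem perm_small_comm {τ : Type} [Fintype τ] [DecidableEq τ] (h : Fintype.card τ ≤ 4) {x y : Equiv.Perm τ}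
    (hx : Equiv.Perm.sign x = 1) (hy : Equiv.Perm.sign y = 1) (hx2 : x * x = 1) (hy2 : y * y = 1) :
    x * y = y * x := by
  obtain ⟨ι⟩ := Function.Embedding.nonempty_of_card_le (show Fintype.card τ ≤ Fintype.card (Fin 4) by simpa using h)
  have hinj := Equiv.Perm.viaEmbeddingHom_injective ι
  have hsgn : ∀ u : Equiv.Perm τ, Equiv.Perm.sign (Equiv.Perm.viaEmbeddingHom ι u) = Equiv.Perm.sign u := fun u => by
    rw [Equiv.Perm.viaEmbeddingHom_apply]
    convert Equiv.Perm.sign_extendDomain u (Equiv.ofInjective ι.1 ι.2) using 2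
    unfold Equiv.Perm.viaEmbedding
    congr
  refine hinj ?_
  rw [map_mul, map_mul]
  exact perm_fin_four_comm _ _ (by rw [hsgn, hx]) (by rw [hsgn, hy]) (by rw [← map_mul, hx2, map_one])
    (by rw [← map_mul, hy2, map_one])

end Group

variable {F : Type*} [Field F] [Fintype F] {τ : Type} [Fintype τ] [DecidableEq τ]
variable {M : Subgroup (GL (Ix τ 3) F)}

/-- An involution at one factor times a root at another. -/
theorem Ctx.mono_of_commute_invol_root (C : Ctx M) (h2 : (2 : F) = 0) {a b : τ} (hab : a ≠ b) {z h : GL (Ix τ 3) F}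
    {w n : Matrix (Fin 3) (Fin 3) F} (hw : w * w = 1) (hn0 : n ≠ 0) (hn : n * n = 0)
    (hz : z.1 = embM a w * embM b (1 + n)) (hzz : z * z = 1) (hz1 : z ≠ 1) (hh : h ∈ M) (hc : z * h = h * z) :
    Mono h.1 := by
  by_cases hw1 : w = 1
  · exact C.mono_of_commute_single h2 (j := b) (by rw [hz, hw1, embM_one, one_mul]) hzz hz1 hh hc
  refine C.mono_of_commute_two h2 hab (sub_ne_zero.2 hw1) (by rw [sq_of_char_two h2, hw, sub_self]) hn0 hn hh ?_
  rw [add_sub_cancel, ← hz, ← Units.val_mul, ← Units.val_mul, hc]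

theorem rank_pair_le {a j : τ} (hja : j ≠ a) {n : Matrix (Fin 3) (Fin 3) F} (hn : RootMat n) :
    3 * (embM j (1 + n) * embM a (1 + e 0 1) - 1 : Matrix (Ix τ 3) (Ix τ 3) F).rank ≤
      4 * Fintype.card (Ix (Rest a) 3) := by
  obtain ⟨u, v, hu, hv, h0, rfl⟩ := hn
  set n := Matrix.vecMulVec u v with hndef
  have hnn : n * n = 0 := by rw [hndef, Matrix.vecMulVec_mul_vecMulVec, h0]; simp
  set A1 := (embM j n : Matrix (Ix τ 3) (Ix τ 3) F) with hA1
  set A2 := (embM a (e 0 1) : Matrix (Ix τ 3) (Ix τ 3) F) with hA2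
  set Y := (embM j (1 + n) * embM a (1 + e 0 1) - 1 : Matrix (Ix τ 3) (Ix τ 3) F) with hY
  have hYv : Y = A1 + A2 + A1 * A2 := by
    rw [hY, embM_add, embM_one, embM_add, embM_one, hA1, hA2]; noncomm_ring
  set P : Fin 3 → Matrix (Ix τ 3) (Ix τ 3) F := fun x => embM a (e x x) with hP
  have e0 : Y * P 0 = A1 * P 0 := by
    rw [hYv, add_mul, add_mul, mul_assoc A1, hA2, hP]
    simp only [embM_e_mul_ne a (show (1 : Fin 3) ≠ 0 by decide), mul_zero, add_zero]
  have e2 : Y * P 2 = A1 * P 2 := by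
    rw [hYv, add_mul, add_mul, mul_assoc A1, hA2, hP]
    simp only [embM_e_mul_ne a (show (1 : Fin 3) ≠ 2 by decide), mul_zero, add_zero]
  have e1 : Y * P 1 * (A1 * embM a (e 1 0)) = A1 * P 0 := by
    have c1 : P 1 * (A1 * embM a (e 1 0)) = A1 * embM a (e 1 0) := by
      rw [← mul_assoc, hP, hA1, embM_comm hja.symm, mul_assoc, embM_e_mul]
    have c2 : A2 * A1 = A1 * A2 := embM_comm hja.symm _ _
    have c3 : A1 * A1 = 0 := by rw [hA1, embM_mul, hnn, embM_zero]
    rw [mul_assoc, c1, hYv, add_mul, add_mul, ← mul_assoc A1 A1, c3, zero_mul, zero_add, ← mul_assoc A2 A1, c2,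
      mul_assoc A1 A2 (A1 * _), ← mul_assoc A2 A1, c2, ← mul_assoc A1 (A1 * A2), ← mul_assoc A1 A1 A2, c3, zero_mul,
      zero_mul, add_zero, mul_assoc, hA2, embM_e_mul]
  have hsum : Y = Y * P 1 * (A1 * embM a (e 1 0) + 1) + A1 * P 2 := by
    conv_lhs => rw [← mul_one Y, ← sum_e_diag a, Fin.sum_univ_three, mul_add, mul_add]
    show Y * P 0 + Y * P 1 + Y * P 2 = _
    rw [mul_add (Y * P 1), mul_one, e1, e0, e2]
  have r1 : (Y * P 1 * (A1 * embM a (e 1 0) + 1)).rank ≤ Fintype.card (Ix (Rest a) 3) := by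
    refine (Matrix.rank_mul_le_left _ _).trans ((Matrix.rank_mul_le_right _ _).trans ?_)
    rw [hP]
    simp only [e, Matrix.single_eq_single_vecMulVec_single]
    exact rank_embM_vecMulVec_le a _ _
  have r2 : (A1 * P 2).rank * 3 ≤ Fintype.card (Ix (Rest a) 3) := by
    have e4 : A1 * P 2 = ins a (embM (⟨j, hja⟩ : Rest a) n) (e 2 2) := by
      rw [hP, hA1]
      simp only []
      rw [← ins_embM a ⟨j, hja⟩, embM_eq_ins a (e 2 2), ins_mul, one_mul, mul_one]
    have h4 : (A1 * P 2).rank ≤ Fintype.card (Ix (Rest (⟨j, hja⟩ : Rest a)) 3) := by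
      rw [e4, e, Matrix.single_eq_single_vecMulVec_single]
      exact (rank_ins_vecMulVec_le a _ _ _).trans (rank_embM_vecMulVec_le _ _ _)
    refine (Nat.mul_le_mul_right 3 h4).trans (le_of_eq ?_)
    rw [card_rest, card_rest, Fintype.card_subtype_compl, Fintype.card_subtype_eq, ← pow_succ]
    congr 1
    have h5 : ({j, a} : Finset τ).card ≤ Fintype.card τ := Finset.card_le_univ _
    rw [Finset.card_pair hja] at h5
    omega
  have h6 := rank_add_le' (Y * P 1 * (A1 * embM a (e 1 0) + 1)) (A1 * P 2)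
  rw [← hsum] at h6
  omega

theorem exists_pair_hom {h : τ → Matrix (Fin 3) (Fin 3) F} {σ : Equiv.Perm τ}
    (hP : pureM h * permM F 3 σ * (pureM h * permM F 3 σ) = 1) {p : τ} (hp : σ p ≠ p) :
    ∃ δ : SpecialLinearGroup (Fin 3) F →* GL (Ix τ 3) F, ∃ q' : Matrix (Fin 3) (Fin 3) F,
      (∀ A, (δ A).1 = embM p A.1 * embM (σ p) (h (σ p) * A.1 * q')) ∧
      (∀ A, (δ A).1.det = 1) ∧ ∀ A, (δ A).1 * (pureM h * permM F 3 σ) = pureM h * permM F 3 σ * (δ A).1 := by
  have hd : (pureM h).det ≠ 0 := fun h0 => by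
    have := congrArg Matrix.det hP
    rw [Matrix.det_mul, Matrix.det_mul, h0, zero_mul, zero_mul, Matrix.det_one] at this
    exact zero_ne_one this
  have hq := nonsing_inv_of_pureM hd (σ p)
  have hq' : (h (σ p))⁻¹ * h (σ p) = 1 := mul_eq_one_comm.1 hq
  have hsc := hP
  rw [mono_mul_self] at hsc
  obtain ⟨hσσ, hs⟩ := eq_one_of_pure_perm (le_refl 3) hsc
  have hσ2 : σ (σ p) = p := by
    rw [← Equiv.Perm.mul_apply, hσσ, Equiv.Perm.one_apply]
  obtain ⟨c, hc⟩ := hs p
  rw [Pi.mul_apply, show σ.symm p = σ p by rw [Equiv.symm_apply_eq, hσ2]] at hc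
  let D : SpecialLinearGroup (Fin 3) F → Matrix (Ix τ 3) (Ix τ 3) F := fun A =>
    embM p A.1 * embM (σ p) (h (σ p) * A.1 * (h (σ p))⁻¹)
  have hD : ∀ A, (D A).det = 1 := fun A => by
    simp only [D, Matrix.det_mul, det_embM]
    rw [A.2, one_pow, one_mul, mul_one, ← Matrix.det_mul, hq, Matrix.det_one, one_pow]
  have hDm : ∀ A B, D (A * B) = D A * D B := fun A B => by
    simp only [D, Matrix.SpecialLinearGroup.coe_mul]
    rw [mul_assoc (embM p A.1), ← mul_assoc (embM (σ p) _) (embM p B.1), embM_comm hp, mul_assoc (embM p B.1),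
      ← mul_assoc (embM p A.1), embM_mul, embM_mul]
    congr 2
    simp only [mul_assoc]
    rw [← mul_assoc (h (σ p))⁻¹, hq', one_mul]
  refine ⟨MonoidHom.mk' (fun A => glOf (D A) (hD A)) fun A B => Units.ext (by
    rw [Units.val_mul, glOf_val, glOf_val, glOf_val]; exact hDm A B), (h (σ p))⁻¹, fun A => rfl, hD, fun A => ?_⟩
  show D A * _ = _ * D A
  simp only [D]
  rw [← mul_assoc (pureM h * permM F 3 σ),
    mono_mul_embM (g' := fun j => (h j)⁻¹) σ p (nonsing_inv_of_pureM hd (σ p)) A.1, mul_assoc (embM (σ p) _),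
    mono_mul_embM (g' := fun j => (h j)⁻¹) σ (σ p) (nonsing_inv_of_pureM hd _), hσ2, ← mul_assoc (embM (σ p) _),
    embM_comm hp]
  congr 2
  refine congrArg (embM p) ?_
  have e1 : h p = c • (h (σ p))⁻¹ := by
    rw [← mul_one (h p), ← hq, ← mul_assoc, hc, smul_one_mul]
  calc A.1 = (c • A.1) * (h (σ p))⁻¹ * (h p)⁻¹ := by
        rw [smul_mul_assoc, ← mul_smul_comm, ← e1, mul_assoc, nonsing_inv_of_pureM hd p, mul_one]
    _ = h p * (h (σ p) * A.1 * (h (σ p))⁻¹) * (h p)⁻¹ := by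
        congr 1
        rw [← mul_assoc, ← mul_assoc, hc, smul_one_mul]

/-- An involution which makes the conjugate of a root a product of two roots. -/
theorem Ctx.no_even (C : Ctx M) (h2 : (2 : F) = 0) {a : τ} {g x k z c : GL (Ix τ 3) F} (hg : g ∈ M) (hgm : ¬ Mono g.1)
    (hxM : x ∈ M) (hxv : x.1 = 1 + embM a (e 0 1)) (hk : k = g * x * g⁻¹) (hzM : z ∈ M) (hzm : Mono z.1)
    (hzz : z * z = 1) (hz1 : z ≠ 1) (hzk : z * k = k * z) (hcM : c ∈ M) (hck : z * k = c * k * c⁻¹) : False := by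
  classical
  have hX : RootAt a (embM a (e 0 1) : Matrix (Ix τ 3) (Ix τ 3) F) := rootAt_e a (by decide)
  have he0 : (e 0 1 : Matrix (Fin 3) (Fin 3) F) ≠ 0 := fun h => by simpa using congrFun₂ h 0 1
  have hee : (e 0 1 : Matrix (Fin 3) (Fin 3) F) * e 0 1 = 0 := e_mul_e_ne (by decide)
  have hx2 : x * x = 1 := Ctx.invol_sq h2 hxv (rootAt_sq hX)
  set u := g⁻¹ * c * g with hu
  have huM : u ∈ M := M.mul_mem (M.mul_mem (M.inv_mem hg) hcM) hg
  set z' := g⁻¹ * z * g with hz'
  have hz'e : z' = (u * x * u⁻¹) * x := by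
    have hk2 : k * k = 1 := by rw [hk, show g * x * g⁻¹ * (g * x * g⁻¹) = g * (x * x) * g⁻¹ by group, hx2]; group
    have : z = (z * k) * k := by rw [mul_assoc, hk2, mul_one]
    rw [hz', this, hck, hk, hu]
    group
  have hz'x : z' * x = x * z' := by
    rw [hk] at hzk
    calc z' * x = g⁻¹ * (z * (g * x * g⁻¹)) * g := by rw [hz']; group
      _ = g⁻¹ * (g * x * g⁻¹ * z) * g := by rw [hzk]
      _ = x * z' := by rw [hz']; group
  have hz'2 : z' * z' = 1 := by rw [hz', show g⁻¹ * z * g * (g⁻¹ * z * g) = g⁻¹ * (z * z) * g by group, hzz]; group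
  have hz'1 : z' ≠ 1 := fun h => hz1 (by rw [show z = g * z' * g⁻¹ by rw [hz']; group, h]; group)
  have hux : (u * x * u⁻¹) * x = x * (u * x * u⁻¹) := by
    have h1 : u * x * u⁻¹ = z' * x := by rw [hz'e, mul_assoc (u * x * u⁻¹) x x, hx2, mul_one]
    rw [h1, mul_assoc z' x x, hx2, mul_one, hz'x, ← mul_assoc, hx2, one_mul]
  have huxm : Mono (u * x * u⁻¹).1 :=
    C.mono_of_commute_root (M.mul_mem (M.mul_mem huM hxM) (M.inv_mem huM)) hX ((commute_val_iff hxv).1 hux)
  obtain ⟨j, hj⟩ := C.rootAt_of_mono_conj huM hX (conj_val u hxv ▸ huxm)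
  obtain ⟨n, hn, -, hnn, hn0⟩ := hj.det_one
  have hz'v : z'.1 = embM j (1 + n) * embM a (1 + e 0 1) := by
    rw [hz'e, Units.val_mul, conj_val u hxv, hn, hxv, embM_add, embM_one, embM_add, embM_one]
  -- everything commuting with `z'` is monomial, and its component at `a` fixes a root
  have hcent : ∀ w ∈ M, z' * w = w * z' → Mono w.1 := by
    intro w hw hwc
    by_cases hja : j = a
    · subst hja
      exact C.mono_of_commute_single h2 (by rw [hz'v, embM_mul]) hz'2 hz'1 hw hwc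
    · refine C.mono_of_commute_two h2 hja hn0 hnn he0 hee hw ?_
      rw [← hz'v, ← Units.val_mul, ← Units.val_mul, hwc]
  obtain ⟨N0, A', hN00, hN0, hA', hA'u, hz'A⟩ : ∃ (N0 : Matrix (Fin 3) (Fin 3) F) (A' : Matrix (Ix τ 3) (Ix τ 3) F),
      N0 ≠ 0 ∧ N0 * N0 = 0 ∧ Cen a A' ∧ IsUnit A' ∧ z'.1 = embM a (1 + N0) * A' := by
    by_cases hja : j = a
    · subst hja
      set w := (1 + n) * (1 + e 0 1) with hw
      have hzw : z'.1 = embM j w := by rw [hz'v, embM_mul]
      have hw2 : w * w = 1 := embM_injective j (by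
        rw [← embM_mul, ← hzw, ← Units.val_mul, hz'2, Units.val_one, embM_one])
      refine ⟨w - 1, 1, fun h => hz'1 (Units.ext ?_), by rw [sq_of_char_two h2, hw2, sub_self], Cen.one j, isUnit_one,
        by rw [mul_one, add_sub_cancel, hzw]⟩
      rw [hzw, sub_eq_zero.1 h, embM_one, Units.val_one]
    · refine ⟨e 0 1, embM j (1 + n), he0, hee, cen_embM (Ne.symm hja) _, IsUnit.of_mul_eq_one (embM j (1 + n)) ?_,
        by rw [hz'v, embM_comm hja]⟩
      rw [embM_mul, two_mul_one_add_sq h2 hnn, embM_one]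
  obtain ⟨hs, σ, hzv⟩ := hzm
  have hzsq : pureM hs * permM F 3 σ * (pureM hs * permM F 3 σ) = 1 := by
    rw [← hzv, ← Units.val_mul, hzz, Units.val_one]
  have hcz : ∀ w : GL (Ix τ 3) F, z * w = w * z → z' * (g⁻¹ * w * g) = g⁻¹ * w * g * z' := fun w hw => by
    calc z' * (g⁻¹ * w * g) = g⁻¹ * (z * w) * g := by rw [hz']; group
      _ = g⁻¹ * (w * z) * g := by rw [hw]
      _ = _ := by rw [hz']; group
  have hmove : ∀ p, σ p ≠ p := by
    intro p hp
    obtain ⟨R, hR, hRc⟩ := exists_root_commute (le_refl 3) h2 hzsq hp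
    rw [← hzv] at hRc
    obtain ⟨w, hwM, hwv, -⟩ := C.exists_rootGL hR
    have hwm := hcent _ (M.mul_mem (M.mul_mem (M.inv_mem hg) hwM) hg) (hcz w ((commute_val_iff hwv).2 hRc))
    have := C.mono_of_conj_root (M.inv_mem hg) hR (by rw [← conj_val g⁻¹ hwv, inv_inv]; exact hwm)
    exact hgm (inv_inv g ▸ mono_inv this)
  have hrk : 3 * (z.1 - 1).rank ≤ 4 * Fintype.card (Ix (Rest a) 3) := by
    have e1 : g.1 * (z'.1 - 1) * (g⁻¹).1 = z.1 - 1 := by
      rw [mul_sub, mul_one, sub_mul, g.mul_inv, ← Units.val_mul, ← Units.val_mul]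
      rw [show g * z' * g⁻¹ = z by rw [hz']; group]
    rw [← e1, rank_conj]
    by_cases hja : j = a
    · subst hja
      rw [hz'v, embM_mul, ← embM_one (F := F) (m := 3) j, ← embM_sub]
      set w := (1 + n) * (1 + e 0 1) with hw
      have hw2 : w * w = 1 := embM_injective j (by
        rw [← embM_mul, show embM j w = z'.1 by rw [hz'v, embM_mul], ← Units.val_mul, hz'2, Units.val_one, embM_one])
      by_cases hw1 : w - 1 = 0
      · rw [hw1, embM_zero, Matrix.rank_zero]; omega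
      obtain ⟨p, q, -, -, -, hpq⟩ := rootMat_of_sq hw1 (by rw [sq_of_char_two h2, hw2, sub_self])
      rw [hpq]
      have := rank_embM_vecMulVec_le (F := F) j p q
      omega
    · rw [hz'v]
      exact rank_pair_le hja (rootMat_of_sq hn0 hnn)
  have hσσ : ∀ p, σ (σ p) = p := fun p => by
    have h1 := hzsq
    rw [mono_mul_self] at h1
    rw [← Equiv.Perm.mul_apply, (eq_one_of_pure_perm (le_refl 3) h1).1, Equiv.Perm.one_apply]
  have ht4 : Fintype.card τ ≤ 4 := by
    by_contra hgt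
    push Not at hgt
    obtain ⟨q, -, hq⟩ := Finset.exists_mem_notMem_of_card_lt_card (t := (Finset.univ : Finset τ)) (s := {a, σ a})
      (by rw [Finset.card_pair (hmove a).symm, Finset.card_univ]; omega)
    obtain ⟨o, -, ho⟩ := Finset.exists_mem_notMem_of_card_lt_card (t := (Finset.univ : Finset τ))
      (s := {a, σ a, q, σ q})
      (lt_of_le_of_lt Finset.card_le_four (by rw [Finset.card_univ]; omega))
    simp only [Finset.mem_insert, Finset.mem_singleton, not_or] at hq ho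
    have key : ∀ u v : τ, σ u = σ v ↔ u = v := fun u v => σ.injective.eq_iff
    have k1 : ∀ u v : τ, σ u = v ↔ u = σ v := fun u v => ⟨fun h => by rw [← h, hσσ], fun h => by rw [h, hσσ]⟩
    have m1 : σ q ≠ a := fun h => hq.2 (by rw [← h, hσσ])
    have m2 : σ o ≠ a := fun h => ho.2.1 (by rw [← h, hσσ])
    have m3 : σ o ≠ q := fun h => ho.2.2.2 (by rw [← h, hσσ])
    have hb := pairs_bound (le_refl 3) hzsq (s := 3) ![a, σ a, q, σ q, o, σ o] (by
      intro u v
      fin_cases u <;> fin_cases v <;>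
        simp [key, k1, hσσ, hmove a, (hmove a).symm, hmove q, (hmove q).symm, hmove o, (hmove o).symm, hq.1, hq.2,
          Ne.symm hq.1, Ne.symm hq.2, ho.1, ho.2.1, ho.2.2.1, ho.2.2.2, Ne.symm ho.1, Ne.symm ho.2.1,
          Ne.symm ho.2.2.1, Ne.symm ho.2.2.2, m1, m2, m3, Ne.symm m1, Ne.symm m2, Ne.symm m3]) (fun u => by fin_cases u <;> rfl)
    have h351 : (Finset.univ.filter fun v : Fin (2 * 3) → Fin 3 => Lex (pr v)).card = 351 := lex_card_three_three
    rw [h351, card_ix a, ← hzv] at hb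
    have hpos : 0 < Fintype.card (Ix (Rest a) 3) := Fintype.card_pos
    rw [show (3 : ℕ) ^ (2 * 3) = 729 by norm_num] at hb
    omega
  -- the homomorphisms attached to the pairs
  have hsl : commutator (SpecialLinearGroup (Fin 3) F) = ⊤ :=
    commutator_SL_eq_top (Or.inl (by rw [Fintype.card_fin]))
  have hom : ∀ p : τ, ∃ (δ φ : SpecialLinearGroup (Fin 3) F →* GL (Ix τ 3) F) (q' : Matrix (Fin 3) (Fin 3) F),
      (∀ A, (δ A).1 = embM p A.1 * embM (σ p) (hs (σ p) * A.1 * q')) ∧ (∀ A, φ A = g⁻¹ * δ A * g) ∧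
      (∀ A, φ A ∈ M) ∧ (∀ A, ∃ f, (φ A).1 = pureM f * permM F 3 1) ∧ (∀ A, Cen a (φ A).1) := by
    intro p
    obtain ⟨δ, q', hδv, hδd, hδc⟩ := exists_pair_hom hzsq (hmove p)
    have hδM : ∀ A, δ A ∈ M := fun A => C.hyp.mono _ (hδd A) (by rw [hδv]; exact (mono_pure _).mul (mono_pure _))
    let φ : SpecialLinearGroup (Fin 3) F →* GL (Ix τ 3) F := (MulAut.conj g⁻¹).toMonoidHom.comp δ
    have hφ : ∀ A, φ A = g⁻¹ * δ A * g := fun A => by
      show g⁻¹ * δ A * (g⁻¹)⁻¹ = _
      rw [inv_inv]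
    have hφM : ∀ A, φ A ∈ M := fun A => by rw [hφ]; exact M.mul_mem (M.mul_mem (M.inv_mem hg) (hδM A)) hg
    have hφc : ∀ A, z' * φ A = φ A * z' := fun A => by
      rw [hφ]
      refine hcz _ (Units.ext ?_)
      rw [Units.val_mul, Units.val_mul, hzv, hδc]
    have hφm : ∀ A, φ A ∈ monoGroup F τ 3 := fun A => hcent _ (hφM A) (hφc A)
    let ψ : SpecialLinearGroup (Fin 3) F →* Equiv.Perm τ :=
      (permOf (le_refl 3)).comp (φ.codRestrict (monoGroup F τ 3) hφm)
    have hsgn : ∀ A, Equiv.Perm.sign (ψ A) = 1 :=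
      hom_eq_one_of_comm hsl (Equiv.Perm.sign.comp ψ) fun x y => mul_comm _ _
    let T : Set (Equiv.Perm τ) := {w | ∃ (i l : Fin 3) (hil : i ≠ l) (t : F), ψ (SpecialLinearGroup.transvection hil t) = w}
    have hTsq : ∀ w ∈ T, w * w = 1 := by
      rintro _ ⟨i, l, hil, t, rfl⟩
      rw [← map_mul, show SpecialLinearGroup.transvection hil t * SpecialLinearGroup.transvection hil t = 1 from
        Subtype.ext (by
          rw [Matrix.SpecialLinearGroup.coe_mul, SpecialLinearGroup.transvection_coe]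
          exact two_mul_one_add_sq h2 (by simp [hil.symm])), map_one]
    have hT : ∀ w ∈ T, ∀ A, w * ψ A = ψ A * w := by
      rintro w hw A
      have : (Subgroup.centralizer ({w} : Set (Equiv.Perm τ))).comap ψ = ⊤ :=
        eq_top_of_transvection_mem _ fun i l hil t => by
          rw [Subgroup.mem_comap, Subgroup.mem_centralizer_singleton_iff]
          obtain ⟨i', l', hil', t', rfl⟩ := hw
          exact perm_small_comm ht4 (hsgn _) (hsgn _) (hTsq _ ⟨i, l, hil, t, rfl⟩) (hTsq _ ⟨i', l', hil', t', rfl⟩)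
      exact (Subgroup.mem_centralizer_singleton_iff.1 (this.symm ▸ Subgroup.mem_top A : A ∈
        (Subgroup.centralizer ({w} : Set (Equiv.Perm τ))).comap ψ)).symm
    have hψ : ∀ A, ψ A = 1 := hom_eq_one_of_comm hsl ψ fun x y => by
      have : (Subgroup.centralizer ({ψ y} : Set (Equiv.Perm τ))).comap ψ = ⊤ :=
        eq_top_of_transvection_mem _ fun i l hil t => by
          rw [Subgroup.mem_comap, Subgroup.mem_centralizer_singleton_iff]
          exact hT _ ⟨i, l, hil, t, rfl⟩ y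
      exact Subgroup.mem_centralizer_singleton_iff.1 (this.symm ▸ Subgroup.mem_top x : x ∈
        (Subgroup.centralizer ({ψ y} : Set (Equiv.Perm τ))).comap ψ)
    have hpure : ∀ A, ∃ f, (φ A).1 = pureM f * permM F 3 (1 : Equiv.Perm τ) := fun A => by
      obtain ⟨f, π, hf⟩ : Mono (φ A).1 := hφm A
      have : π = 1 :=
        (permOf_eq (le_refl 3) (a := (φ.codRestrict (monoGroup F τ 3) hφm) A) hf).symm.trans (hψ A)
      exact ⟨f, this ▸ hf⟩
    refine ⟨δ, φ, q', hδv, hφ, hφM, hpure, cen_of_hom rfl h2 hN00 hN0 φ (fun A => ?_) fun A => ?_⟩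
    · obtain ⟨f, hf⟩ := hpure A
      exact ⟨f, 1, hf, rfl⟩
    · obtain ⟨f, hf⟩ := hpure A
      have e1 := split_mono (F := F) (h := f) (σ := (1 : Equiv.Perm τ)) (i := a) rfl
      have h1 : z'.1 * (φ A).1 = (φ A).1 * z'.1 :=
        (Units.val_mul _ _).symm.trans ((congrArg Units.val (hφc A)).trans (Units.val_mul _ _))
      rw [hz'A, hf, e1.1] at h1
      rw [hf, e1.1]
      refine comm_component h2 hN0 hA' hA'u e1.2 ?_ h1.symm
      rw [← e1.1, ← hf]
      exact (φ A).isUnit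
  choose δ φ q' hδv hφ hφM hpure hcen using hom
  set A0 : SpecialLinearGroup (Fin 3) F := ⟨1 + e 0 1, det_one_add_single (by decide)⟩ with hA0
  have hA02 : A0 * A0 = 1 := Subtype.ext (two_mul_one_add_sq h2 hee)
  let S : τ → Finset τ := fun p => Finset.univ.filter fun l => ¬ Cen l (φ p A0).1
  have hSa : ∀ p, a ∉ S p := fun p h => (Finset.mem_filter.1 h).2 (hcen p A0)
  have hS : ∀ p, 2 ≤ (S p).card := by
    intro p
    by_contra hlt
    obtain ⟨o, ho⟩ : ∃ o, ∀ l, l ≠ o → Cen l (φ p A0).1 := by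
      rcases (S p).eq_empty_or_nonempty with he | ⟨o, ho⟩
      · refine ⟨a, fun l _ => ?_⟩
        by_contra hl
        exact Finset.notMem_empty l (he ▸ Finset.mem_filter.2 ⟨Finset.mem_univ l, hl⟩)
      · refine ⟨o, fun l hl => ?_⟩
        by_contra hl'
        exact hl (Finset.card_le_one.1 (show (S p).card ≤ 1 by omega) l (Finset.mem_filter.2 ⟨Finset.mem_univ l, hl'⟩) o ho)
    obtain ⟨v, hv⟩ := eq_embM_of_cen_off ho
    have hv2 : v * v = 1 := embM_injective o (by
      rw [← embM_mul, ← hv, ← Units.val_mul, ← map_mul, hA02, map_one, Units.val_one, embM_one])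
    have hv1 : v - 1 ≠ 0 := fun h => by
      have h1 : φ p A0 = 1 := Units.ext (by rw [hv, sub_eq_zero.1 h, embM_one, Units.val_one])
      rw [hφ] at h1
      have h3 : δ p A0 = 1 := by
        calc δ p A0 = g * (g⁻¹ * δ p A0 * g) * g⁻¹ := by group
          _ = 1 := by rw [h1]; group
      have h4 := congrArg Units.val h3
      rw [hδv, Units.val_one] at h4
      have h5 : (embM p A0.1 : Matrix (Ix τ 3) (Ix τ 3) F) = embM (σ p) (hs (σ p) * A0.1 * q' p) := by
        have hA : (embM p A0.1 : Matrix (Ix τ 3) (Ix τ 3) F) * embM p A0.1 = 1 := by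
          rw [embM_mul, show A0.1 * A0.1 = 1 from congrArg Subtype.val hA02, embM_one]
        calc embM p A0.1 = embM p A0.1 * (embM p A0.1 * embM (σ p) (hs (σ p) * A0.1 * q' p)) := by rw [h4, mul_one]
          _ = _ := by rw [← mul_assoc, hA, one_mul]
      obtain ⟨s, hs'⟩ := embM_eq_scalar (hmove p).symm h5
      have := congrFun₂ hs' 0 1
      simp [hA0] at this
    obtain ⟨pu, pv, hpu, hpv, hp0, hpe⟩ := rootMat_of_sq hv1 (by rw [sq_of_char_two h2, hv2, sub_self])
    have hR : RootAt o ((φ p A0).1 - 1) :=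
      ⟨pu, pv, hpu, hpv, hp0, by rw [hv, ← hpe, embM_sub, embM_one]⟩
    refine hgm (C.mono_of_conj_root hg hR ?_)
    rw [mul_sub, mul_one, sub_mul, g.mul_inv, add_sub_cancel, ← Units.val_mul, ← Units.val_mul,
      show g * φ p A0 * g⁻¹ = δ p A0 by rw [hφ]; group, hδv]
    exact (mono_pure _).mul (mono_pure _)
  have hne : ∀ p, S p ⊆ Finset.univ.erase a := fun p l hl =>
    Finset.mem_erase.2 ⟨fun h => hSa p (h ▸ hl), Finset.mem_univ l⟩
  obtain ⟨q, -, hq⟩ := Finset.exists_mem_notMem_of_card_lt_card (t := (Finset.univ : Finset τ)) (s := {a, σ a}) (by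
    rw [Finset.card_pair (hmove a).symm, Finset.card_univ]
    have h1 := (hS a).trans (Finset.card_le_card (hne a))
    rw [Finset.card_erase_of_mem (Finset.mem_univ a), Finset.card_univ] at h1
    omega)
  simp only [Finset.mem_insert, Finset.mem_singleton, not_or] at hq
  obtain ⟨l, hl⟩ : (S a ∩ S q).Nonempty := by
    refine Finset.inter_nonempty_of_card_lt_card_add_card (hne a) (hne q) ?_
    rw [Finset.card_erase_of_mem (Finset.mem_univ a), Finset.card_univ]
    have := hS a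
    have := hS q
    omega
  obtain ⟨hla, hlq⟩ := Finset.mem_inter.1 hl
  obtain ⟨f, hf⟩ := hpure a A0
  obtain ⟨n', A, hn', hnA, hA, hAu⟩ := exists_split_invol (le_refl 3) h2 (h := f) (σ := (1 : Equiv.Perm τ)) (i := l)
    (by rw [← hf, ← Units.val_mul, ← map_mul, hA02, map_one, Units.val_one]) rfl
  rw [← hf] at hnA
  have hn'0 : n' ≠ 0 := fun h => (Finset.mem_filter.1 hla).2 (by
    rw [hnA, h, add_zero, embM_one, one_mul]; exact hA)
  refine (Finset.mem_filter.1 hlq).2 (cen_of_hom rfl h2 hn'0 hn' (φ q) (fun B => ?_) (fun B => ?_) A0)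
  · obtain ⟨f', hf'⟩ := hpure q B
    exact ⟨f', 1, hf', rfl⟩
  · obtain ⟨f', hf'⟩ := hpure q B
    have e1 := split_mono (F := F) (h := f') (σ := (1 : Equiv.Perm τ)) (i := l) rfl
    have hdd : (δ q B).1 * (δ a A0).1 = (δ a A0).1 * (δ q B).1 := by
      rw [hδv, hδv]
      have hq2 : σ q ≠ a := fun h => hq.2 (by rw [← h, hσσ])
      have hq3 : σ q ≠ σ a := fun h => hq.1 (σ.injective h)
      have cm : ∀ {i l : τ} (_ : i ≠ l) (u v : Matrix (Fin 3) (Fin 3) F),
          Commute (embM i u : Matrix (Ix τ 3) (Ix τ 3) F) (embM l v) := fun h u v => embM_comm h u v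
      exact (((cm hq.1 _ _).mul_left (cm hq2 _ _)).mul_right ((cm hq.2 _ _).mul_left (cm hq3 _ _))).eq
    have h1 : (φ q B).1 * (φ a A0).1 = (φ a A0).1 * (φ q B).1 := by
      rw [← Units.val_mul, ← Units.val_mul, hφ, hφ]
      congr 1
      have : δ q B * δ a A0 = δ a A0 * δ q B := Units.ext (by rw [Units.val_mul, Units.val_mul, hdd])
      calc g⁻¹ * δ q B * g * (g⁻¹ * δ a A0 * g) = g⁻¹ * (δ q B * δ a A0) * g := by group
        _ = g⁻¹ * (δ a A0 * δ q B) * g := by rw [this]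
        _ = _ := by group
    rw [hnA, hf', e1.1] at h1
    rw [hf', e1.1]
    refine comm_component h2 hn' hA hAu e1.2 ?_ h1
    rw [← e1.1, ← hf']
    exact (φ q B).isUnit

end CfsgLib.Classical.TensorWreath
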