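import Cfsg.Agent.Lib.Classical.TensorWreath.Basic
import Cfsg.Agent.Lib.Classical.TensorMax.Basic
import Cfsg.Agent.Lib.Classical.Transvection

set_option autoImplicit false
set_option linter.unusedSectionVars false

/-!
An intermediate group with an element `1 + root ⊗ E`, `E` not a scalar, contains every element of
determinant one.
-/

namespace CfsgLib.Classical.TensorWreath

open Matrix
open scoped MatrixGroups Kronecker

variable {F : Type*} [Field F] {τ : Type} [Fintype τ] [DecidableEq τ] {m : ℕ}

/-- An intermediate group. -/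
structure Hyp (M : Subgroup (GL (Ix τ m) F)) : Prop where
  det_one : ∀ g ∈ M, g.1.det = 1
  mono : ∀ g : GL (Ix τ m) F, g.1.det = 1 → Mono g.1 → g ∈ M

/-- The group contains all of `SL`. -/
def Top (M : Subgroup (GL (Ix τ m) F)) : Prop := ∀ g : GL (Ix τ m) F, g.1.det = 1 → g ∈ M

/-- Some element of `M` has this matrix. -/
def InM (M : Subgroup (GL (Ix τ m) F)) (X : Matrix (Ix τ m) (Ix τ m) F) : Prop := ∃ g ∈ M, g.1 = X

variable {M : Subgroup (GL (Ix τ m) F)}

theorem InM.mul {X Y : Matrix (Ix τ m) (Ix τ m) F} (hX : InM M X) (hY : InM M Y) : InM M (X * Y) := by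
  obtain ⟨g, hg, rfl⟩ := hX
  obtain ⟨h, hh, rfl⟩ := hY
  exact ⟨g * h, M.mul_mem hg hh, Units.val_mul g h⟩

theorem inM_one : InM M 1 := ⟨1, M.one_mem, Units.val_one⟩

theorem InM.of_mul_eq_one {X Y : Matrix (Ix τ m) (Ix τ m) F} (hX : InM M X) (h : X * Y = 1) : InM M Y := by
  obtain ⟨g, hg, rfl⟩ := hX
  exact ⟨g⁻¹, M.inv_mem hg, Units.inv_eq_of_mul_eq_one_right h⟩

theorem InM.neg {X : Matrix (Ix τ m) (Ix τ m) F} (hX : InM M (1 + X)) (h : X * X = 0) : InM M (1 - X) :=
  hX.of_mul_eq_one (by rw [mul_sub, mul_one, add_mul, one_mul, h, add_zero, add_sub_cancel_right])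

theorem InM.add {X Y : Matrix (Ix τ m) (Ix τ m) F} (hX : InM M (1 + X)) (hY : InM M (1 + Y)) (h : X * Y = 0) :
    InM M (1 + (X + Y)) := by
  have := hX.mul hY
  rwa [mul_add, mul_one, add_mul, one_mul, h, add_zero, add_assoc] at this

theorem Hyp.inM (H : Hyp M) {X : Matrix (Ix τ m) (Ix τ m) F} (hd : X.det = 1) (hX : Mono X) : InM M X :=
  ⟨glOf X hd, H.mono _ hd hX, rfl⟩

theorem Hyp.conj (H : Hyp M) {X Q Q' : Matrix (Ix τ m) (Ix τ m) F} (hX : InM M (1 + X)) (hd : Q.det = 1)
    (hQ : Mono Q) (hQQ : Q * Q' = 1) : InM M (1 + Q * X * Q') := by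
  have h := ((H.inM hd hQ).mul hX).mul ((H.inM hd hQ).of_mul_eq_one hQQ)
  rwa [mul_add, mul_one, add_mul, hQQ] at h

/-- The unit matrix `e a b`. -/
abbrev e (a b : Fin m) : Matrix (Fin m) (Fin m) F := Matrix.single a b (1 : F)

theorem e_mul_e (a b c : Fin m) : (e a b : Matrix (Fin m) (Fin m) F) * e b c = e a c := by simp

theorem e_mul_e_ne {a b b' c : Fin m} (h : b ≠ b') : (e a b : Matrix (Fin m) (Fin m) F) * e b' c = 0 := by simp [h]

theorem embM_e_mul (i : τ) (a b c : Fin m) :
    (embM i (e a b) : Matrix (Ix τ m) (Ix τ m) F) * embM i (e b c) = embM i (e a c) := by rw [embM_mul, e_mul_e]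

theorem embM_e_mul_ne (i : τ) {a b b' c : Fin m} (h : b ≠ b') :
    (embM i (e a b) : Matrix (Ix τ m) (Ix τ m) F) * embM i (e b' c) = 0 := by
  rw [embM_mul, e_mul_e_ne h, embM_zero]

theorem sum_e_diag (i : τ) : ∑ b, (embM i (e b b) : Matrix (Ix τ m) (Ix τ m) F) = 1 := by
  rw [← embM_sum, ← embM_one (F := F) (m := m) i]
  congr 1
  ext a c
  rw [Matrix.sum_apply, Fintype.sum_eq_single a]
  · by_cases h : a = c
    · subst h; simp
    · simp [h, Matrix.one_apply_ne h]
  · intro x hx
    simp [hx]

theorem cen_of_units {j : τ} {Y : Matrix (Ix τ m) (Ix τ m) F}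
    (h : ∀ a b : Fin m, embM j (e a b) * Y = Y * embM j (e a b)) : Cen j Y := fun b => by
  rw [Matrix.matrix_eq_sum_single b]
  simp only [embM_sum, Finset.sum_mul, Finset.mul_sum]
  refine Finset.sum_congr rfl fun x _ => Finset.sum_congr rfl fun y _ => ?_
  rw [show Matrix.single x y (b x y) = b x y • (e x y : Matrix (Fin m) (Fin m) F) by simp, embM_smul,
    smul_mul_assoc, mul_smul_comm, h]

theorem exists_eq_smul_one_of_cen [NeZero m] {Y : Matrix (Ix τ m) (Ix τ m) F} (h : ∀ j, Cen j Y) :
    ∃ c : F, Y = c • 1 := by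
  refine ⟨Y 0 0, Matrix.ext fun x y => ?_⟩
  by_cases hxy : x = y
  · subst hxy
    have key : ∀ s : Finset τ, Y (s.piecewise x 0) (s.piecewise x 0) = Y 0 0 := by
      intro s
      induction s using Finset.induction with
      | empty => simp
      | insert a s ha IH => rw [Finset.piecewise_insert, (h a).apply_update rfl, IH]
    simpa using key Finset.univ
  · obtain ⟨i, hi⟩ := Function.ne_iff.1 hxy
    simp [(h i).apply_eq_zero hi, Matrix.one_apply_ne hxy]

/-- The factors of `T`. -/
def pick (T : Finset τ) (f : τ → Matrix (Fin m) (Fin m) F) : τ → Matrix (Fin m) (Fin m) F :=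
  fun j => if j ∈ T then f j else 1

/-- A product of unit matrices on the factors in `T`. -/
def pt (T : Finset τ) (p : τ → Fin m × Fin m) : Matrix (Ix τ m) (Ix τ m) F :=
  pureM (pick T fun j => e (p j).1 (p j).2)

/-- Distinct pairs on `T`. -/
def Dist (T : Finset τ) (p : τ → Fin m × Fin m) : Prop := ∀ j ∈ T, (p j).1 ≠ (p j).2

theorem pureM_eq_zero {g : τ → Matrix (Fin m) (Fin m) F} {i : τ} (h : g i = 0) : pureM g = 0 := by
  ext x y
  rw [pureM_apply]
  exact Finset.prod_eq_zero (Finset.mem_univ i) (by rw [h]; rfl)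

theorem pick_insert {T : Finset τ} {a : τ} (ha : a ∉ T) (f : τ → Matrix (Fin m) (Fin m) F) :
    pureM (pick (insert a T) f) = pureM (pick T f) * embM a (f a) := by
  rw [embM, pureM_mul]
  congr 1
  funext j
  by_cases h : j = a
  · subst h; simp [pick, ha]
  · simp [pick, h]

theorem pick_empty (f : τ → Matrix (Fin m) (Fin m) F) : pureM (pick ∅ f) = 1 := by
  rw [show pick (∅ : Finset τ) f = 1 from funext fun j => by simp [pick], pureM_one]

theorem pt_mul_self {T : Finset τ} {p : τ → Fin m × Fin m} (hT : T.Nonempty) (hp : Dist T p) :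
    (pt T p : Matrix (Ix τ m) (Ix τ m) F) * pt T p = 0 := by
  obtain ⟨j, hj⟩ := hT
  rw [pt, pureM_mul]
  refine pureM_eq_zero (i := j) ?_
  simp [pick, hj, (hp j hj).symm]

theorem cen_pick {T : Finset τ} {Y : Matrix (Ix τ m) (Ix τ m) F} (h : ∀ j ∈ T, Cen j Y)
    (f : τ → Matrix (Fin m) (Fin m) F) : pureM (pick T f) * Y = Y * pureM (pick T f) := by
  induction T using Finset.induction with
  | empty => rw [pick_empty, one_mul, mul_one]
  | insert a T ha IH =>
    rw [pick_insert ha, mul_assoc, h a (Finset.mem_insert_self _ _), ← mul_assoc,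
      IH (fun j hj => h j (Finset.mem_insert_of_mem hj)), mul_assoc]

theorem embM_comm_pick {T : Finset τ} {j : τ} (hj : j ∉ T) (b : Matrix (Fin m) (Fin m) F)
    (f : τ → Matrix (Fin m) (Fin m) F) : pureM (pick T f) * embM j b = embM j b * pureM (pick T f) :=
  cen_pick (fun _ hl => cen_embM (ne_of_mem_of_not_mem hl hj) b) f

theorem det_one_add_single {a b : Fin m} (h : a ≠ b) : (1 + (e a b : Matrix (Fin m) (Fin m) F)).det = 1 := by
  rw [e, Matrix.single_eq_single_vecMulVec_single, TensorMax.det_one_add_vecMulVec, single_dotProduct,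
    Pi.single_eq_of_ne h.symm, mul_zero, add_zero]

/-- Signed monomial conjugations between unit matrices. -/
theorem exists_conj_single (hm : 3 ≤ m) {a b a' b' : Fin m} (hab : a ≠ b) (hab' : a' ≠ b') {c : F} (hc : c ≠ 0) :
    ∃ h h' : Matrix (Fin m) (Fin m) F, h.det = 1 ∧ h * h' = 1 ∧ h * e a b * h' = c • e a' b' := by
  let π : Equiv.Perm (Fin m) := Equiv.swap (Equiv.swap a a' b) b' * Equiv.swap a a'
  have ha : π a = a' := by
    simp only [π, Equiv.Perm.mul_apply, Equiv.swap_apply_left]
    refine Equiv.swap_apply_of_ne_of_ne (fun e => hab ?_) hab'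
    exact (Equiv.swap a a').injective (by rw [Equiv.swap_apply_left]; exact e)
  have hb : π b = b' := by simp [π]
  obtain ⟨k, -, hk⟩ := Finset.exists_mem_notMem_of_card_lt_card (t := (Finset.univ : Finset (Fin m)))
    (s := {a', b'}) (by rw [Finset.card_pair hab', Finset.card_univ, Fintype.card_fin]; omega)
  simp only [Finset.mem_insert, Finset.mem_singleton, not_or] at hk
  set s : F := ((Equiv.Perm.sign π : ℤ) : F) with hs
  have hss : s * s = 1 := by
    rw [hs, ← Int.cast_mul, ← Units.val_mul, Int.units_mul_self, Units.val_one, Int.cast_one]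
  let d : Fin m → F := Function.update (Function.update 1 a' c) k (s * c⁻¹)
  have hd : ∀ x, d x ≠ 0 := fun x => by
    simp only [d, Function.update_apply]
    split_ifs
    · exact mul_ne_zero (left_ne_zero_of_mul_eq_one hss) (inv_ne_zero hc)
    · exact hc
    · exact one_ne_zero
  have hp : ∏ x, d x = s := by
    simp only [d]
    rw [Finset.prod_update_of_mem (Finset.mem_univ k), ← Finset.erase_eq]
    rw [← Finset.mul_prod_erase _ _ (Finset.mem_erase.2 ⟨Ne.symm hk.1, Finset.mem_univ a'⟩), Function.update_self,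
      Finset.prod_eq_one fun x hx => Function.update_of_ne (Finset.ne_of_mem_erase hx) _ _, mul_one, mul_assoc,
      inv_mul_cancel₀ hc, mul_one]
  refine ⟨(Matrix.diagonal d).submatrix id π, (Matrix.diagonal fun x => (d x)⁻¹).submatrix π id, ?_, ?_, ?_⟩
  · rw [Matrix.det_permute', Matrix.det_diagonal, hp, ← hs, hss]
  · rw [Matrix.submatrix_mul_equiv, Matrix.diagonal_mul_diagonal, Matrix.submatrix_id_id, ← Matrix.diagonal_one]
    exact congrArg _ (funext fun x => mul_inv_cancel₀ (hd x))
  · have he : (e a b : Matrix (Fin m) (Fin m) F) = (e a' b').submatrix π π := by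
      ext x y
      simp [Matrix.single_apply, ← ha, ← hb]
    rw [he, Matrix.submatrix_mul_equiv, Matrix.submatrix_mul_equiv, Matrix.submatrix_id_id]
    ext x y
    rw [Matrix.mul_diagonal, Matrix.diagonal_mul, Matrix.smul_apply, smul_eq_mul, e, Matrix.single_apply]
    split_ifs with h
    · obtain ⟨rfl, rfl⟩ := h
      simp only [d]
      rw [Function.update_of_ne (Ne.symm hk.1), Function.update_self, Function.update_of_ne (Ne.symm hk.2),
        Function.update_of_ne hab'.symm]
      simp
    · simp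

namespace Hyp

/-- Change of the unit matrices and the scalar. -/
theorem pt_change (H : Hyp M) (hm : 3 ≤ m) {T : Finset τ} {p q : τ → Fin m × Fin m} (hT : T.Nonempty)
    (hp : Dist T p) (hq : Dist T q) {Y : Matrix (Ix τ m) (Ix τ m) F} (hY : ∀ j ∈ T, Cen j Y)
    (h : InM M (1 + pt T p * Y)) (c : F) : InM M (1 + c • (pt T q * Y)) := by
  haveI : NeZero m := ⟨by omega⟩
  by_cases hc : c = 0
  · rw [hc, zero_smul, add_zero]; exact inM_one
  obtain ⟨j₀, hj₀⟩ := hT
  have H1 : ∀ j, ∃ g g' : Matrix (Fin m) (Fin m) F, g.det = 1 ∧ g * g' = 1 ∧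
      (j ∈ T → g * e (p j).1 (p j).2 * g' = (if j = j₀ then c else 1) • e (q j).1 (q j).2) := by
    intro j
    by_cases hj : j ∈ T
    · obtain ⟨g, g', h1, h2, h3⟩ := exists_conj_single (c := if j = j₀ then c else 1) hm (hp j hj) (hq j hj)
        (by split_ifs <;> simp [hc])
      exact ⟨g, g', h1, h2, fun _ => h3⟩
    · exact ⟨1, 1, Matrix.det_one, mul_one 1, fun h => absurd h hj⟩
  choose g g' g1 g2 g3 using H1
  have hQQ : pureM (pick T g) * pureM (pick T g') = 1 := by
    rw [pureM_mul, ← pureM_one (τ := τ) (m := m) (F := F)]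
    congr 1
    funext j
    simp only [pick, Pi.mul_apply, Pi.one_apply]
    split_ifs
    · exact g2 j
    · exact mul_one 1
  have hd : (pureM (pick T g)).det = 1 := det_pureM fun j => by
    simp only [pick]
    split_ifs
    · exact g1 j
    · exact Matrix.det_one
  have key := H.conj h hd (mono_pure _) hQQ
  have e1 : pureM (pick T g) * (pt T p * Y) * pureM (pick T g') = c • (pt T q * Y) := by
    rw [mul_assoc, mul_assoc (pt T p), ← cen_pick hY g', ← mul_assoc, ← mul_assoc, pt, pt, pureM_mul, pureM_mul,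
      ← smul_mul_assoc]
    congr 1
    ext x y
    simp only [pureM_apply, Matrix.smul_apply, smul_eq_mul]
    rw [← Finset.mul_prod_erase _ _ (Finset.mem_univ j₀), ← Finset.mul_prod_erase _ _ (Finset.mem_univ j₀),
      ← mul_assoc]
    congr 1
    · simp [pick, hj₀, g3 j₀ hj₀]
    · refine Finset.prod_congr rfl fun j hj => ?_
      have hne := Finset.ne_of_mem_erase hj
      by_cases hjT : j ∈ T
      · simp [pick, hjT, g3 j hjT, hne]
      · simp [pick, hjT]
  rwa [e1] at key

/-- One more factor. -/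
theorem grow_step (H : Hyp M) (hm : 3 ≤ m) {T : Finset τ} {p : τ → Fin m × Fin m} (hT : T.Nonempty)
    (hp : Dist T p) {Y : Matrix (Ix τ m) (Ix τ m) F} (hY : ∀ j ∈ T, Cen j Y) (h : InM M (1 + pt T p * Y))
    {j : τ} (hj : j ∉ T) (hnc : ¬ Cen j Y) :
    ∃ (p' : τ → Fin m × Fin m) (Y' : Matrix (Ix τ m) (Ix τ m) F), Dist (insert j T) p' ∧
      (∀ l ∈ insert j T, Cen l Y') ∧ Y' ≠ 0 ∧ InM M (1 + pt (insert j T) p' * Y') := by
  haveI : NeZero m := ⟨by omega⟩
  let D : Matrix (Ix τ m) (Ix τ m) F → Prop := fun Z => (∀ l ∈ T, Cen l Z) ∧ InM M (1 + pt T p * Z)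
  have hsq : ∀ Z W : Matrix (Ix τ m) (Ix τ m) F, (∀ l ∈ T, Cen l Z) → pt T p * Z * (pt T p * W) = 0 := by
    intro Z W hZ
    rw [mul_assoc, ← mul_assoc Z, show Z * pt T p = pt T p * Z from (cen_pick hZ _).symm, ← mul_assoc, ← mul_assoc,
      pt_mul_self hT hp, zero_mul, zero_mul]
  have hsub : ∀ Z W, D Z → D W → D (Z - W) := fun Z W hZ hW => by
    refine ⟨fun l hl => (hZ.1 l hl).sub (hW.1 l hl), ?_⟩
    have h1 := hW.2.neg (hsq _ _ hW.1)
    rw [sub_eq_add_neg, ← mul_neg] at h1
    rw [sub_eq_add_neg, mul_add]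
    exact hZ.2.add h1 (hsq _ _ hZ.1)
  have hneg : ∀ Z, D Z → D (-Z) := fun Z hZ => by
    have h0 : D 0 := by
      simpa using hsub Z Z hZ hZ
    simpa using hsub 0 Z h0 hZ
  have hconj : ∀ n : Matrix (Fin m) (Fin m) F, (1 + n).det = 1 → n * n = 0 → ∀ Z, D Z →
      D (embM j n * Z - Z * embM j n - embM j n * Z * embM j n) := by
    intro n hn hn2 Z hZ
    have hQQ : (1 + embM j n) * (1 - embM j n) = (1 : Matrix (Ix τ m) (Ix τ m) F) := by
      rw [mul_sub, mul_one, add_mul, one_mul, embM_mul, hn2, embM_zero, add_zero, add_sub_cancel_right]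
    have hQ : (1 + embM j n : Matrix (Ix τ m) (Ix τ m) F) = embM j (1 + n) := by rw [embM_add, embM_one]
    have hd : (1 + embM j n : Matrix (Ix τ m) (Ix τ m) F).det = 1 := by rw [hQ, det_embM, hn, one_pow]
    have hM : Mono (1 + embM j n : Matrix (Ix τ m) (Ix τ m) F) := hQ ▸ mono_pure _
    have e1 : (1 + embM j n) * (pt T p * Z) * (1 - embM j n) = pt T p * ((1 + embM j n) * Z * (1 - embM j n)) := by
      rw [hQ, ← mul_assoc, pt, ← embM_comm_pick hj, mul_assoc, mul_assoc, mul_assoc]
    have hZ' : D ((1 + embM j n) * Z * (1 - embM j n)) := by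
      refine ⟨fun l hl => ?_, e1 ▸ H.conj hZ.2 hd hM hQQ⟩
      have hl' : l ≠ j := ne_of_mem_of_not_mem hl hj
      exact (((Cen.one l).add (cen_embM hl' n)).mul (hZ.1 l hl)).mul ((Cen.one l).sub (cen_embM hl' n))
    have := hsub _ _ hZ' hZ
    convert this using 1
    noncomm_ring
  have hYD : D Y := ⟨hY, h⟩
  have hN : ∀ {a d : Fin m}, a ≠ d → ∀ Z, D Z →
      D (embM j (e a d) * Z - Z * embM j (e a d) - embM j (e a d) * Z * embM j (e a d)) :=
    fun hab Z hZ => hconj _ (det_one_add_single hab) (e_mul_e_ne hab.symm) Z hZ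
  suffices hX : ∃ (a d : Fin m) (X : Matrix (Ix τ m) (Ix τ m) F), a ≠ d ∧ X ≠ 0 ∧ D X ∧
      embM j (e a a) * X * embM j (e d d) = X by
    obtain ⟨a, d, X, had, hX0, hXD, hX⟩ := hX
    set Y' := ∑ x, embM j (e x a) * X * embM j (e d x) with hY'
    have hc : Cen j Y' := cen_of_units fun u v => by
      rw [hY', Finset.mul_sum, Finset.sum_mul, Finset.sum_eq_single v, Finset.sum_eq_single u]
      · rw [← mul_assoc, ← mul_assoc, embM_e_mul, mul_assoc _ _ (embM j (e u v)), embM_e_mul]
      · intro x _ hx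
        rw [mul_assoc _ _ (embM j (e u v)), embM_e_mul_ne j hx, mul_zero]
      · simp
      · intro x _ hx
        rw [← mul_assoc, ← mul_assoc, embM_e_mul_ne j (Ne.symm hx), zero_mul, zero_mul]
      · simp
    have hmul : embM j (e a d) * Y' = X := by
      rw [hY', Finset.mul_sum, Finset.sum_eq_single d, ← mul_assoc, ← mul_assoc, embM_e_mul, hX]
      · intro x _ hx
        rw [← mul_assoc, ← mul_assoc, embM_e_mul_ne j (Ne.symm hx), zero_mul, zero_mul]
      · simp
    refine ⟨Function.update p j (a, d), Y', fun l hl => ?_, fun l hl => ?_, fun h0 => hX0 (by rw [← hmul, h0, mul_zero]),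
      ?_⟩
    · by_cases hlj : l = j
      · subst hlj; simpa using had
      · rw [Function.update_of_ne hlj]; exact hp l (Finset.mem_of_mem_insert_of_ne hl hlj)
    · rcases Finset.mem_insert.1 hl with rfl | hl
      · exact hc
      · exact Cen.sum _ fun x _ => ((cen_embM (ne_of_mem_of_not_mem hl hj) _).mul (hXD.1 l hl)).mul
          (cen_embM (ne_of_mem_of_not_mem hl hj) _)
    · have : pt (insert j T) (Function.update p j (a, d)) * Y' = (pt T p * X : Matrix (Ix τ m) (Ix τ m) F) := by
        rw [pt, pick_insert hj, ← hmul, ← mul_assoc, Function.update_self, pt]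
        congr 3
        funext l
        simp only [pick]
        split_ifs with hl
        · rw [Function.update_of_ne (ne_of_mem_of_not_mem hl hj)]
        · rfl
      rw [this]; exact hXD.2
  by_cases hoff : ∃ a d : Fin m, a ≠ d ∧ embM j (e a d) * Y * embM j (e a d) ≠ 0
  · obtain ⟨a, d, had, h0⟩ := hoff
    refine ⟨a, d, _, had, h0, ?_, by rw [← mul_assoc, ← mul_assoc, embM_e_mul, mul_assoc _ _ (embM j (e d d)),
      embM_e_mul]⟩
    obtain ⟨c, -, hc⟩ := Finset.exists_mem_notMem_of_card_lt_card (t := (Finset.univ : Finset (Fin m)))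
      (s := {a, d}) (by rw [Finset.card_pair had, Finset.card_univ, Fintype.card_fin]; omega)
    simp only [Finset.mem_insert, Finset.mem_singleton, not_or] at hc
    have hboth := hconj (e a c + e a d)
      (by
        rw [e, e, Matrix.single_eq_single_vecMulVec_single, Matrix.single_eq_single_vecMulVec_single,
          ← Matrix.vecMulVec_add, TensorMax.det_one_add_vecMulVec, add_dotProduct, single_dotProduct,
          single_dotProduct, Pi.single_eq_of_ne hc.1, Pi.single_eq_of_ne had.symm]
        simp)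
      (by rw [mul_add, add_mul, add_mul, e_mul_e_ne hc.1, e_mul_e_ne had.symm, e_mul_e_ne hc.1,
        e_mul_e_ne had.symm, add_zero, add_zero]) Y hYD
    have hbil := hneg _ (hsub _ _ (hsub _ _ hboth (hN (Ne.symm hc.1) Y hYD)) (hN had Y hYD))
    rw [embM_add] at hbil
    set N := (embM j (e a c) : Matrix (Ix τ m) (Ix τ m) F) with hNdef
    set N' := (embM j (e a d) : Matrix (Ix τ m) (Ix τ m) F) with hN'def
    have hb2 : D (N * Y * N' + N' * Y * N) := by
      convert hbil using 1
      noncomm_ring
    have := hN hc.2 _ hb2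
    set K := (embM j (e c d) : Matrix (Ix τ m) (Ix τ m) F) with hK
    have k1 : K * N = 0 := embM_e_mul_ne j had.symm
    have k2 : K * N' = 0 := embM_e_mul_ne j had.symm
    have k3 : N' * K = 0 := embM_e_mul_ne j (Ne.symm hc.2)
    have k4 : N * K = N' := embM_e_mul j a c d
    simp only [mul_add, add_mul, ← mul_assoc, k1, k2, zero_mul, add_zero, zero_sub, sub_zero] at this
    simp only [mul_assoc, k3, k4, mul_zero, zero_add] at this
    simpa [mul_assoc] using hneg _ this
  · push Not at hoff
    have hz : ∀ a b : Fin m, a ≠ b → embM j (e a a) * Y * embM j (e b b) = 0 := fun a b hab => by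
      have := congrArg (fun Z => embM j (e a b) * Z * embM j (e a b)) (hoff b a hab.symm)
      simp only [← mul_assoc, embM_e_mul, mul_zero, zero_mul] at this
      rwa [mul_assoc _ _ (embM j (e a b)), embM_e_mul] at this
    have hl : ∀ a : Fin m, embM j (e a a) * Y = embM j (e a a) * Y * embM j (e a a) := fun a => by
      conv_lhs => rw [← mul_one (embM j (e a a) * Y), ← sum_e_diag j, Finset.mul_sum]
      exact Finset.sum_eq_single a (fun b _ hb => hz a b hb.symm) (by simp)
    have hr : ∀ a : Fin m, Y * embM j (e a a) = embM j (e a a) * Y * embM j (e a a) := fun a => by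
      conv_lhs => rw [← one_mul (Y * embM j (e a a)), ← sum_e_diag j, Finset.sum_mul]
      simp only [← mul_assoc]
      exact Finset.sum_eq_single a (fun b _ hb => hz b a hb) (by simp)
    obtain ⟨a, d, had, h0⟩ : ∃ a d : Fin m, a ≠ d ∧ embM j (e a d) * Y ≠ Y * embM j (e a d) := by
      by_contra hall
      push Not at hall
      refine hnc (cen_of_units fun a b => ?_)
      by_cases hab : a = b
      · subst hab
        obtain ⟨d, hd⟩ : ∃ d : Fin m, a ≠ d := by
          haveI : Nontrivial (Fin m) := Fin.nontrivial_iff_two_le.2 (by omega)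
          obtain ⟨d, hd⟩ := exists_ne a; exact ⟨d, hd.symm⟩
        rw [← embM_e_mul j a d a, mul_assoc, hall d a hd.symm, ← mul_assoc, hall a d hd, mul_assoc]
      · exact hall a b hab
    refine ⟨a, d, _, had, sub_ne_zero.2 h0, ?_, ?_⟩
    · have := hN had Y hYD
      rwa [hoff a d had, sub_zero] at this
    · set N := (embM j (e a d) : Matrix (Ix τ m) (Ix τ m) F) with hNdef
      set A := (embM j (e a a) : Matrix (Ix τ m) (Ix τ m) F)
      set B := (embM j (e d d) : Matrix (Ix τ m) (Ix τ m) F)
      have n1 : A * N = N := embM_e_mul j a a d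
      have n2 : N * B = N := embM_e_mul j a d d
      rw [mul_sub, sub_mul]
      congr 1
      · rw [← mul_assoc, n1]
        calc N * Y * B = N * (B * Y * B) := by simp only [← mul_assoc, n2]
          _ = N * (B * Y) := by rw [← hl]
          _ = N * Y := by rw [← mul_assoc, n2]
      · rw [mul_assoc, mul_assoc, n2]
        calc A * (Y * N) = A * Y * A * N := by simp only [mul_assoc, n1]
          _ = Y * A * N := by rw [← hr]
          _ = Y * N := by rw [mul_assoc, n1]

theorem pt_singleton (i : τ) (a b : Fin m) :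
    (pt {i} (fun _ => (a, b)) : Matrix (Ix τ m) (Ix τ m) F) = embM i (e a b) := by
  rw [show ({i} : Finset τ) = insert i ∅ from rfl, pt, pick_insert (Finset.notMem_empty i), pick_empty, one_mul]

/-- Further factors until all are used. -/
theorem exists_pt (H : Hyp M) (hm : 3 ≤ m) : ∀ (k : ℕ) {T : Finset τ} {p : τ → Fin m × Fin m}
    {Y : Matrix (Ix τ m) (Ix τ m) F}, Fintype.card τ - T.card = k → 2 ≤ T.card → Dist T p →
    (∀ j ∈ T, Cen j Y) → Y ≠ 0 → InM M (1 + pt T p * Y) →
    ∃ (T : Finset τ) (p : τ → Fin m × Fin m), 2 ≤ T.card ∧ Dist T p ∧ InM M (1 + pt T p) := by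
  haveI : NeZero m := ⟨by omega⟩
  intro k
  induction k using Nat.strong_induction_on with
  | _ k IH =>
    intro T p Y hk h2 hp hY h0 hin
    have hT : T.Nonempty := Finset.card_pos.1 (by omega)
    by_cases hall : ∀ j, Cen j Y
    · obtain ⟨c, rfl⟩ := exists_eq_smul_one_of_cen hall
      have hc : c ≠ 0 := fun e => h0 (by rw [e, zero_smul])
      have := H.pt_change hm hT hp hp hY hin c⁻¹
      rw [mul_smul_comm, mul_one, smul_smul, inv_mul_cancel₀ hc, one_smul] at this
      exact ⟨T, p, h2, hp, this⟩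
    · push Not at hall
      obtain ⟨j, hj⟩ := hall
      have hjT : j ∉ T := fun h => hj (hY j h)
      obtain ⟨p', Y', a1, a2, a3, a4⟩ := H.grow_step hm hT hp hY hin hjT hj
      refine IH _ ?_ rfl (by rw [Finset.card_insert_of_notMem hjT]; omega) a1 a2 a3 a4
      have := Finset.card_le_univ (insert j T)
      rw [Finset.card_insert_of_notMem hjT] at this ⊢
      omega

theorem inM_commutator {A B : Matrix (Ix τ m) (Ix τ m) F} (hA : InM M (1 + A)) (hB : InM M (1 + B))
    (a2 : A * A = 0) (b2 : B * B = 0) (ba : B * A = 0) : InM M (1 + A * B) := by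
  have := ((hA.mul hB).mul (hA.neg a2)).mul (hB.neg b2)
  convert this using 1
  simp only [mul_add, add_mul, mul_sub, sub_mul, one_mul, mul_one]
  have t1 : A * B * A = 0 := by rw [mul_assoc, ba, mul_zero]
  have t2 : A * B * B = 0 := by rw [mul_assoc, b2, mul_zero]
  simp only [a2, b2, ba, t1, t2, zero_mul, sub_zero, add_zero]
  abel

/-- A product of roots on two or more factors gives everything. -/
theorem top_of_pt (H : Hyp M) (hm : 3 ≤ m) : ∀ (k : ℕ) {T : Finset τ} {p : τ → Fin m × Fin m},
    Fintype.card τ - T.card = k → 2 ≤ T.card → Dist T p → InM M (1 + pt T p) → Top M := by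
  haveI : NeZero m := ⟨by omega⟩
  let a0 : Fin m := ⟨0, by omega⟩
  let a1 : Fin m := ⟨1, by omega⟩
  let a2 : Fin m := ⟨2, by omega⟩
  have h01 : a0 ≠ a1 := by simp [a0, a1, Fin.ext_iff]
  have h12 : a1 ≠ a2 := by simp [a1, a2, Fin.ext_iff]
  have h20 : a2 ≠ a0 := by simp [a0, a2, Fin.ext_iff]
  intro k
  induction k using Nat.strong_induction_on with
  | _ k IH =>
    intro T p hk h2 hp hin
    have hT : T.Nonempty := Finset.card_pos.1 (by omega)
    have hall : ∀ q : τ → Fin m × Fin m, Dist T q → ∀ c : F, InM M (1 + c • pt T q) := fun q hq c => by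
      have := H.pt_change hm hT hp hq (fun j _ => Cen.one j) (by rwa [mul_one]) c
      rwa [mul_one] at this
    by_cases hTu : T = Finset.univ
    · subst hTu
      set N : Subgroup (SpecialLinearGroup (Ix τ m) F) := M.comap Matrix.SpecialLinearGroup.toGL
      have hfar : ∀ (x y : Ix τ m) (hxy : x ≠ y), (∀ j, x j ≠ y j) → ∀ c : F,
          SpecialLinearGroup.transvection hxy c ∈ N := by
        intro x y hxy hj c
        obtain ⟨g, hg, hg'⟩ := hall (fun j => (x j, y j)) (fun j _ => hj j) c
        show Matrix.SpecialLinearGroup.toGL _ ∈ M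
        convert hg using 1
        refine Units.ext (Eq.trans ?_ hg'.symm)
        show (SpecialLinearGroup.transvection hxy c).1 = _
        rw [SpecialLinearGroup.transvection_coe]
        congr 1
        ext u v
        rw [Matrix.smul_apply, pt, pureM_apply, Matrix.single_apply]
        by_cases huv : x = u ∧ y = v
        · obtain ⟨rfl, rfl⟩ := huv
          simp [pick]
        · rw [if_neg huv]
          obtain ⟨i, hi⟩ : ∃ i, ¬ (x i = u i ∧ y i = v i) := by
            by_contra hh
            push Not at hh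
            exact huv ⟨funext fun i => (hh i).1, funext fun i => (hh i).2⟩
          rw [Finset.prod_eq_zero (Finset.mem_univ i) (by simp [pick, Matrix.single_apply, hi]), smul_zero]
      intro g hg
      haveI : Nontrivial (Ix τ m) := by
        obtain ⟨j, -⟩ := hT
        exact ⟨⟨fun _ => a0, fun _ => a1, fun e => h01 (congrFun e j)⟩⟩
      have htop : N = ⊤ := eq_top_of_transvection_mem N fun x y hxy c => by
        have hex : ∀ j, ∃ v : Fin m, x j ≠ v ∧ v ≠ y j := fun j => by
          obtain ⟨v, -, hv⟩ := Finset.exists_mem_notMem_of_card_lt_card (t := (Finset.univ : Finset (Fin m)))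
            (s := {x j, y j}) (by
              rw [Finset.card_univ, Fintype.card_fin]
              exact lt_of_le_of_lt Finset.card_le_two (by omega))
          simp only [Finset.mem_insert, Finset.mem_singleton, not_or] at hv
          exact ⟨v, Ne.symm hv.1, hv.2⟩
        choose v hv1 hv2 using hex
        obtain ⟨j, -⟩ := hT
        have n1 : x ≠ v := fun e => hv1 j (congrFun e j)
        have n2 : v ≠ y := fun e => hv2 j (congrFun e j)
        rw [← commutator_transvection hxy n1 n2 c, commutatorElement_def]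
        exact N.mul_mem (N.mul_mem (N.mul_mem (hfar x v n1 hv1 c) (hfar v y n2 hv2 1))
          (N.inv_mem (hfar x v n1 hv1 c))) (N.inv_mem (hfar v y n2 hv2 1))
      let gs : SpecialLinearGroup (Ix τ m) F := ⟨g.1, hg⟩
      have hmem : gs ∈ N := by rw [htop]; exact Subgroup.mem_top _
      have e : g = Matrix.SpecialLinearGroup.toGL gs := Units.ext rfl
      exact e ▸ hmem
    · obtain ⟨l, hl⟩ : ∃ l, l ∉ T := by
        by_contra hh
        push Not at hh
        exact hTu (Finset.eq_univ_iff_forall.2 hh)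
      obtain ⟨i, hi, j, hj, hij⟩ := Finset.one_lt_card.1 (show 1 < T.card by omega)
      have hli : l ≠ i := fun e => hl (e ▸ hi)
      have hlj : l ≠ j := fun e => hl (e ▸ hj)
      set σ : Equiv.Perm τ := (Equiv.swap i j * Equiv.swap j l) * (Equiv.swap i j * Equiv.swap j l) with hσ
      have hsi : σ i = l := by
        simp [hσ, Equiv.swap_apply_of_ne_of_ne, hij, hij.symm, hli, hlj, hlj.symm, hli.symm]
      have hsj : σ j = i := by
        simp [hσ, Equiv.swap_apply_of_ne_of_ne, hij, hij.symm, hli, hlj, hlj.symm, hli.symm]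
      have hd : (permM F m σ).det = 1 := by
        have e1 := det_permM_sq (F := F) (m := m) _ (Equiv.swap_mul_self i j)
        have e2 := det_permM_sq (F := F) (m := m) _ (Equiv.swap_mul_self j l)
        rw [hσ, ← permM_mul, ← permM_mul, Matrix.det_mul, Matrix.det_mul]
        linear_combination (permM F m (Equiv.swap j l)).det * (permM F m (Equiv.swap j l)).det * e1 + e2
      set T' : Finset τ := T.map σ.toEmbedding with hT'
      have hmem : ∀ u, σ.symm u ∈ T ↔ u ∈ T' := fun u => by simp [hT']
      set q : τ → Fin m × Fin m := fun u => if u ∈ T then (a1, a2) else (a0, a1) with hq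
      have hB : InM M (1 + pt T' q) := by
        have h1 := hall (fun u => q (σ u)) (fun u _ => by
          simp only [hq]; split_ifs
          · exact h12
          · exact h01) 1
        rw [one_smul] at h1
        have h3 := H.conj h1 hd (mono_perm σ) (permM_mul_inv σ)
        rwa [pt, permM_mul_pureM, mul_assoc, permM_mul_inv, mul_one,
          show (fun u => pick T (fun w => e (q (σ w)).1 (q (σ w)).2) (σ.symm u)) =
            (pick T' fun u => (e (q u).1 (q u).2 : Matrix (Fin m) (Fin m) F)) from funext fun u => by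
            simp only [pick, Equiv.apply_symm_apply, hmem]] at h3
      have hA : InM M (1 + pt T (fun _ => (a0, a1))) := by
        have := hall (fun _ => (a0, a1)) (fun u _ => h01) 1
        rwa [one_smul] at this
      have hiT' : i ∈ T' := (hmem i).1 (by rw [show σ.symm i = j by rw [Equiv.symm_apply_eq, hsj]]; exact hj)
      have hlT' : l ∈ T' := (hmem l).1 (by rw [show σ.symm l = i by rw [Equiv.symm_apply_eq, hsi]]; exact hi)
      have hqd : Dist T' q := fun u _ => by
        simp only [hq]; split_ifs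
        · exact h12
        · exact h01
      have hBA : (pt T' q : Matrix (Ix τ m) (Ix τ m) F) * pt T (fun _ => (a0, a1)) = 0 := by
        rw [pt, pt, pureM_mul]
        refine pureM_eq_zero (i := i) ?_
        simp [pick, hi, hiT', hq, h20]
      have hAB := inM_commutator hA hB (pt_mul_self hT fun u _ => h01) (pt_mul_self ⟨i, hiT'⟩ hqd) hBA
      have e1 : (pt T (fun _ => (a0, a1)) : Matrix (Ix τ m) (Ix τ m) F) * pt T' q =
          pt (T ∪ T') (fun u => if u ∈ T ∧ u ∈ T' then (a0, a2) else (a0, a1)) := by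
        rw [pt, pt, pt, pureM_mul]
        congr 1
        funext u
        by_cases h1 : u ∈ T <;> by_cases h2 : u ∈ T' <;> simp [pick, hq, h1, h2]
      rw [e1] at hAB
      have hlt : T.card < (T ∪ T').card :=
        Finset.card_lt_card (Finset.ssubset_iff_subset_ne.2 ⟨Finset.subset_union_left, fun e =>
          hl (e ▸ Finset.mem_union_right _ hlT')⟩)
      have := Finset.card_le_univ (T ∪ T')
      exact IH _ (by omega) rfl (by omega) (fun u _ => by
        split_ifs
        · exact h20.symm
        · exact h01) hAB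

/-- The scalar lemma: in a proper intermediate group only scalars occur next to a root. -/
theorem eq_smul_one (H : Hyp M) (hm : 3 ≤ m) (hTop : ¬ Top M) {i : τ} {a b : Fin m} (hab : a ≠ b)
    {Y : Matrix (Ix τ m) (Ix τ m) F} (hY : Cen i Y) (h : InM M (1 + embM i (e a b) * Y)) :
    ∃ c : F, Y = c • 1 := by
  haveI : NeZero m := ⟨by omega⟩
  by_contra hns
  obtain ⟨j, hj⟩ : ∃ j, ¬ Cen j Y := by
    by_contra hall
    push Not at hall
    exact hns (exists_eq_smul_one_of_cen hall)
  have hji : j ∉ ({i} : Finset τ) := fun hm' => hj (Finset.mem_singleton.1 hm' ▸ hY)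
  rw [← pt_singleton i a b] at h
  obtain ⟨p', Y', a1, a2, a3, a4⟩ := H.grow_step hm (Finset.singleton_nonempty i) (fun l _ => hab)
    (fun l hl => by rw [Finset.mem_singleton.1 hl]; exact hY) h hji hj
  obtain ⟨T, p, b1, b2, b3⟩ := H.exists_pt hm _ rfl
    (by rw [Finset.card_insert_of_notMem hji, Finset.card_singleton]) a1 a2 a3 a4
  exact hTop (H.top_of_pt hm _ rfl b1 b2 b3)

end Hyp

end CfsgLib.Classical.TensorWreath
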